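import Cfsg.Agent.Lib.Steiner.Closure

/-!
The sixteen points outside a block of an S(5,8,24): coordinates by four words, planes.
-/

namespace Cfsg.Agent.Steiner

open Cfsg Finset

variable {α : Type*} [Fintype α] [DecidableEq α] {B : Set (Finset α)}

/-- The words of the closure inside the complement of `o`, as far as needed. -/
noncomputable def outWords (B : Set (Finset α)) (o : Finset α) : Finset (Finset α) :=
  insert ∅ (insert oᶜ ((blocks B).filter fun c => o ∩ c = ∅))

theorem card_compl_block (hα : Fintype.card α = 24) (hB : IsSteinerSystem 5 8 B) {o : Finset α}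
    (ho : o ∈ B) : (oᶜ).card = 16 := by rw [card_compl, hα, card_of_mem hB ho]

theorem mem_outWords (hα : Fintype.card α = 24) (hB : IsSteinerSystem 5 8 B) {o : Finset α}
    (ho : o ∈ B) {s : Finset α} : s ∈ outWords B o ↔ InCl B s ∧ s ⊆ oᶜ := by
  have h16 := card_compl_block hα hB ho
  simp only [outWords, mem_insert, mem_filter, mem_blocks]
  constructor
  · rintro (rfl | rfl | ⟨hs, he⟩)
    · exact ⟨InCl.empty, empty_subset _⟩
    · exact ⟨InCl.compl_block hα hB ho, subset_refl _⟩
    · exact ⟨InCl.of_mem hs, subset_compl_iff_disjoint_right.2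
        (disjoint_iff_inter_eq_empty.2 (by rwa [inter_comm]))⟩
  · rintro ⟨hs, hsub⟩
    have hle := card_le_card hsub
    obtain ⟨k, hk⟩ := InCl.four hα hB hs
    have : k ≤ 4 := by omega
    interval_cases k
    · exact Or.inl (card_eq_zero.1 hk)
    · exact absurd hk (InCl.ne_four hα hB hs)
    · refine Or.inr (Or.inr ⟨InCl.mem_of_card hα hB hs hk, ?_⟩)
      rw [← disjoint_iff_inter_eq_empty]
      exact (subset_compl_iff_disjoint_right.1 hsub).symm
    · exfalso
      refine InCl.ne_four hα hB (InCl.symm hs (InCl.compl_block hα hB ho)) ?_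
      have := card_symmDiff_add s oᶜ
      rw [inter_eq_left.2 hsub, h16, hk] at this
      omega
    · exact Or.inr (Or.inl (eq_of_subset_of_card_le hsub (by omega)))

theorem card_outWords (hα : Fintype.card α = 24) (hB : IsSteinerSystem 5 8 B) {o : Finset α}
    (ho : o ∈ B) : (outWords B o).card = 32 := by
  have h16 := card_compl_block hα hB ho
  have h30 : ((blocks B).filter fun c => o ∩ c = ∅).card = 30 := exactly24 hα hB ho ∅ (empty_subset _)
  rw [outWords, card_insert_of_notMem, card_insert_of_notMem, h30]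
  · intro h
    have := card_of_mem hB (mem_blocks.1 (mem_filter.1 h).1)
    omega
  · rw [mem_insert, not_or]
    refine ⟨fun h => ?_, fun h => ?_⟩
    · rw [← h] at h16; simp at h16
    · have := card_of_mem hB (mem_blocks.1 (mem_filter.1 h).1)
      simp at this

/-- The span of a list of sets under symmetric difference. -/
def spanSets : List (Finset α) → Finset (Finset α)
  | [] => {∅}
  | b :: l => spanSets l ∪ (spanSets l).image (symmDiff b)

theorem card_spanSets_le (l : List (Finset α)) : (spanSets l).card ≤ 2 ^ l.length := by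
  induction l with
  | nil => simp [spanSets]
  | cons b l ih =>
    refine (card_union_le _ _).trans ?_
    rw [List.length_cons, pow_succ]
    have := card_image_le (s := spanSets l) (f := symmDiff b)
    omega

theorem spanSets_subset {S : Finset (Finset α)} (h0 : ∅ ∈ S)
    (hS : ∀ s ∈ S, ∀ t ∈ S, symmDiff s t ∈ S) : ∀ l : List (Finset α), (∀ b ∈ l, b ∈ S) → spanSets l ⊆ S := by
  intro l
  induction l with
  | nil => intro _; simpa [spanSets] using h0
  | cons b l ih =>
    intro h
    have hb := h b List.mem_cons_self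
    have hl := ih fun c hc => h c (List.mem_cons_of_mem _ hc)
    refine union_subset hl fun s hs => ?_
    obtain ⟨t, ht, rfl⟩ := mem_image.1 hs
    exact hS b hb t (hl ht)

/-- An independent family outside a block: `span (oᶜ :: l)` has full size. -/
theorem exists_indep (hα : Fintype.card α = 24) (hB : IsSteinerSystem 5 8 B) {o : Finset α}
    (ho : o ∈ B) : ∀ k ≤ 4, ∃ l : List (Finset α), l.length = k ∧ (∀ b ∈ l, b ∈ outWords B o) ∧
      (spanSets (l ++ [oᶜ])).card = 2 ^ (k + 1) := by
  have hcl : ∀ s ∈ outWords B o, ∀ t ∈ outWords B o, symmDiff s t ∈ outWords B o := fun s hs t ht => by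
    rw [mem_outWords hα hB ho] at hs ht ⊢
    exact ⟨InCl.symm hs.1 ht.1, (symmDiff_le_sup (a := s) (b := t)).trans (union_subset hs.2 ht.2)⟩
  have h0 : ∅ ∈ outWords B o := mem_insert_self _ _
  intro k
  induction k with
  | zero =>
    intro _
    refine ⟨[], rfl, by simp, ?_⟩
    have h16 := card_compl_block hα hB ho
    have hne : symmDiff oᶜ (∅ : Finset α) ≠ ∅ := by
      rw [← bot_eq_empty, symmDiff_bot, bot_eq_empty]
      intro h; rw [h] at h16; simp at h16
    simp only [List.nil_append, spanSets, image_singleton]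
    rw [card_union_of_disjoint (disjoint_singleton.2 hne.symm)]
    simp
  | succ k ih =>
    intro hk
    obtain ⟨l, hl, hmem, hcard⟩ := ih (by omega)
    have hmem' : ∀ b ∈ l ++ [oᶜ], b ∈ outWords B o := fun b hb => by
      rcases List.mem_append.1 hb with h | h
      · exact hmem b h
      · rw [List.mem_singleton.1 h]; exact mem_insert_of_mem (mem_insert_self _ _)
    have hsub := spanSets_subset h0 hcl _ hmem'
    obtain ⟨a, ha, hna⟩ := exists_mem_notMem_of_card_lt_card (s := spanSets (l ++ [oᶜ]))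
      (t := outWords B o) (by
        rw [hcard, card_outWords hα hB ho]
        exact lt_of_lt_of_le (Nat.pow_lt_pow_right (by norm_num) (by omega : k + 1 < 5)) (by norm_num))
    refine ⟨a :: l, by simp [hl], List.forall_mem_cons.2 ⟨ha, hmem⟩, ?_⟩
    rw [List.cons_append, spanSets, card_union_of_disjoint, card_image_of_injective _
      (symmDiff_right_injective a), hcard, pow_succ 2 (k + 1)]
    · omega
    · refine Finset.disjoint_left.2 fun s hs hs' => hna ?_
      obtain ⟨t, ht, rfl⟩ := mem_image.1 hs'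
      have key : ∀ l : List (Finset α), ∀ s ∈ spanSets l, ∀ t ∈ spanSets l, symmDiff s t ∈ spanSets l := by
        intro l
        induction l with
        | nil => simp [spanSets]
        | cons b l ih =>
          intro s hs t ht
          simp only [spanSets, mem_union, mem_image] at hs ht ⊢
          rcases hs with hs | ⟨s', hs', rfl⟩ <;> rcases ht with ht | ⟨t', ht', rfl⟩
          · exact Or.inl (ih s hs t ht)
          · exact Or.inr ⟨_, ih s hs t' ht', by rw [symmDiff_left_comm]⟩
          · exact Or.inr ⟨_, ih s' hs' t ht, by rw [symmDiff_assoc]⟩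
          · refine Or.inl ?_
            rw [symmDiff_assoc, symmDiff_left_comm s', symmDiff_symmDiff_cancel_left]
            exact ih s' hs' t' ht'
      have := key _ _ hs t ht
      rwa [symmDiff_symmDiff_cancel_right] at this

/-- Two points outside `o` are separated by some word. -/
theorem exists_separate (hα : Fintype.card α = 24) (hB : IsSteinerSystem 5 8 B) {o : Finset α}
    (ho : o ∈ B) {x y : α} (hx : x ∉ o) (hy : y ∉ o) (hne : x ≠ y) :
    ∃ d ∈ outWords B o, x ∈ d ∧ y ∉ d := by
  have h8 := card_of_mem hB ho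
  have four : ∀ Q ⊆ o, Q.card = 4 → ∀ z ∉ o, ∃ b ∈ B, Q ⊆ b ∧ z ∈ b ∧ o ∩ b = Q ∧ (b \ o).card = 4 := by
    intro Q hQ hQc z hz
    obtain ⟨b, ⟨hb, hsub⟩, -⟩ := hB.2 (insert z Q)
      (by rw [card_insert_of_notMem (fun h => hz (hQ h)), hQc])
    have hQb : Q ⊆ b := (subset_insert _ _).trans hsub
    have hzb : z ∈ b := hsub (mem_insert_self _ _)
    have hne : o ≠ b := fun e => hz (e ▸ hzb)
    have h4 : 4 ≤ (o ∩ b).card := hQc ▸ card_le_card (subset_inter hQ hQb)
    have h := inter_card_le hB ho hb hne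
    have e : o ∩ b = Q := (eq_of_subset_of_card_le (subset_inter hQ hQb) (by omega)).symm
    refine ⟨b, hb, hQb, hzb, e, ?_⟩
    have h2 := card_sdiff_add_card_inter b o
    rw [inter_comm, e, hQc, card_of_mem hB hb] at h2
    omega
  obtain ⟨T, hT, hT3⟩ := exists_subset_card_eq (s := o) (n := 3) (by omega)
  obtain ⟨p, hp, q, hq, hpq⟩ := one_lt_card.1 (show 1 < (o \ T).card by
    rw [card_sdiff_of_subset hT]; omega)
  rw [mem_sdiff] at hp hq
  obtain ⟨b1, hb1, hs1, hx1, he1, hc1⟩ := four (insert p T) (insert_subset hp.1 hT)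
    (by rw [card_insert_of_notMem hp.2, hT3]) x hx
  obtain ⟨b2, hb2, hs2, hx2, he2, hc2⟩ := four (insert q T) (insert_subset hq.1 hT)
    (by rw [card_insert_of_notMem hq.2, hT3]) x hx
  obtain ⟨Q, hQo, hQc, b, hb, hQb, hxb, hyb, he, hc⟩ : ∃ Q, Q ⊆ o ∧ Q.card = 4 ∧ ∃ b ∈ B,
      Q ⊆ b ∧ x ∈ b ∧ y ∉ b ∧ o ∩ b = Q ∧ (b \ o).card = 4 := by
    by_cases h1 : y ∈ b1
    · refine ⟨insert q T, insert_subset hq.1 hT, by rw [card_insert_of_notMem hq.2, hT3], b2, hb2,
        hs2, hx2, fun h2 => ?_, he2, hc2⟩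
      have hbne : b1 ≠ b2 := fun e => by
        have : q ∈ o ∩ b1 := mem_inter.2 ⟨hq.1, e ▸ hs2 (mem_insert_self _ _)⟩
        rw [he1, mem_insert] at this
        rcases this with rfl | h
        · exact hpq rfl
        · exact hq.2 h
      have : insert x (insert y T) ⊆ b1 ∩ b2 := by
        simp only [insert_subset_iff, mem_inter]
        exact ⟨⟨hx1, hx2⟩, ⟨h1, h2⟩, subset_inter ((subset_insert _ _).trans hs1)
          ((subset_insert _ _).trans hs2)⟩
      have h5 := card_le_card this
      rw [card_insert_of_notMem (by simp only [mem_insert, not_or]; exact ⟨hne, fun h => hx (hT h)⟩),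
        card_insert_of_notMem (fun h => hy (hT h)), hT3] at h5
      have := inter_card_le hB hb1 hb2 hbne
      omega
    · exact ⟨insert p T, insert_subset hp.1 hT, by rw [card_insert_of_notMem hp.2, hT3], b1, hb1,
        hs1, hx1, h1, he1, hc1⟩
  obtain ⟨c, hc', hQc', hyc, hce, hcc⟩ := four Q hQo hQc y hy
  obtain ⟨z, hz⟩ : (oᶜ \ ((b \ o) ∪ (c \ o))).Nonempty := by
    rw [← card_pos]
    have h1 := card_union_le (b \ o) (c \ o)
    have h2 := le_card_sdiff ((b \ o) ∪ (c \ o)) oᶜ
    have h16 := card_compl_block hα hB ho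
    omega
  simp only [mem_sdiff, mem_compl, mem_union, not_or] at hz
  obtain ⟨d, hd, hQd, hzd, hde, -⟩ := four Q hQo hQc z hz.1
  have hbd : b ≠ d := fun e => hz.2.1 ⟨e ▸ hzd, hz.1⟩
  have hcd : c ≠ d := fun e => hz.2.2 ⟨e ▸ hzd, hz.1⟩
  have hint : ∀ {u v : Finset α}, u ∈ B → v ∈ B → u ≠ v → Q ⊆ u → Q ⊆ v → u ∩ v = Q := by
    intro u v hu hv hne h1 h2
    have := inter_card_le hB hu hv hne
    exact (eq_of_subset_of_card_le (subset_inter h1 h2) (by omega)).symm
  refine ⟨symmDiff b d, (mem_outWords hα hB ho).2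
    ⟨InCl.symm (InCl.of_mem hb) (InCl.of_mem hd), fun w hw => mem_compl.2 fun hwo => ?_⟩, ?_, ?_⟩
  · rw [mem_symmDiff] at hw
    have h1 : w ∈ b ↔ w ∈ d := by
      constructor <;> intro h
      · exact hQd (he ▸ mem_inter.2 ⟨hwo, h⟩)
      · exact hQb (hde ▸ mem_inter.2 ⟨hwo, h⟩)
    tauto
  · refine mem_symmDiff.2 (Or.inl ⟨hxb, fun h => hx (hQo ?_)⟩)
    rw [← hint hb hd hbd hQb hQd]
    exact mem_inter.2 ⟨hxb, h⟩
  · rw [mem_symmDiff]
    rintro (⟨h, -⟩ | ⟨h, -⟩)
    · exact hyb h
    · exact hy (hQo (hint hc' hd hcd hQc' hQd ▸ mem_inter.2 ⟨hyc, h⟩))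

theorem mem_spanSets_iff {x y : α} : ∀ l : List (Finset α), (∀ b ∈ l, (x ∈ b ↔ y ∈ b)) →
    ∀ s ∈ spanSets l, (x ∈ s ↔ y ∈ s) := by
  intro l
  induction l with
  | nil => intro _ s hs; simp [spanSets] at hs; simp [hs]
  | cons b l ih =>
    intro h s hs
    have ihl := ih fun c hc => h c (List.mem_cons_of_mem _ hc)
    simp only [spanSets, mem_union, mem_image] at hs
    rcases hs with hs | ⟨t, ht, rfl⟩
    · exact ihl s hs
    · rw [mem_symmDiff, mem_symmDiff, h b List.mem_cons_self, ihl t ht]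

/-- Coordinates on the sixteen points outside a block. -/
theorem exists_coords (hα : Fintype.card α = 24) (hB : IsSteinerSystem 5 8 B) {o : Finset α}
    (ho : o ∈ B) : ∃ a : Fin 4 → Finset α, (∀ i, InCl B (a i)) ∧ (∀ i, a i ⊆ oᶜ) ∧
      Function.Bijective (fun x : {x // x ∈ oᶜ} => fun i => decide ((x : α) ∈ a i)) := by
  obtain ⟨l, hl, hmem, hcard⟩ := exists_indep hα hB ho 4 le_rfl
  let a : Fin 4 → Finset α := fun i => l[(i : ℕ)]'(by omega)
  refine ⟨a, fun i => ((mem_outWords hα hB ho).1 (hmem _ (List.getElem_mem _))).1,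
    fun i => ((mem_outWords hα hB ho).1 (hmem _ (List.getElem_mem _))).2, ?_⟩
  refine (Fintype.bijective_iff_injective_and_card _).2 ⟨?_, ?_⟩
  · rintro ⟨x, hx⟩ ⟨y, hy⟩ h
    by_contra hne
    have hne' : x ≠ y := fun e => hne (Subtype.ext e)
    obtain ⟨d, hd, hxd, hyd⟩ := exists_separate hα hB ho (mem_compl.1 hx) (mem_compl.1 hy) hne'
    have hsame : ∀ b ∈ l ++ [oᶜ], (x ∈ b ↔ y ∈ b) := fun b hb => by
      rcases List.mem_append.1 hb with hb | hb
      · obtain ⟨i, hi, rfl⟩ := List.getElem_of_mem hb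
        have := congrFun h ⟨i, by omega⟩
        simpa [a] using this
      · rw [List.mem_singleton.1 hb]; simp [hx, hy]
    have heq : spanSets (l ++ [oᶜ]) = outWords B o := by
      refine eq_of_subset_of_card_le (spanSets_subset (S := outWords B o) (mem_insert_self _ _) ?_ _ ?_)
        (by rw [card_outWords hα hB ho, hcard]; norm_num)
      · intro s hs t ht
        rw [mem_outWords hα hB ho] at hs ht ⊢
        exact ⟨InCl.symm hs.1 ht.1, (symmDiff_le_sup (a := s) (b := t)).trans (union_subset hs.2 ht.2)⟩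
      · intro b hb
        rcases List.mem_append.1 hb with h | h
        · exact hmem b h
        · rw [List.mem_singleton.1 h]; exact mem_insert_of_mem (mem_insert_self _ _)
    exact hyd ((mem_spanSets_iff _ hsame d (heq ▸ hd)).1 hxd)
  · rw [Fintype.card_coe, card_compl_block hα hB ho]
    simp

/-- An even set for the coordinates meeting a block: the block through a plane. -/
theorem exists_plane_word (hα : Fintype.card α = 24) (hB : IsSteinerSystem 5 8 B) {o : Finset α}
    (ho : o ∈ B) {a : Fin 4 → Finset α} (ha : ∀ i, InCl B (a i)) (hsub : ∀ i, a i ⊆ oᶜ)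
    (hinj : Function.Injective (fun x : {x // x ∈ oᶜ} => fun i => decide ((x : α) ∈ a i)))
    {y : Finset α} (hy : y ⊆ oᶜ) (hy4 : y.card = 4) (heven : ∀ i, Even (y ∩ a i).card) :
    ∃ b, InCl B b ∧ b \ o = y := by
  obtain ⟨z, hz⟩ := card_pos.1 (show 0 < o.card by rw [card_of_mem hB ho]; norm_num)
  have hzy : z ∉ y := fun h => mem_compl.1 (hy h) hz
  obtain ⟨b, ⟨hb, hsub'⟩, -⟩ := hB.2 (insert z y) (by rw [card_insert_of_notMem hzy, hy4])
  refine ⟨b, InCl.of_mem hb, ?_⟩
  have hyb : y ⊆ b \ o := fun w hw => mem_sdiff.2 ⟨hsub' (mem_insert_of_mem hw), mem_compl.1 (hy hw)⟩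
  have h2 := card_sdiff_add_card_inter b o
  rw [card_of_mem hB hb] at h2
  have hzb : z ∈ b ∩ o := mem_inter.2 ⟨hsub' (mem_insert_self _ _), hz⟩
  have hpos := card_pos.2 ⟨z, hzb⟩
  have hle := card_le_card hyb
  have hne : b ≠ o := fun e => by rw [e, Finset.sdiff_self] at hle; simp [hy4] at hle
  rcases inter24 hα hB hb ho hne with h | h | h
  · omega
  · exfalso
    obtain ⟨u, v, huv, he⟩ := card_eq_two.1 (show ((b \ o) \ y).card = 2 by
      rw [card_sdiff_of_subset hyb]; omega)
    have hu : u ∈ (b \ o) \ y := he ▸ mem_insert_self _ _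
    have hv : v ∈ (b \ o) \ y := he ▸ mem_insert_of_mem (mem_singleton_self _)
    simp only [mem_sdiff] at hu hv
    refine huv (congrArg Subtype.val (hinj (a₁ := ⟨u, mem_compl.2 hu.1.2⟩)
      (a₂ := ⟨v, mem_compl.2 hv.1.2⟩) (funext fun i => ?_)))
    have hev := InCl.even hα hB (ha i) (InCl.of_mem hb)
    have hsplit : b ∩ a i = (y ∩ a i) ∪ (({u, v} : Finset α) ∩ a i) := by
      ext w
      simp only [mem_inter, mem_union, ← he, mem_sdiff]
      constructor
      · rintro ⟨hwb, hwa⟩
        have := mem_compl.1 (hsub i hwa)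
        by_cases hwy : w ∈ y
        · exact Or.inl ⟨hwy, hwa⟩
        · exact Or.inr ⟨⟨⟨hwb, this⟩, hwy⟩, hwa⟩
      · rintro (⟨hwy, hwa⟩ | ⟨⟨⟨hwb, -⟩, -⟩, hwa⟩)
        · exact ⟨(mem_sdiff.1 (hyb hwy)).1, hwa⟩
        · exact ⟨hwb, hwa⟩
    rw [hsplit, card_union_of_disjoint] at hev
    · obtain ⟨p, hp⟩ := hev
      obtain ⟨q, hq⟩ := heven i
      by_cases h1 : u ∈ a i <;> by_cases h2 : v ∈ a i <;>
        simp only [h1, h2, decide_true, decide_false]
      · rw [insert_inter_of_mem h1, singleton_inter_of_notMem h2] at hp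
        simp at hp; omega
      · rw [insert_inter_of_notMem h1, singleton_inter_of_mem h2] at hp
        simp at hp; omega
    · refine Finset.disjoint_left.2 fun w h1 h2 => ?_
      simp only [mem_inter, mem_insert, mem_singleton] at h1 h2
      rcases h2.1 with rfl | rfl
      · exact hu.2 h1.1
      · exact hv.2 h1.1
  · exact (eq_of_subset_of_card_le hyb (by omega)).symm

end Cfsg.Agent.Steiner
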