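import Mathlib.Data.List.GetD
import Cfsg.Agent.Lib.Steiner.Outside
import Cfsg.Agent.Lib.Golay.Basic

/-!
Uniqueness of S(5,8,24): an isomorphism from the octads of the length-24 code.
-/

namespace Cfsg.Agent.Steiner

open Cfsg Finset Cfsg.Agent.Golay

/-- The reference octad. -/
def stdO : ℕ := 5279

/-- Its complement. -/
def stdOut : ℕ := 16771936

/-- Four octads outside the reference octad. -/
def stdA : List ℕ := [1009728, 1256224, 2220640, 4645632]

/-- Octads meeting the reference octad in a pair through its first point. -/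
def stdY : List ℕ := [352547, 52005, 213833, 442481, 493953, 175681, 334433]

/-- Planes summing to the outside parts of `stdY`. -/
def stdDec : List (List ℕ) :=
  [[10528, 16992, 68352, 262496], [16992, 35136], [16992, 68352, 133664],
    [16992, 35136, 133664, 262496], [35136, 68352, 133664, 262496], [10528, 35136, 133664],
    [68352, 262496]]

/-- The points of the reference octad. -/
def stdPts : List ℕ := [0, 1, 2, 3, 4, 7, 10, 12]

/-- Coordinates of a point outside the reference octad. -/
def stdPat (p : GolayPt) : Fin 4 → Bool := fun k => (stdA.getD (k : ℕ) 0).testBit (idx p)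

theorem stdPat_bij : ∀ p q : GolayPt, stdO.testBit (idx p) = false →
    stdO.testBit (idx q) = false → stdPat p = stdPat q → p = q := by
  decide +kernel

theorem std_out : ∀ p : GolayPt, stdOut.testBit (idx p) = !(stdO.testBit (idx p)) := by decide +kernel

theorem std_facts : (∀ k : Fin 4, stdA.getD (k : ℕ) 0 &&& stdO = 0) ∧
    (∀ i : Fin 7, (stdDec.getD (i : ℕ) []).all (fun y =>
      Nat.beq (popCount y 24) 4 && Nat.beq (y &&& stdO) 0 &&
        stdA.all fun a => Nat.beq (popCount (y &&& a) 24 % 2) 0) = true) ∧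
    (∀ i : Fin 7, (stdDec.getD (i : ℕ) []).foldr (fun y acc => y ^^^ acc) 0
      = stdY.getD (i : ℕ) 0 &&& stdOut) ∧
    (∀ i : Fin 7, popCount (stdY.getD (i : ℕ) 0 &&& stdOut) 24 = 6) ∧
    (∀ i j : Fin 7, i ≠ j →
      popCount ((stdY.getD (i : ℕ) 0 &&& stdOut) &&& (stdY.getD (j : ℕ) 0 &&& stdOut)) 24 % 2 = 1) ∧
    (∀ i : Fin 7, ∀ p : GolayPt, (stdY.getD (i : ℕ) 0 &&& stdO).testBit (idx p)
      = (decide (idx p = stdPts.getD 0 0) || decide (idx p = stdPts.getD ((i : ℕ) + 1) 0))) ∧
    (gBasis.all (fun v => memB v.2 (spanList ([stdO, stdOut] ++ stdA ++ stdY))) = true) := by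
  decide +kernel

theorem stdPts_spec : ∀ p : GolayPt, stdO.testBit (idx p) = true → idx p ∈ stdPts := by decide +kernel

theorem stdPts_idx : ∀ j : Fin 8, stdPts.getD (j : ℕ) 0 < 24 ∧ stdO.testBit (stdPts.getD (j : ℕ) 0) = true ∧
    stdPts.idxOf (stdPts.getD (j : ℕ) 0) = (j : ℕ) := by decide

/-- Seven pairs meeting one another in one point form a star. -/
theorem star_of_pairs {α : Type*} [DecidableEq α] (P : Fin 7 → Finset α) (hcard : ∀ i, (P i).card = 2)
    (hint : ∀ i j, i ≠ j → (P i ∩ P j).card = 1) :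
    ∃ (x : α) (other : Fin 7 → α), Function.Injective other ∧
      ∀ i, other i ≠ x ∧ P i = {x, other i} := by
  classical
  obtain ⟨x, hx⟩ := card_eq_one.1 (hint 0 1 (by decide))
  have hx0 : x ∈ P 0 := (mem_inter.1 (hx ▸ mem_singleton_self x)).1
  have hx1 : x ∈ P 1 := (mem_inter.1 (hx ▸ mem_singleton_self x)).2
  have hne : ∀ i j, i ≠ j → P i ≠ P j := fun i j h e => by
    have := hint i j h; rw [e, inter_self, hcard] at this; omega
  obtain ⟨a, ha⟩ := card_eq_one.1 (show ((P 0).erase x).card = 1 by rw [card_erase_of_mem hx0, hcard])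
  obtain ⟨b, hb⟩ := card_eq_one.1 (show ((P 1).erase x).card = 1 by rw [card_erase_of_mem hx1, hcard])
  have hP0 : P 0 = {x, a} := by rw [← insert_erase hx0, ha]
  have hP1 : P 1 = {x, b} := by rw [← insert_erase hx1, hb]
  have hab : a ≠ b := fun e => hne 0 1 (by decide) (by rw [hP0, hP1, e])
  have notx : ∀ j, x ∉ P j → P j = {a, b} := by
    intro j hj
    have h0 : j ≠ 0 := fun e => hj (e ▸ hx0)
    have h1 : j ≠ 1 := fun e => hj (e ▸ hx1)
    have hm : ∀ {i : Fin 7} {c : α}, P i = {x, c} → i ≠ j → c ∈ P j := by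
      intro i c hi hne
      obtain ⟨z, hz⟩ := card_eq_one.1 (hint i j hne)
      have hz' := mem_inter.1 (hz ▸ mem_singleton_self z)
      rw [hi, mem_insert, mem_singleton] at hz'
      rcases hz'.1 with rfl | rfl
      · exact absurd hz'.2 hj
      · exact hz'.2
    refine (eq_of_subset_of_card_le (insert_subset (hm hP0 h0.symm)
      (singleton_subset_iff.2 (hm hP1 h1.symm))) ?_).symm
    rw [hcard, card_pair hab]
  have all : ∀ j, x ∈ P j := by
    intro j
    by_contra hj
    obtain ⟨k, hk, hxk⟩ : ∃ k : Fin 7, k ∉ ({0, 1, j} : Finset (Fin 7)) ∧ x ∈ P k := by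
      obtain ⟨k, hk⟩ := (by decide : ∀ j : Fin 7, ∃ k : Fin 7, k ∉ ({0, 1, j} : Finset (Fin 7))) j
      refine ⟨k, hk, ?_⟩
      by_contra hk'
      simp only [mem_insert, mem_singleton, not_or] at hk
      exact hne k j hk.2.2 ((notx k hk').trans (notx j hj).symm)
    simp only [mem_insert, mem_singleton, not_or] at hk
    obtain ⟨z, hz⟩ := card_eq_one.1 (hint k j hk.2.2)
    have hz' := mem_inter.1 (hz ▸ mem_singleton_self z)
    rw [notx j hj, mem_insert, mem_singleton] at hz'
    have hzx : z ≠ x := fun e => hj (e ▸ (mem_inter.1 (hz ▸ mem_singleton_self z)).2)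
    have hPk : P k = {x, z} := (eq_of_subset_of_card_le (insert_subset hxk
      (singleton_subset_iff.2 hz'.1)) (by rw [hcard, card_pair hzx.symm])).symm
    rcases hz'.2 with rfl | rfl
    · exact hne k 0 hk.1 (hPk.trans hP0.symm)
    · exact hne k 1 hk.2.1 (hPk.trans hP1.symm)
  have h1 : ∀ i, ∃ c, (P i).erase x = {c} := fun i =>
    card_eq_one.1 (by rw [card_erase_of_mem (all i), hcard])
  choose other hother using h1
  have hP : ∀ i, P i = {x, other i} := fun i => by rw [← insert_erase (all i), hother i]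
  refine ⟨x, other, fun i j h => ?_, fun i => ⟨fun e => ?_, hP i⟩⟩
  · by_contra hij; exact hne i j hij (by rw [hP, hP, h])
  · exact notMem_erase x (P i) (by rw [hother i, e]; exact mem_singleton_self x)

theorem symmDiff_sdiff_right {β : Type*} [DecidableEq β] (s t o : Finset β) :
    symmDiff s t \ o = symmDiff (s \ o) (t \ o) := by
  ext z; simp only [mem_sdiff, mem_symmDiff]; tauto

theorem symmDiff_self_left {β : Type*} [DecidableEq β] (c o : Finset β) :
    symmDiff o c \ o = c \ o ∧ symmDiff o c ∩ o = o \ (c ∩ o) := by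
  constructor
  · ext z; simp only [mem_sdiff, mem_symmDiff]; tauto
  · ext z; simp only [mem_sdiff, mem_symmDiff, mem_inter]; tauto

theorem inter_split {β : Type*} [DecidableEq β] (s t o : Finset β) :
    s ∩ t = ((s ∩ o) ∩ (t ∩ o)) ∪ ((s \ o) ∩ (t \ o)) := by
  ext z; simp only [mem_inter, mem_union, mem_sdiff]; tauto

variable {α : Type*} [Fintype α] [DecidableEq α] {B : Set (Finset α)}

theorem exists_iso_octads (hα : Fintype.card α = 24) (hB : IsSteinerSystem 5 8 B) :
    ∃ e : GolayPt ≃ α, (fun b => b.image e) '' octads = B := by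
  classical
  obtain ⟨hA0, hdec, hfold, hy6, hyodd, hypair, hspan⟩ := std_facts
  obtain ⟨o, ho⟩ : (blocks B).Nonempty := by
    rw [← card_pos]
    have := card_blocks hB
    rw [hα] at this
    rcases Nat.eq_zero_or_pos (blocks B).card with h | h
    · rw [h] at this; exact absurd this (by decide)
    · exact h
  rw [mem_blocks] at ho
  have ho8 := card_of_mem hB ho
  obtain ⟨a, ha, hasub, hbij⟩ := exists_coords hα hB ho
  -- the map outside
  choose f0 hf0 using fun p : GolayPt => hbij.2 (stdPat p)
  let f : GolayPt → α := fun p => (f0 p : α)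
  have hf : ∀ p, f p ∈ oᶜ := fun p => (f0 p).2
  have hfa : ∀ p i, (f p ∈ a i ↔ stdPat p i = true) := fun p i => by
    rw [← congrFun (hf0 p) i, decide_eq_true_eq]
  have hfinj : ∀ p q, stdO.testBit (idx p) = false → stdO.testBit (idx q) = false → f p = f q → p = q := by
    intro p q hp hq h
    refine stdPat_bij p q hp hq ?_
    rw [← hf0 p, ← hf0 q]
    simp only [show f0 p = f0 q from Subtype.ext h]
  let img : ℕ → Finset α := fun m => (maskSet m).image f
  have outside : ∀ {m : ℕ}, m &&& stdO = 0 → ∀ p ∈ maskSet m, stdO.testBit (idx p) = false := by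
    intro m hm p hp
    have := congrArg (fun n => Nat.testBit n (idx p)) hm
    simp only [Nat.testBit_and, Nat.zero_testBit, mem_maskSet.1 hp, Bool.true_and] at this
    exact this
  have himgA : ∀ (y : ℕ), y &&& stdO = 0 → ∀ i : Fin 4,
      (img y ∩ a i).card = popCount (y &&& stdA.getD (i : ℕ) 0) 24 := by
    intro y hy i
    rw [← card_maskSet, ← card_image_of_injOn (f := f) (s := maskSet (y &&& stdA.getD (i : ℕ) 0))]
    · refine congrArg Finset.card ?_
      ext z
      simp only [img, mem_inter, mem_image, mem_maskSet, Nat.testBit_and, Bool.and_eq_true]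
      constructor
      · rintro ⟨⟨p, hp, rfl⟩, hz⟩
        exact ⟨p, ⟨hp, by simpa [stdPat] using (hfa p i).1 hz⟩, rfl⟩
      · rintro ⟨p, ⟨hp, hp'⟩, rfl⟩
        exact ⟨⟨p, hp, rfl⟩, (hfa p i).2 (by simpa [stdPat] using hp')⟩
    · intro p hp q hq h
      simp only [maskSet_and, coe_inter, Set.mem_inter_iff, mem_coe] at hp hq
      exact hfinj p q (outside hy p hp.1) (outside hy q hq.1) h
  have himg_card : ∀ y, y &&& stdO = 0 → (img y).card = popCount y 24 := fun y hy => by
    rw [← card_maskSet]
    exact card_image_of_injOn fun p hp q hq h => hfinj p q (outside hy p hp) (outside hy q hq) h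
  have himg_sub : ∀ y, img y ⊆ oᶜ := fun y z hz => by
    obtain ⟨p, -, rfl⟩ := mem_image.1 hz; exact hf p
  have himg_xor : ∀ y z, y &&& stdO = 0 → z &&& stdO = 0 →
      img (y ^^^ z) = symmDiff (img y) (img z) := by
    intro y z hy hz
    have e : maskSet (y ^^^ z) = symmDiff (maskSet y) (maskSet z) := by
      ext p
      simp only [mem_maskSet, Nat.testBit_xor, mem_symmDiff]
      cases y.testBit (idx p) <;> cases z.testBit (idx p) <;> simp
    ext w
    simp only [img, e, mem_image, mem_symmDiff]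
    constructor
    · rintro ⟨p, ⟨h1, h2⟩ | ⟨h1, h2⟩, rfl⟩
      · exact Or.inl ⟨⟨p, h1, rfl⟩, fun ⟨q, hq, he⟩ =>
          h2 (hfinj q p (outside hz q hq) (outside hy p h1) he ▸ hq)⟩
      · exact Or.inr ⟨⟨p, h1, rfl⟩, fun ⟨q, hq, he⟩ =>
          h2 (hfinj q p (outside hy q hq) (outside hz p h1) he ▸ hq)⟩
    · rintro (⟨⟨p, h1, rfl⟩, h2⟩ | ⟨⟨p, h1, rfl⟩, h2⟩)
      · exact ⟨p, Or.inl ⟨h1, fun h => h2 ⟨p, h, rfl⟩⟩, rfl⟩
      · exact ⟨p, Or.inr ⟨h1, fun h => h2 ⟨p, h, rfl⟩⟩, rfl⟩
  -- words over the planes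
  have lift : ∀ l : List ℕ, (∀ y ∈ l, popCount y 24 = 4 ∧ y &&& stdO = 0 ∧
      ∀ i : Fin 4, popCount (y &&& stdA.getD (i : ℕ) 0) 24 % 2 = 0) →
      ∃ c, InCl B c ∧ c \ o = img (l.foldr (fun y acc => y ^^^ acc) 0) ∧
        l.foldr (fun y acc => y ^^^ acc) 0 &&& stdO = 0 := by
    intro l
    induction l with
    | nil => intro _; exact ⟨∅, InCl.empty, by simp [img, maskSet], by simp⟩
    | cons y l ih =>
      intro h
      obtain ⟨h4, hy0, hyA⟩ := h y List.mem_cons_self
      obtain ⟨c, hc, hce, hl0⟩ := ih fun z hz => h z (List.mem_cons_of_mem _ hz)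
      obtain ⟨b, hb, hbe⟩ := exists_plane_word hα hB ho ha hasub hbij.1 (himg_sub y)
        (by rw [himg_card y hy0, h4])
        (fun i => by rw [himgA y hy0 i, Nat.even_iff]; exact hyA i)
      refine ⟨symmDiff b c, InCl.symm hb hc, ?_, by rw [List.foldr_cons, Nat.and_xor_distrib_right, hy0, hl0]; rfl⟩
      rw [List.foldr_cons, himg_xor y _ hy0 hl0, ← hbe, ← hce]
      exact symmDiff_sdiff_right _ _ _
  let Y : Fin 7 → ℕ := fun i => stdY.getD (i : ℕ) 0 &&& stdOut
  have hY0 : ∀ i, Y i &&& stdO = 0 := fun i => by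
    simp only [Y]; rw [Nat.and_assoc, show stdOut &&& stdO = 0 by decide, Nat.and_zero]
  have hpair : ∀ i : Fin 7, ∃ c, InCl B c ∧ c \ o = img (Y i) ∧ (c ∩ o).card = 2 := by
    intro i
    obtain ⟨c, hc, hce, -⟩ := lift (stdDec.getD (i : ℕ) []) (fun y hy => by
      have h := List.all_eq_true.1 (hdec i) y hy
      simp only [Bool.and_eq_true, List.all_eq_true, Nat.beq_eq] at h
      refine ⟨h.1.1, h.1.2, fun k => h.2 _ ?_⟩
      have hk : (k : ℕ) < stdA.length := by have := k.2; simp [stdA]
      rw [List.getD_eq_getElem _ _ hk]; exact List.getElem_mem hk)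
    rw [hfold i] at hce
    obtain ⟨r, hr⟩ := InCl.four hα hB hc
    have h6 : (c \ o).card = 6 := by rw [hce, himg_card _ (hY0 i)]; exact hy6 i
    have hsum := card_sdiff_add_card_inter c o
    have hle := card_le_card (inter_subset_right (s₁ := c) (s₂ := o))
    rw [ho8] at hle
    rcases (show (c ∩ o).card = 2 ∨ (c ∩ o).card = 6 by omega) with h | h
    · exact ⟨c, hc, hce, h⟩
    · refine ⟨symmDiff o c, InCl.symm (InCl.of_mem ho) hc, ?_, ?_⟩
      · rw [← hce]; exact (symmDiff_self_left c o).1
      · rw [(symmDiff_self_left c o).2, card_sdiff_of_subset inter_subset_right, ho8, h]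
  choose c hc hce hc2 using hpair
  obtain ⟨x, other, hoinj, hox⟩ := star_of_pairs (fun i => c i ∩ o) hc2 fun i j hij => by
    obtain ⟨r, hr⟩ := InCl.even hα hB (hc j) (hc i)
    have hodd : ((c i \ o) ∩ (c j \ o)).card % 2 = 1 := by
      rw [hce, hce, show img (Y i) ∩ img (Y j) = img (Y i &&& Y j) from ?_,
        himg_card _ (by rw [Nat.and_assoc, hY0, Nat.and_zero])]
      · exact hyodd i j hij
      · ext z
        simp only [img, maskSet_and, mem_inter, mem_image]
        constructor
        · rintro ⟨⟨p, hp, rfl⟩, q, hq, he⟩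
          exact ⟨p, ⟨hp, hfinj q p (outside (hY0 j) q hq) (outside (hY0 i) p hp) he ▸ hq⟩, rfl⟩
        · rintro ⟨p, ⟨hp, hq⟩, rfl⟩
          exact ⟨⟨p, hp, rfl⟩, p, hq, rfl⟩
    have e := inter_split (c i) (c j) o
    rw [e, card_union_of_disjoint (Finset.disjoint_left.2 fun z h1 h2 =>
      (mem_sdiff.1 (mem_inter.1 h2).1).2 (mem_inter.1 (mem_inter.1 h1).1).2)] at hr
    have := card_le_card (inter_subset_left (s₁ := c i ∩ o) (s₂ := c j ∩ o))
    rw [hc2] at this
    show ((c i ∩ o) ∩ (c j ∩ o)).card = 1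
    omega
  -- the map on the octad
  let g : Fin 8 → α := Fin.cons x other
  have hginj : Function.Injective g := Fin.cons_injective_iff.2
    ⟨by rintro ⟨i, hi⟩; exact (hox i).1 hi, hoinj⟩
  have hgo : ∀ j, g j ∈ o := by
    have hmem : ∀ i, ∀ z ∈ ({x, other i} : Finset α), z ∈ o := fun i z hz =>
      (mem_inter.1 (show z ∈ c i ∩ o from (hox i).2.symm ▸ hz)).2
    refine Fin.cases ?_ ?_
    · exact hmem 0 x (mem_insert_self _ _)
    · intro i; exact hmem i _ (by simp [g])
  let e0 : GolayPt → α := fun p =>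
    if stdO.testBit (idx p) then g (Fin.ofNat 8 (stdPts.idxOf (idx p))) else f p
  have he0inj : Function.Injective e0 := by
    intro p q h
    have hside : ∀ p, (e0 p ∈ o ↔ stdO.testBit (idx p) = true) := fun p => by
      simp only [e0]
      split_ifs with hp
      · exact iff_of_true (hgo _) hp
      · exact iff_of_false (mem_compl.1 (hf p)) hp
    by_cases hp : stdO.testBit (idx p) = true
    · have hq : stdO.testBit (idx q) = true := (hside q).1 (h ▸ (hside p).2 hp)
      simp only [e0, hp, hq, if_true] at h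
      have hlt : ∀ p : GolayPt, stdO.testBit (idx p) = true → stdPts.idxOf (idx p) < 8 := fun p hp =>
        List.idxOf_lt_length_iff.2 (stdPts_spec p hp)
      have := congrArg Fin.val (hginj h)
      rw [Fin.val_ofNat, Fin.val_ofNat, Nat.mod_eq_of_lt (hlt p hp), Nat.mod_eq_of_lt (hlt q hq)] at this
      exact idx_injective ((List.idxOf_inj (stdPts_spec p hp)).1 this)
    · have hq : ¬ stdO.testBit (idx q) = true := fun hq => hp ((hside p).1 (h ▸ (hside q).2 hq))
      simp only [e0, hp, hq] at h
      exact hfinj p q (by simpa using hp) (by simpa using hq) h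
  let e : GolayPt ≃ α := Equiv.ofBijective e0
    ((Fintype.bijective_iff_injective_and_card _).2 ⟨he0inj, by rw [hα]; simp [GolayPt]⟩)
  refine ⟨e, ?_⟩
  have hout : ∀ y, y &&& stdO = 0 → (maskSet y).image e = img y := fun y hy => by
    refine image_congr fun p hp => ?_
    show e0 p = f p
    simp only [e0, outside hy p hp, Bool.false_eq_true, if_false]
  have heO : (maskSet stdO).image e = o := by
    refine eq_of_subset_of_card_le (fun z hz => ?_)
      (by rw [card_image_of_injective _ e.injective, card_maskSet, ho8]; decide)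
    obtain ⟨p, hp, rfl⟩ := mem_image.1 hz
    show e0 p ∈ o
    simp only [e0, mem_maskSet.1 hp, if_true, hgo]
  have heOut : (maskSet stdOut).image e = oᶜ := by
    rw [show maskSet stdOut = (maskSet stdO)ᶜ by
      ext p; rw [mem_compl, mem_maskSet, mem_maskSet, std_out]; simp]
    rw [← heO]
    ext z
    obtain ⟨p, rfl⟩ := e.surjective z
    simp [e.injective.eq_iff]
  have hA : ∀ k : Fin 4, InCl B ((maskSet (stdA.getD (k : ℕ) 0)).image e) := fun k => by
    rw [hout _ (hA0 k)]
    refine (?_ : img _ = a k) ▸ ha k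
    ext z
    constructor
    · intro hz
      obtain ⟨p, hp, rfl⟩ := mem_image.1 hz
      exact (hfa p k).2 (mem_maskSet.1 hp)
    · intro hz
      obtain ⟨p, hp⟩ := e.surjective z
      have hzo := mem_compl.1 (hasub k hz)
      have hpo : stdO.testBit (idx p) = false := by
        by_contra h
        rw [← hp, ← heO] at hzo
        exact hzo (mem_image_of_mem _ (mem_maskSet.2 (by simpa using h)))
      have hzf : z = f p := by
        rw [← hp]; show e0 p = f p
        simp only [e0, hpo, Bool.false_eq_true, if_false]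
      rw [hzf] at hz ⊢
      exact mem_image_of_mem f (mem_maskSet.2 ((hfa p k).1 hz))
  have hYimg : ∀ i : Fin 7, (maskSet (stdY.getD (i : ℕ) 0)).image e = c i := fun i => by
    have e1 : maskSet (stdY.getD (i : ℕ) 0) = maskSet (stdY.getD (i : ℕ) 0 &&& stdO) ∪ maskSet (Y i) := by
      ext p
      simp only [Y, mem_union, mem_maskSet, Nat.testBit_and, std_out]
      cases (stdY.getD (i : ℕ) 0).testBit (idx p) <;> cases stdO.testBit (idx p) <;> simp
    have e2 : (maskSet (stdY.getD (i : ℕ) 0 &&& stdO)).image e = c i ∩ o := by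
      rw [(hox i).2]
      ext z
      have he : ∀ p : GolayPt, ∀ j : Fin 8, idx p = stdPts.getD (j : ℕ) 0 → e p = g j := fun p j hj => by
        show e0 p = g j
        obtain ⟨-, h2, h3⟩ := stdPts_idx j
        simp only [e0, hj, h2, if_true, h3, Fin.ofNat_val_eq_self]
      have hget : ∀ p : GolayPt, p ∈ maskSet (stdY.getD (i : ℕ) 0 &&& stdO) ↔
          (idx p = stdPts.getD ((0 : Fin 8) : ℕ) 0 ∨ idx p = stdPts.getD ((i.succ : Fin 8) : ℕ) 0) :=
        fun p => by rw [mem_maskSet, hypair i p, Bool.or_eq_true, decide_eq_true_eq, decide_eq_true_eq]; simp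
      simp only [mem_image, hget, mem_insert, mem_singleton]
      constructor
      · rintro ⟨p, hp | hp, rfl⟩
        · exact Or.inl (he p 0 hp)
        · exact Or.inr (he p i.succ hp)
      · rintro (rfl | rfl)
        · exact ⟨pt ⟨_, (stdPts_idx 0).1⟩, Or.inl (idx_pt _), he _ 0 (idx_pt _)⟩
        · exact ⟨pt ⟨_, (stdPts_idx i.succ).1⟩, Or.inr (idx_pt _), he _ i.succ (idx_pt _)⟩
    rw [e1, image_union, e2, hout _ (hY0 i), ← hce i, union_comm, sdiff_union_inter]
  have hgen : ∀ m ∈ [stdO, stdOut] ++ stdA ++ stdY, InCl B ((maskSet m).image e) := by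
    intro m hm
    simp only [List.mem_append, List.mem_cons, List.not_mem_nil, or_false] at hm
    rcases hm with ((rfl | rfl) | hm) | hm
    · rw [heO]; exact InCl.of_mem ho
    · rw [heOut]; exact InCl.compl_block hα hB ho
    · obtain ⟨i, hi, rfl⟩ := List.getElem_of_mem hm
      have := hA ⟨i, by simpa [stdA] using hi⟩
      rwa [List.getD_eq_getElem _ _ hi] at this
    · obtain ⟨i, hi, rfl⟩ := List.getElem_of_mem hm
      have := hYimg ⟨i, by simpa [stdY] using hi⟩
      rw [List.getD_eq_getElem _ _ hi] at this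
      rw [this]; exact hc _
  have hclosed : ∀ l : List ℕ, (∀ m ∈ l, InCl B ((maskSet m).image e)) →
      ∀ m ∈ spanList l, InCl B ((maskSet m).image e) := by
    intro l
    induction l with
    | nil =>
      intro _ m hm
      simp only [spanList, List.mem_singleton] at hm
      subst hm
      simpa [maskSet] using (InCl.empty : InCl B ∅)
    | cons b l ih =>
      intro h m hm
      have ihl := ih fun z hz => h z (List.mem_cons_of_mem _ hz)
      simp only [spanList, List.mem_append, List.mem_map] at hm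
      rcases hm with hm | ⟨z, hz, rfl⟩
      · exact ihl m hm
      · have e' : maskSet (b ^^^ z) = symmDiff (maskSet b) (maskSet z) := by
          ext p
          simp only [mem_maskSet, Nat.testBit_xor, mem_symmDiff]
          cases b.testBit (idx p) <;> cases z.testBit (idx p) <;> simp
        rw [e', image_symmDiff _ _ e.injective]
        exact InCl.symm (h b List.mem_cons_self) (ihl z hz)
  have hsub : (fun b => b.image e) '' octads ⊆ B := by
    rintro _ ⟨s, hs, rfl⟩
    obtain ⟨m, hm, rfl⟩ := mem_octads.1 hs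
    refine InCl.mem_of_card hα hB ?_ (by rw [card_image_of_injective _ e.injective, card_octad hs])
    refine hclosed _ (fun b hb => ?_) m (mem_octadList.1 hm).1
    obtain ⟨v, hv, rfl⟩ := List.mem_map.1 hb
    exact hclosed _ hgen _ (memB_spec (List.all_eq_true.1 hspan v hv))
  refine Set.eq_of_subset_of_ncard_le hsub ?_ (Set.toFinite _)
  rw [Set.ncard_image_of_injective _ (image_injective e.injective), ncard_octads]
  have h := card_blocks hB
  rw [hα, show (24 : ℕ).choose 5 = 759 * 56 by decide, show (8 : ℕ).choose 5 = 56 by decide] at h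
  have h2 := Set.ncard_eq_toFinset_card B
  rw [h2]
  exact le_of_eq (Nat.eq_of_mul_eq_mul_right (by norm_num) h)

/-- **Uniqueness of S(5,8,24).** -/
theorem iso24 {β : Type*} [Fintype β] [DecidableEq β] (hα : Fintype.card α = 24)
    (hβ : Fintype.card β = 24) {B' : Set (Finset β)} (hB : IsSteinerSystem 5 8 B)
    (hB' : IsSteinerSystem 5 8 B') : SetSystemIso B B' := by
  obtain ⟨e, he⟩ := exists_iso_octads hα hB
  obtain ⟨e', he'⟩ := exists_iso_octads hβ hB'
  refine ⟨e.symm.trans e', ?_⟩
  rw [← he, ← he', Set.image_image]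
  refine Set.image_congr' fun b => ?_
  rw [image_image]
  exact image_congr fun p _ => by simp

end Cfsg.Agent.Steiner
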