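import Cfsg.Agent.Lib.Steiner.AutTransfer
import Cfsg.Agent.Lib.PlaneFour.Extend
import Cfsg.Agent.Lib.Classical.SL
import Cfsg.Agent.Lib.Golay.Mathieu
import Mathlib.LinearAlgebra.Projectivization.Action
import Mathlib.LinearAlgebra.Projectivization.Cardinality
import Mathlib.LinearAlgebra.Projectivization.Independence

/-!
The stabiliser of three points as the linear group of the plane of order four.
-/

namespace Cfsg.Agent.PlanePSL

open Cfsg Finset Cfsg.Agent.Golay
open Cfsg.Agent.Lib.PlaneFour.Basic (IsPlane Oval Indep)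
open scoped Pointwise LinearAlgebra.Projectivization

set_option maxRecDepth 10000

/-! ### Counting automorphisms of a plane -/

section generic

variable {α : Type*} [Fintype α] [DecidableEq α] {L : Set (Finset α)}

theorem aut_of_maps {π : Equiv.Perm α} (h : ∀ b ∈ L, π • b ∈ L) : π ∈ setSystemAut L := by
  refine MulAction.mem_stabilizer_iff.2 (Set.eq_of_subset_of_ncard_le ?_ ?_ (Set.toFinite L))
  · rintro _ ⟨b, hb, rfl⟩; exact h b hb
  · rw [← Set.image_smul, Set.ncard_image_of_injective _ (MulAction.injective π)]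

theorem image_eq_of_mem_aut {π : Equiv.Perm α} (h : π ∈ setSystemAut L) :
    (fun b : Finset α => b.image π) '' L = L := by
  conv_rhs => rw [← MulAction.mem_stabilizer_iff.1 h]
  rw [← Set.image_smul]
  rfl

theorem card_aut_le (P : IsPlane L) : Nat.card (setSystemAut L) ≤ 120960 := by
  classical
  obtain ⟨H, hH⟩ := Cfsg.Agent.Lib.PlaneFour.Count.exists_oval P
  let S := Cfsg.Agent.Lib.PlaneFour.Count.sets L 6
  have hmem : ∀ σ : setSystemAut L, H.image (σ : Equiv.Perm α) ∈ S := fun σ => by
    refine Cfsg.Agent.Lib.PlaneFour.Count.mem_sets.2 ⟨by rw [card_image_of_injective _ (σ : Equiv.Perm α).injective, hH.1], fun l hl => ?_⟩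
    rw [← image_eq_of_mem_aut σ.2] at hl
    obtain ⟨m, hm, rfl⟩ := hl
    rw [← image_inter _ _ (σ : Equiv.Perm α).injective, card_image_of_injective _ (σ : Equiv.Perm α).injective]
    exact hH.2 m hm
  let Φ : setSystemAut L → (Σ T : {T // T ∈ S}, (↥H ≃ ↥(T : Finset α))) := fun σ =>
    ⟨⟨_, hmem σ⟩, Equiv.ofBijective (fun p => ⟨(σ : Equiv.Perm α) p, mem_image_of_mem _ p.2⟩)
      ⟨fun p q h => Subtype.ext ((σ : Equiv.Perm α).injective (congrArg Subtype.val h)), fun q => by
        obtain ⟨p, hp, e⟩ := mem_image.1 q.2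
        exact ⟨⟨p, hp⟩, Subtype.ext e⟩⟩⟩
  have hinj : Function.Injective Φ := by
    intro σ τ h
    have hpt : ∀ p : ↥H, (σ : Equiv.Perm α) p = (τ : Equiv.Perm α) p := fun p =>
      congrArg (fun z : Σ T : {T // T ∈ S}, (↥H ≃ ↥(T : Finset α)) => ((z.2 p : ↥(z.1 : Finset α)) : α)) h
    have hS := Cfsg.Agent.Lib.PlaneFour.Count.mem_sets.1 (hmem σ)
    exact Subtype.ext ((Cfsg.Agent.Lib.PlaneFour.Extend.existsUnique_extend P P hH (H' := _) ⟨hS.1, hS.2⟩ (Φ σ).2).unique
      ⟨image_eq_of_mem_aut σ.2, fun _ => rfl⟩ ⟨image_eq_of_mem_aut τ.2, fun p => (hpt p).symm⟩)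
  refine le_trans (Nat.card_le_card_of_injective Φ hinj) (le_of_eq ?_)
  rw [Nat.card_eq_fintype_card, Fintype.card_sigma, sum_congr rfl (fun (T : {T // T ∈ S}) _ => show
    Fintype.card (↥H ≃ ↥(T : Finset α)) = 720 by
      rw [Fintype.card_equiv (Fintype.equivOfCardEq (by
        rw [Fintype.card_coe, Fintype.card_coe, hH.1, (Cfsg.Agent.Lib.PlaneFour.Count.mem_sets.1 T.2).1])),
        Fintype.card_coe, hH.1]
      rfl), sum_const, card_univ, Fintype.card_coe, Cfsg.Agent.Lib.PlaneFour.Count.card_six P]
  rfl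

/-- A simple group and a large group of automorphisms of the same order coincide. -/
theorem subgroup_eq {A : Type*} [Group A] [Finite A] (X Y : Subgroup A) [IsSimpleGroup X]
    (hX : Nat.card X = 20160) (hY : Nat.card Y = 20160) (hA : Nat.card A ≤ 120960) : X = Y := by
  have hidx : Y.index ≤ 6 := by
    have h := Y.card_mul_index
    rw [hY] at h
    omega
  let f : X →* Equiv.Perm (A ⧸ Y) := (MulAction.toPermHom A (A ⧸ Y)).comp X.subtype
  have hker : f.ker = ⊤ := by
    refine f.normal_ker.eq_bot_or_eq_top.resolve_left fun h => ?_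
    have hinj : Function.Injective f := (MonoidHom.ker_eq_bot_iff f).1 h
    have h1 := Nat.card_le_card_of_injective f hinj
    rw [hX, Nat.card_perm] at h1
    have h2 : (Y.index).factorial ≤ Nat.factorial 6 := Nat.factorial_le hidx
    have : Nat.factorial 6 = 720 := rfl
    rw [Subgroup.index] at h2
    omega
  have hle : X ≤ Y := fun a ha => by
    have h : f ⟨a, ha⟩ = 1 := MonoidHom.mem_ker.1 (hker ▸ Subgroup.mem_top _)
    have h' : a • ((1 : A) : A ⧸ Y) = ((1 : A) : A ⧸ Y) :=
      congrArg (fun π : Equiv.Perm (A ⧸ Y) => π ((1 : A) : A ⧸ Y)) h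
    rw [MulAction.Quotient.smul_coe, smul_eq_mul, mul_one, QuotientGroup.eq, mul_one] at h'
    simpa using Y.inv_mem h'
  exact Subgroup.eq_of_le_of_card_ge hle (by rw [hX, hY])

end generic

/-! ### The plane over the field -/

section field

variable {F : Type*} [Field F] [Fintype F] [DecidableEq (ℙ F (Fin 3 → F))] [Fintype (ℙ F (Fin 3 → F))]

local notation "PT" => ℙ F (Fin 3 → F)

open Classical in
/-- The line through two points. -/
noncomputable def lineSet (x y : PT) : Finset PT :=
  univ.filter fun z => z.rep ∈ Submodule.span F (Set.range ![x.rep, y.rep])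

/-- The lines. -/
noncomputable def lines : Set (Finset PT) := {s | ∃ x y : PT, x ≠ y ∧ s = lineSet x y}

theorem rep_mem_iff {W : Submodule F (Fin 3 → F)} {v : Fin 3 → F} (hv : v ≠ 0) :
    (Projectivization.mk F v hv).rep ∈ W ↔ v ∈ W := by
  obtain ⟨a, ha⟩ := Projectivization.exists_smul_eq_mk_rep F v hv
  rw [← ha, W.smul_mem_iff']

theorem finrank_pair {x y : PT} (h : x ≠ y) :
    Module.finrank F ↥(Submodule.span F (Set.range ![x.rep, y.rep])) = 2 := by
  rw [finrank_span_eq_card]
  · simp
  · have h2 := (Projectivization.independent_pair_iff_ne _ _).2 h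
    rw [Projectivization.independent_iff] at h2
    have e : Projectivization.rep ∘ ![x, y] = ![x.rep, y.rep] := by
      ext i; fin_cases i <;> rfl
    rwa [e] at h2

theorem mem_lineSet_left (x y : PT) : x ∈ lineSet x y := by
  classical exact mem_filter.2 ⟨mem_univ _, Submodule.subset_span ⟨0, rfl⟩⟩

theorem mem_lineSet_right (x y : PT) : y ∈ lineSet x y := by
  classical exact mem_filter.2 ⟨mem_univ _, Submodule.subset_span ⟨1, rfl⟩⟩

theorem card_lineSet (hF : Fintype.card F = 4) {x y : PT} (h : x ≠ y) : (lineSet x y).card = 5 := by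
  classical
  set W := Submodule.span F (Set.range ![x.rep, y.rep])
  have hinj : Function.Injective W.subtype := W.subtype_injective
  have e : Set.range (Projectivization.map W.subtype hinj) = ↑(lineSet x y) := by
    ext z
    simp only [lineSet, coe_filter, mem_univ, true_and, Set.mem_range]
    constructor
    · rintro ⟨u, rfl⟩
      induction u using Projectivization.ind with | _ v hv =>
      show (Projectivization.map W.subtype hinj (Projectivization.mk F v hv)).rep ∈ W
      rw [Projectivization.map_mk]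
      exact (rep_mem_iff _).2 v.2
    · intro hz
      refine ⟨Projectivization.mk F (⟨z.rep, hz⟩ : W) (fun e => z.rep_nonzero (congrArg Subtype.val e)), ?_⟩
      rw [Projectivization.map_mk]
      exact z.mk_rep
  rw [← Set.ncard_coe_finset, ← e, ← Nat.card_coe_set_eq,
    Nat.card_range_of_injective (Projectivization.map_injective W.subtype hinj),
    Projectivization.card_of_finrank_two F W (finrank_pair h), Nat.card_eq_fintype_card, hF]

theorem isPlane_lines (hF : Fintype.card F = 4) : IsPlane (lines (F := F)) := by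
  classical
  refine ⟨?_, ?_, fun s hs => ?_⟩
  · rw [← Nat.card_eq_fintype_card, Projectivization.card_of_finrank F (Fin 3 → F) (Module.finrank_fin_fun F),
      Nat.card_eq_fintype_card, hF]
    rfl
  · rintro _ ⟨x, y, h, rfl⟩; exact card_lineSet hF h
  · obtain ⟨x, y, h, rfl⟩ := card_eq_two.1 hs
    refine ⟨lineSet x y, ⟨⟨x, y, h, rfl⟩, insert_subset (mem_lineSet_left x y)
      (singleton_subset_iff.2 (mem_lineSet_right x y))⟩, ?_⟩
    rintro _ ⟨⟨a, b, hab, rfl⟩, hsub⟩
    have hx := (mem_filter.1 (hsub (mem_insert_self _ _))).2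
    have hy := (mem_filter.1 (hsub (mem_insert_of_mem (mem_singleton_self _)))).2
    have e : Submodule.span F (Set.range ![x.rep, y.rep]) = Submodule.span F (Set.range ![a.rep, b.rep]) :=
      Submodule.eq_of_le_of_finrank_eq (Submodule.span_le.2 (by rintro _ ⟨i, rfl⟩; fin_cases i <;> assumption))
        (by rw [finrank_pair h, finrank_pair hab])
    rw [lineSet, lineSet, e]

theorem psl_maps (hF : Fintype.card F = 4) (g : Matrix.ProjectiveSpecialLinearGroup (Fin 3) F) :
    MulAction.toPermHom _ PT g ∈ setSystemAut (lines (F := F)) := by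
  classical
  obtain ⟨s, rfl⟩ := QuotientGroup.mk_surjective g
  refine aut_of_maps fun b hb => ?_
  obtain ⟨x, y, h, rfl⟩ := hb
  set π : Equiv.Perm PT := MulAction.toPermHom _ PT (s : Matrix.ProjectiveSpecialLinearGroup (Fin 3) F)
  have hπ : ∀ z : PT, ∃ c : F, c ≠ 0 ∧ (π z).rep = c • ((s : Matrix (Fin 3) (Fin 3) F).mulVec z.rep) := fun z => by
    have hne : s • z.rep ≠ 0 := fun e => z.rep_nonzero (by
      have := congrArg (fun v => s⁻¹ • v) e
      simpa using this)
    have e : π z = Projectivization.mk F (s • z.rep) hne := by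
      show (s : Matrix.ProjectiveSpecialLinearGroup (Fin 3) F) • z = _
      conv_lhs => rw [← z.mk_rep]
      rw [Matrix.ProjectiveSpecialLinearGroup.smul_proj_mk, Projectivization.smul_mk]
    obtain ⟨a, ha⟩ := Projectivization.exists_smul_eq_mk_rep F _ hne
    exact ⟨a, a.ne_zero, by rw [e, ← ha]; rfl⟩
  refine ⟨π x, π y, π.injective.ne h, eq_of_subset_of_card_le ?_ ?_⟩
  · intro w hw
    obtain ⟨z, hz, rfl⟩ := mem_smul_finset.1 hw
    refine mem_filter.2 ⟨mem_univ _, ?_⟩
    obtain ⟨c, -, hc⟩ := hπ z
    show (π z).rep ∈ _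
    rw [hc]
    refine Submodule.smul_mem _ _ ?_
    have h' := (mem_filter.1 hz).2
    revert h'
    generalize z.rep = v
    intro h'
    induction h' using Submodule.span_induction with
    | mem v hv =>
      obtain ⟨i, rfl⟩ := hv
      fin_cases i
      · obtain ⟨a, ha, he⟩ := hπ x
        have : (π x).rep ∈ Submodule.span F (Set.range ![(π x).rep, (π y).rep]) := Submodule.subset_span ⟨0, rfl⟩
        rw [he, Submodule.smul_mem_iff _ ha] at this
        simpa [he] using this
      · obtain ⟨a, ha, he⟩ := hπ y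
        have : (π y).rep ∈ Submodule.span F (Set.range ![(π x).rep, (π y).rep]) := Submodule.subset_span ⟨1, rfl⟩
        rw [he, Submodule.smul_mem_iff _ ha] at this
        simpa [he] using this
    | zero => simp
    | add u v _ _ hu hv => rw [Matrix.mulVec_add]; exact Submodule.add_mem _ hu hv
    | smul a v _ hv => rw [Matrix.mulVec_smul]; exact Submodule.smul_mem _ _ hv
  · rw [card_smul_finset, card_lineSet hF h, card_lineSet hF (π.injective.ne h)]

theorem card_psl (hF : Fintype.card F = 4) : Nat.card (Matrix.ProjectiveSpecialLinearGroup (Fin 3) F) = 20160 := by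
  have h := ClassicalSL.card_psl_mul (ι := Fin 3) (F := F)
  rw [ClassicalSL.card_gl_fin (q := 4) (by rw [Nat.card_eq_fintype_card, hF]), Fintype.card_fin,
    Nat.card_eq_fintype_card (α := F), hF] at h
  simp [Fin.prod_univ_three] at h
  omega

end field

/-! ### The plane of octads through three points -/

/-- The three points. -/
def triad : Finset GolayPt := {none, some 0, some 1}

/-- The other points. -/
abbrev Pt21 : Type := {x : GolayPt // x ∉ triad}

/-- The lines. -/
noncomputable def lines21 : Set (Finset Pt21) :=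
  {h | ∃ o ∈ octads, triad ⊆ o ∧ h = Finset.subtype (fun x => x ∉ triad) o}

theorem isPlane_lines21 : IsPlane lines21 := by
  refine ⟨by decide, ?_, fun s hs => ?_⟩
  · rintro _ ⟨o, ho, hsub, rfl⟩
    rw [card_subtype, show o.filter (fun x => x ∉ triad) = o \ triad by ext; simp,
      card_sdiff_of_subset hsub, card_octad ho]
    rfl
  · have h5 : (triad ∪ s.map (Function.Embedding.subtype _)).card = 5 := by
      rw [card_union_of_disjoint, card_map, hs]
      · rfl
      · rw [disjoint_right]
        intro x hx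
        obtain ⟨a, -, rfl⟩ := mem_map.1 hx
        exact a.2
    obtain ⟨o, ⟨ho, hsub⟩, huniq⟩ := isSteinerSystem_octads.2 _ h5
    rw [union_subset_iff] at hsub
    refine ⟨_, ⟨⟨o, ho, hsub.1, rfl⟩, fun a ha => mem_subtype.2 (hsub.2 (mem_map_of_mem _ ha))⟩, ?_⟩
    rintro _ ⟨⟨o', ho', hT, rfl⟩, hs'⟩
    rw [huniq o' ⟨ho', union_subset hT fun x hx => by
      obtain ⟨a, ha, rfl⟩ := mem_map.1 hx
      exact mem_subtype.1 (hs' ha)⟩]

/-- The pointwise stabiliser of the triad. -/
abbrev M21 : Subgroup (Equiv.Perm GolayPt) := stabSets [{(none : GolayPt)}, {some 0}, {some 1}]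

theorem mem_triad_iff {g : Equiv.Perm GolayPt} (hg : g ∈ M21) (x : GolayPt) : g x ∉ triad ↔ x ∉ triad := by
  have hfix : ∀ a ∈ triad, g a = a := fun a ha => by
    simp only [triad, mem_insert, mem_singleton] at ha
    refine (smul_singleton_eq_iff g a).1 (hg.2 _ ?_)
    rcases ha with rfl | rfl | rfl <;> simp
  refine not_congr ⟨fun h => ?_, fun h => (hfix x h).symm ▸ h⟩
  have := hfix _ h
  rwa [g.injective this] at h

/-- The action on the other points. -/
def res21 : ↥M21 →* Equiv.Perm Pt21 :=
  SimpleCriteria.restrict M21 (fun x => x ∉ triad) fun _ h => mem_triad_iff h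

theorem res21_mem (g : ↥M21) : res21 g ∈ setSystemAut lines21 := by
  refine aut_of_maps fun b hb => ?_
  obtain ⟨o, ho, hsub, rfl⟩ := hb
  refine ⟨(g : Equiv.Perm GolayPt) • o, smul_mem_octads g.2.1 ho, fun a ha => ?_, ?_⟩
  · have hga : (g : Equiv.Perm GolayPt) a = a := by
      simp only [triad, mem_insert, mem_singleton] at ha
      refine (smul_singleton_eq_iff _ a).1 (g.2.2 _ ?_)
      rcases ha with rfl | rfl | rfl <;> simp
    exact mem_smul_finset.2 ⟨a, hsub ha, hga⟩
  · ext x
    obtain ⟨y, rfl⟩ := (res21 g).surjective x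
    rw [show res21 g y = res21 g • y from rfl, smul_mem_smul_finset_iff, mem_subtype, mem_subtype]
    exact (smul_mem_smul_finset_iff (g : Equiv.Perm GolayPt)).symm

theorem res21_injective : Function.Injective res21 := by
  rw [← MonoidHom.ker_eq_bot_iff, Subgroup.eq_bot_iff_forall]
  intro g hg
  refine Subtype.ext (Equiv.ext fun x => ?_)
  by_cases hx : x ∈ triad
  · simp only [triad, mem_insert, mem_singleton] at hx
    refine (smul_singleton_eq_iff _ x).1 (g.2.2 _ ?_)
    rcases hx with rfl | rfl | rfl <;> simp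
  · exact congrArg (fun e : Equiv.Perm Pt21 => (e ⟨x, hx⟩ : GolayPt)) (MonoidHom.mem_ker.1 hg)

/-- The stabiliser of three points is the linear group. -/
theorem nonempty_equiv (F : Type*) [Field F] [Fintype F] (hF : Fintype.card F = 4) :
    Nonempty (↥M21 ≃* Matrix.ProjectiveSpecialLinearGroup (Fin 3) F) := by
  classical
  let : Fintype (ℙ F (Fin 3 → F)) := Fintype.ofFinite _
  have P := isPlane_lines hF
  have Q := isPlane_lines21
  obtain ⟨H, hH⟩ := Cfsg.Agent.Lib.PlaneFour.Count.exists_oval P
  obtain ⟨H', hH'⟩ := Cfsg.Agent.Lib.PlaneFour.Count.exists_oval Q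
  obtain ⟨e, ⟨he, -⟩, -⟩ := Cfsg.Agent.Lib.PlaneFour.Extend.existsUnique_extend P Q hH hH'
    (Fintype.equivOfCardEq (by rw [Fintype.card_coe, Fintype.card_coe, hH.1, hH'.1]))
  let φ : Matrix.ProjectiveSpecialLinearGroup (Fin 3) F →* ↥(setSystemAut lines21) :=
    (Steiner.autEquiv e he).toMonoidHom.comp ((MulAction.toPermHom _ _).codRestrict _ (psl_maps hF))
  have hφ : Function.Injective φ := fun a b h =>
    MulAction.toPerm_injective (congrArg Subtype.val ((Steiner.autEquiv e he).injective h))
  let ψ : ↥M21 →* ↥(setSystemAut lines21) := res21.codRestrict _ res21_mem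
  have hψ : Function.Injective ψ := fun a b h => res21_injective (congrArg Subtype.val h)
  have hs := ClassicalSL.isSimpleGroup_psl (ι := Fin 3) (F := F) (by simp)
  have := SimpleCriteria.isSimpleGroup_congr (MonoidHom.ofInjective hφ)
  have e' := subgroup_eq φ.range ψ.range
    (by rw [← Nat.card_congr (MonoidHom.ofInjective hφ).toEquiv, card_psl hF])
    (by rw [← Nat.card_congr (MonoidHom.ofInjective hψ).toEquiv, M21, ← stabIn_m21, card_stabIn_m21])
    (card_aut_le Q)
  exact ⟨((MonoidHom.ofInjective hψ).trans (MulEquiv.subgroupCongr e'.symm)).trans (MonoidHom.ofInjective hφ).symm⟩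

end Cfsg.Agent.PlanePSL
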