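import Cfsg.Agent.Lib.Steiner.Basic

/-!
Leech triangles of S(5,8,24), S(4,7,23), S(3,6,22) and S(5,6,12).
-/

namespace Cfsg.Agent.Steiner

open Cfsg Finset

variable {α : Type*} [Fintype α] [DecidableEq α] {B : Set (Finset α)}

/-- Bottom row of the triangle of S(5,8,24). -/
def row24 : ℕ → ℕ
  | 0 => 30 | 2 => 16 | 4 => 4 | 8 => 1 | _ => 0

/-- Bottom row of the triangle of S(4,7,23). -/
def row23 : ℕ → ℕ
  | 1 => 16 | 3 => 4 | 7 => 1 | _ => 0

/-- Bottom row of the triangle of S(3,6,22). -/
def row22 : ℕ → ℕ
  | 0 => 16 | 2 => 4 | 6 => 1 | _ => 0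

/-- Bottom row of the triangle of S(5,6,12). -/
def row12 : ℕ → ℕ
  | 0 => 1 | 2 => 3 | 3 => 2 | 4 => 3 | 6 => 1 | _ => 0

theorem exactly24 (hα : Fintype.card α = 24) (hB : IsSteinerSystem 5 8 B) {b : Finset α} (hb : b ∈ B) :
    ∀ S ⊆ b, exactly B b S = row24 S.card := by
  have large : ∀ S ⊆ b, 5 ≤ S.card → exactly B b S = row24 S.card := fun S hS h => by
    rw [exactly_large hB hb hS h]
    have := card_le_card hS; rw [card_of_mem hB hb] at this
    generalize hn : S.card = n at *
    interval_cases n <;> rfl
  have step : ∀ i lam, i < 5 → 0 < (8 - i).choose (5 - i) →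
      lam * (8 - i).choose (5 - i) = (24 - i).choose (5 - i) →
      lam = row24 i + ∑ j ∈ Ioc i 8, (8 - i).choose (j - i) * row24 j →
      (∀ S ⊆ b, i < S.card → exactly B b S = row24 S.card) →
      ∀ S ⊆ b, i ≤ S.card → exactly B b S = row24 S.card := by
    intro i lam hi hpos hlam hrow hprev S hS hge
    rcases lt_or_eq_of_le hge with h | h
    · exact hprev S hS h
    · have := exactly_rec hB hb row24 i hi.le lam hpos (by rw [hα]; exact hlam) hprev hS h.symm
      rw [← h]; omega
  have h4 := step 4 5 (by norm_num) (by decide) (by decide) (by decide) (fun S hS h => large S hS h)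
  have h3 := step 3 21 (by norm_num) (by decide) (by decide) (by decide) (fun S hS h => h4 S hS h)
  have h2 := step 2 77 (by norm_num) (by decide) (by decide) (by decide) (fun S hS h => h3 S hS h)
  have h1 := step 1 253 (by norm_num) (by decide) (by decide) (by decide) (fun S hS h => h2 S hS h)
  have h0 := step 0 759 (by norm_num) (by decide) (by decide) (by decide) (fun S hS h => h1 S hS h)
  exact fun S hS => h0 S hS (Nat.zero_le _)

theorem exactly23 (hα : Fintype.card α = 23) (hB : IsSteinerSystem 4 7 B) {b : Finset α} (hb : b ∈ B) :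
    ∀ S ⊆ b, exactly B b S = row23 S.card := by
  have large : ∀ S ⊆ b, 4 ≤ S.card → exactly B b S = row23 S.card := fun S hS h => by
    rw [exactly_large hB hb hS h]
    have := card_le_card hS; rw [card_of_mem hB hb] at this
    generalize hn : S.card = n at *
    interval_cases n <;> rfl
  have step : ∀ i lam, i < 4 → 0 < (7 - i).choose (4 - i) →
      lam * (7 - i).choose (4 - i) = (23 - i).choose (4 - i) →
      lam = row23 i + ∑ j ∈ Ioc i 7, (7 - i).choose (j - i) * row23 j →
      (∀ S ⊆ b, i < S.card → exactly B b S = row23 S.card) →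
      ∀ S ⊆ b, i ≤ S.card → exactly B b S = row23 S.card := by
    intro i lam hi hpos hlam hrow hprev S hS hge
    rcases lt_or_eq_of_le hge with h | h
    · exact hprev S hS h
    · have := exactly_rec hB hb row23 i hi.le lam hpos (by rw [hα]; exact hlam) hprev hS h.symm
      rw [← h]; omega
  have h3 := step 3 5 (by norm_num) (by decide) (by decide) (by decide) (fun S hS h => large S hS h)
  have h2 := step 2 21 (by norm_num) (by decide) (by decide) (by decide) (fun S hS h => h3 S hS h)
  have h1 := step 1 77 (by norm_num) (by decide) (by decide) (by decide) (fun S hS h => h2 S hS h)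
  have h0 := step 0 253 (by norm_num) (by decide) (by decide) (by decide) (fun S hS h => h1 S hS h)
  exact fun S hS => h0 S hS (Nat.zero_le _)

theorem exactly22 (hα : Fintype.card α = 22) (hB : IsSteinerSystem 3 6 B) {b : Finset α} (hb : b ∈ B) :
    ∀ S ⊆ b, exactly B b S = row22 S.card := by
  have large : ∀ S ⊆ b, 3 ≤ S.card → exactly B b S = row22 S.card := fun S hS h => by
    rw [exactly_large hB hb hS h]
    have := card_le_card hS; rw [card_of_mem hB hb] at this
    generalize hn : S.card = n at *
    interval_cases n <;> rfl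
  have step : ∀ i lam, i < 3 → 0 < (6 - i).choose (3 - i) →
      lam * (6 - i).choose (3 - i) = (22 - i).choose (3 - i) →
      lam = row22 i + ∑ j ∈ Ioc i 6, (6 - i).choose (j - i) * row22 j →
      (∀ S ⊆ b, i < S.card → exactly B b S = row22 S.card) →
      ∀ S ⊆ b, i ≤ S.card → exactly B b S = row22 S.card := by
    intro i lam hi hpos hlam hrow hprev S hS hge
    rcases lt_or_eq_of_le hge with h | h
    · exact hprev S hS h
    · have := exactly_rec hB hb row22 i hi.le lam hpos (by rw [hα]; exact hlam) hprev hS h.symm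
      rw [← h]; omega
  have h2 := step 2 5 (by norm_num) (by decide) (by decide) (by decide) (fun S hS h => large S hS h)
  have h1 := step 1 21 (by norm_num) (by decide) (by decide) (by decide) (fun S hS h => h2 S hS h)
  have h0 := step 0 77 (by norm_num) (by decide) (by decide) (by decide) (fun S hS h => h1 S hS h)
  exact fun S hS => h0 S hS (Nat.zero_le _)

theorem exactly12 (hα : Fintype.card α = 12) (hB : IsSteinerSystem 5 6 B) {b : Finset α} (hb : b ∈ B) :
    ∀ S ⊆ b, exactly B b S = row12 S.card := by
  have large : ∀ S ⊆ b, 5 ≤ S.card → exactly B b S = row12 S.card := fun S hS h => by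
    rw [exactly_large hB hb hS h]
    have := card_le_card hS; rw [card_of_mem hB hb] at this
    generalize hn : S.card = n at *
    interval_cases n <;> rfl
  have step : ∀ i lam, i < 5 → 0 < (6 - i).choose (5 - i) →
      lam * (6 - i).choose (5 - i) = (12 - i).choose (5 - i) →
      lam = row12 i + ∑ j ∈ Ioc i 6, (6 - i).choose (j - i) * row12 j →
      (∀ S ⊆ b, i < S.card → exactly B b S = row12 S.card) →
      ∀ S ⊆ b, i ≤ S.card → exactly B b S = row12 S.card := by
    intro i lam hi hpos hlam hrow hprev S hS hge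
    rcases lt_or_eq_of_le hge with h | h
    · exact hprev S hS h
    · have := exactly_rec hB hb row12 i hi.le lam hpos (by rw [hα]; exact hlam) hprev hS h.symm
      rw [← h]; omega
  have h4 := step 4 4 (by norm_num) (by decide) (by decide) (by decide) (fun S hS h => large S hS h)
  have h3 := step 3 12 (by norm_num) (by decide) (by decide) (by decide) (fun S hS h => h4 S hS h)
  have h2 := step 2 30 (by norm_num) (by decide) (by decide) (by decide) (fun S hS h => h3 S hS h)
  have h1 := step 1 66 (by norm_num) (by decide) (by decide) (by decide) (fun S hS h => h2 S hS h)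
  have h0 := step 0 132 (by norm_num) (by decide) (by decide) (by decide) (fun S hS h => h1 S hS h)
  exact fun S hS => h0 S hS (Nat.zero_le _)

theorem inter24 (hα : Fintype.card α = 24) (hB : IsSteinerSystem 5 8 B) {b c : Finset α}
    (hb : b ∈ B) (hc : c ∈ B) (hne : b ≠ c) :
    (b ∩ c).card = 0 ∨ (b ∩ c).card = 2 ∨ (b ∩ c).card = 4 := by
  have h := exactly_ne_zero (B := B) (b := b) hc
  rw [exactly24 hα hB hb _ inter_subset_left] at h
  have := inter_card_le hB hb hc hne
  generalize (b ∩ c).card = n at *
  interval_cases n <;> simp_all [row24]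

theorem inter23 (hα : Fintype.card α = 23) (hB : IsSteinerSystem 4 7 B) {b c : Finset α}
    (hb : b ∈ B) (hc : c ∈ B) (hne : b ≠ c) : (b ∩ c).card = 1 ∨ (b ∩ c).card = 3 := by
  have h := exactly_ne_zero (B := B) (b := b) hc
  rw [exactly23 hα hB hb _ inter_subset_left] at h
  have := inter_card_le hB hb hc hne
  generalize (b ∩ c).card = n at *
  interval_cases n <;> simp_all [row23]

theorem inter22 (hα : Fintype.card α = 22) (hB : IsSteinerSystem 3 6 B) {b c : Finset α}
    (hb : b ∈ B) (hc : c ∈ B) (hne : b ≠ c) : (b ∩ c).card = 0 ∨ (b ∩ c).card = 2 := by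
  have h := exactly_ne_zero (B := B) (b := b) hc
  rw [exactly22 hα hB hb _ inter_subset_left] at h
  have := inter_card_le hB hb hc hne
  generalize (b ∩ c).card = n at *
  interval_cases n <;> simp_all [row22]

theorem inter12 (hα : Fintype.card α = 12) (hB : IsSteinerSystem 5 6 B) {b c : Finset α}
    (hb : b ∈ B) (hc : c ∈ B) (hne : b ≠ c) :
    (b ∩ c).card = 0 ∨ (b ∩ c).card = 2 ∨ (b ∩ c).card = 3 ∨ (b ∩ c).card = 4 := by
  have h := exactly_ne_zero (B := B) (b := b) hc
  rw [exactly12 hα hB hb _ inter_subset_left] at h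
  have := inter_card_le hB hb hc hne
  generalize (b ∩ c).card = n at *
  interval_cases n <;> simp_all [row12]

/-- An 8-set meeting every block evenly is a block. -/
theorem mem_of_even (hα : Fintype.card α = 24) (hB : IsSteinerSystem 5 8 B) {s : Finset α}
    (hs : s.card = 8) (heven : ∀ d ∈ B, Even (d ∩ s).card) : s ∈ B := by
  by_contra hns
  have hno : ∀ d ∈ blocks B, (d ∩ s).card ≠ 8 := fun d hd h8 => hns (by
    have h1 : d ∩ s = s := eq_of_subset_of_card_le inter_subset_right (by rw [h8, hs])
    have hd' := mem_blocks.1 hd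
    have h2 : s = d :=
      eq_of_subset_of_card_le (h1 ▸ inter_subset_left) (by rw [card_of_mem hB hd', hs])
    exact h2 ▸ hd')
  have h := moment hB s 5 1 le_rfl (by decide) (by rw [hα]; decide)
  rw [hs] at h
  have hle : ∀ d ∈ blocks B, (d ∩ s).card < 9 := fun d _ => by
    have := card_le_card (inter_subset_right (s₁ := d) (s₂ := s)); omega
  rw [sum_by_size s _ (fun j => j.choose 5) 9 hle] at h
  have hz : ∀ j, j % 2 = 1 → ((blocks B).filter fun d => (d ∩ s).card = j).card = 0 := fun j hj => by
    rw [card_eq_zero, filter_eq_empty_iff]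
    intro d hd e
    obtain ⟨r, hr⟩ := heven d (mem_blocks.1 hd)
    omega
  have h8 : ((blocks B).filter fun d => (d ∩ s).card = 8).card = 0 := by
    rw [card_eq_zero, filter_eq_empty_iff]; exact fun d hd => hno d hd
  simp only [sum_range_succ, sum_range_zero, hz 1 rfl, hz 3 rfl, hz 5 rfl, hz 7 rfl, h8] at h
  norm_num [Nat.choose] at h
  omega

theorem symmDiff_mem (hα : Fintype.card α = 24) (hB : IsSteinerSystem 5 8 B) {b c : Finset α}
    (hb : b ∈ B) (hc : c ∈ B) (h4 : (b ∩ c).card = 4) : symmDiff b c ∈ B := by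
  refine mem_of_even hα hB ?_ ?_
  · rw [symmDiff_def, sup_eq_union, card_union_of_disjoint disjoint_sdiff_sdiff]
    have h1 := card_sdiff_add_card_inter b c
    have h2 := card_sdiff_add_card_inter c b
    rw [inter_comm c b] at h2
    rw [card_of_mem hB hb] at h1
    rw [card_of_mem hB hc] at h2
    omega
  · intro d hd
    have hev : ∀ x ∈ B, Even (d ∩ x).card := fun x hx => by
      rcases eq_or_ne d x with rfl | hne
      · rw [inter_self, card_of_mem hB hd]; decide
      · rcases inter24 hα hB hd hx hne with h | h | h <;> rw [h] <;> decide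
    obtain ⟨p, hp⟩ := hev b hb
    obtain ⟨q, hq⟩ := hev c hc
    have e1 : (d ∩ symmDiff b c) = symmDiff (d ∩ b) (d ∩ c) := by
      ext x; simp only [mem_inter, mem_symmDiff]; tauto
    rw [e1, symmDiff_def, sup_eq_union, card_union_of_disjoint disjoint_sdiff_sdiff]
    have h1 := card_sdiff_add_card_inter (d ∩ b) (d ∩ c)
    have h2 := card_sdiff_add_card_inter (d ∩ c) (d ∩ b)
    rw [inter_comm (d ∩ c)] at h2
    rw [Nat.even_iff]
    omega

theorem disjoint_count (hα : Fintype.card α = 22) (hB : IsSteinerSystem 3 6 B) {b c : Finset α}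
    (hb : b ∈ B) (hc : c ∈ B) (hne : b ≠ c) :
    ((blocks B).filter fun d => Disjoint b d ∧ Disjoint c d).card
      = if Disjoint b c then 0 else 4 := by
  classical
  set U := b ∪ c with hU
  set F := ((blocks B).erase b).erase c with hF
  have hbm : b ∈ blocks B := mem_blocks.2 hb
  have hcm : c ∈ (blocks B).erase b := mem_erase.2 ⟨hne.symm, mem_blocks.2 hc⟩
  have hfilter : ((blocks B).filter fun d => Disjoint b d ∧ Disjoint c d)
      = F.filter fun d => (d ∩ U).card = 0 := by
    ext d
    simp only [mem_filter, hF, mem_erase, card_eq_zero, ← disjoint_iff_inter_eq_empty, hU, disjoint_union_right]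
    constructor
    · rintro ⟨hd, h1, h2⟩
      refine ⟨⟨?_, ?_, hd⟩, h1.symm, h2.symm⟩
      · rintro rfl; have := card_of_mem hB hc; rw [Finset.disjoint_self_iff_empty] at h2; simp [h2] at this
      · rintro rfl; have := card_of_mem hB hb; rw [Finset.disjoint_self_iff_empty] at h1; simp [h1] at this
    · rintro ⟨⟨-, -, hd⟩, h1, h2⟩; exact ⟨hd, h1.symm, h2.symm⟩
  have hsplit : ∀ f : ℕ → ℕ, ∑ d ∈ blocks B, f (d ∩ U).card
      = f 6 + f 6 + ∑ d ∈ F, f (d ∩ U).card := by
    intro f
    rw [← add_sum_erase _ _ hbm, ← add_sum_erase _ _ hcm, hU, inter_eq_left.2 subset_union_left,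
      inter_eq_left.2 subset_union_right, card_of_mem hB hb, card_of_mem hB hc]
    ring
  have hdbc : ∀ d ∈ F, (d ∩ U).card + (d ∩ (b ∩ c)).card = (d ∩ b).card + (d ∩ c).card ∧
      ((d ∩ b).card = 0 ∨ (d ∩ b).card = 2) ∧ ((d ∩ c).card = 0 ∨ (d ∩ c).card = 2) ∧
      (d ∩ (b ∩ c)).card ≤ (d ∩ b).card ∧ (d ∩ (b ∩ c)).card ≤ (d ∩ c).card := by
    intro d hd
    simp only [hF, mem_erase, mem_blocks] at hd
    refine ⟨?_, inter22 hα hB hd.2.2 hb hd.2.1, inter22 hα hB hd.2.2 hc hd.1,
      card_le_card (inter_subset_inter_left inter_subset_left),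
      card_le_card (inter_subset_inter_left inter_subset_right)⟩
    rw [hU, inter_union_distrib_left, inter_inter_distrib_left, card_union_add_card_inter]
  have hlt : ∀ d ∈ F, (d ∩ U).card < 5 := fun d hd => by have := hdbc d hd; omega
  have hx1 : (F.filter fun d => (d ∩ U).card = 1).card = 0 := by
    rw [card_eq_zero, filter_eq_empty_iff]
    intro d hd e; have := hdbc d hd; omega
  have hUc : U.card + (b ∩ c).card = 12 := by
    rw [hU, card_union_add_card_inter, card_of_mem hB hb, card_of_mem hB hc]
  have m0 := moment hB U 0 77 (by norm_num) (by decide) (by rw [hα]; decide)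
  have m1 := moment hB U 1 21 (by norm_num) (by decide) (by rw [hα]; decide)
  have m2 := moment hB U 2 5 (by norm_num) (by decide) (by rw [hα]; decide)
  have m3 := moment hB U 3 1 (by norm_num) (by decide) (by rw [hα]; decide)
  simp only [hsplit (fun j => j.choose 0)] at m0
  simp only [hsplit (fun j => j.choose 1)] at m1
  simp only [hsplit (fun j => j.choose 2)] at m2
  simp only [hsplit (fun j => j.choose 3)] at m3
  rw [sum_by_size U F (fun j => j.choose 0) 5 hlt] at m0
  rw [sum_by_size U F (fun j => j.choose 1) 5 hlt] at m1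
  rw [sum_by_size U F (fun j => j.choose 2) 5 hlt] at m2
  rw [sum_by_size U F (fun j => j.choose 3) 5 hlt] at m3
  simp only [sum_range_succ, sum_range_zero, hx1] at m0 m1 m2 m3
  rw [hfilter]
  rcases inter22 hα hB hb hc hne with h | h
  · have hU12 : U.card = 12 := by omega
    rw [if_pos (disjoint_iff_inter_eq_empty.2 (card_eq_zero.1 h))]
    rw [hU12] at m0 m1 m2 m3
    norm_num [Nat.choose, -Finset.card_eq_zero] at m0 m1 m2 m3
    have hx3 : (F.filter fun d => (d ∩ U).card = 3).card = 0 := by
      rw [card_eq_zero, filter_eq_empty_iff]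
      intro d hd e
      have := hdbc d hd
      have : (d ∩ (b ∩ c)).card ≤ (b ∩ c).card := card_le_card inter_subset_right
      omega
    omega
  · have hU10 : U.card = 10 := by omega
    rw [if_neg (fun hd => by rw [disjoint_iff_inter_eq_empty.1 hd] at h; simp at h)]
    rw [hU10] at m0 m1 m2 m3
    norm_num [Nat.choose, -Finset.card_eq_zero] at m0 m1 m2 m3
    omega

end Cfsg.Agent.Steiner
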