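import Mathlib.Data.Set.Card
import Mathlib.Data.Finset.Powerset
import Mathlib.Data.Nat.Choose.Basic
import Mathlib.Algebra.BigOperators.Group.Finset.Basic
import Mathlib.Tactic
import Cfsg.Prelude.Def_Sporadic_a

/-!
Steiner systems: block counts, moments of intersection sizes with a set, intersection numbers.
-/

namespace Cfsg.Agent.Steiner

open Cfsg Finset

variable {α : Type*} [Fintype α] [DecidableEq α] {t k : ℕ} {B : Set (Finset α)}

/-- The blocks as a finset. -/
noncomputable def blocks (B : Set (Finset α)) : Finset (Finset α) := (Set.toFinite B).toFinset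

theorem mem_blocks {b : Finset α} : b ∈ blocks B ↔ b ∈ B := by simp [blocks]

theorem card_of_mem (hB : IsSteinerSystem t k B) {b : Finset α} (hb : b ∈ B) : b.card = k :=
  hB.1 b hb

theorem eq_of_inter (hB : IsSteinerSystem t k B) {b c : Finset α} (hb : b ∈ B) (hc : c ∈ B)
    (h : t ≤ (b ∩ c).card) : b = c := by
  obtain ⟨s, hs, hcard⟩ := exists_subset_card_eq h
  exact (hB.2 s hcard).unique ⟨hb, hs.trans inter_subset_left⟩ ⟨hc, hs.trans inter_subset_right⟩

theorem card_supersets {b S : Finset α} (hS : S ⊆ b) {m : ℕ} (hm : S.card ≤ m) :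
    ((b.powersetCard m).filter fun T => S ⊆ T).card = (b.card - S.card).choose (m - S.card) := by
  rw [← card_sdiff_of_subset hS, ← card_powersetCard]
  refine card_nbij' (fun T => T \ S) (fun R => R ∪ S) ?_ ?_ ?_ ?_
  · intro T hT
    simp only [coe_filter, Set.mem_ofPred_eq, mem_powersetCard] at hT
    simp only [mem_coe, mem_powersetCard]
    exact ⟨sdiff_subset_sdiff hT.1.1 (le_refl S), by rw [card_sdiff_of_subset hT.2, hT.1.2]⟩
  · intro R hR
    simp only [mem_coe, mem_powersetCard, subset_sdiff] at hR
    simp only [coe_filter, Set.mem_ofPred_eq, mem_powersetCard]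
    refine ⟨⟨union_subset hR.1.1 hS, ?_⟩, subset_union_right⟩
    rw [card_union_of_disjoint hR.1.2, hR.2]; omega
  · intro T hT
    simp only [coe_filter, Set.mem_ofPred_eq] at hT
    exact sdiff_union_of_subset hT.2
  · intro R hR
    simp only [mem_coe, mem_powersetCard, subset_sdiff] at hR
    exact union_sdiff_cancel_right hR.1.2

/-- Blocks through an `i`-set, `i ≤ t`. -/
theorem blocks_through (hB : IsSteinerSystem t k B) {S : Finset α} (hS : S.card ≤ t) :
    ((blocks B).filter fun b => S ⊆ b).card * (k - S.card).choose (t - S.card)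
      = (Fintype.card α - S.card).choose (t - S.card) := by
  classical
  have key := card_supersets (b := (univ : Finset α)) (subset_univ S) hS
  rw [card_univ] at key
  rw [← key]
  have hcover : ((univ : Finset α).powersetCard t).filter (fun T => S ⊆ T)
      = ((blocks B).filter fun b => S ⊆ b).biUnion
          (fun b => (b.powersetCard t).filter fun T => S ⊆ T) := by
    ext T
    simp only [mem_filter, mem_powersetCard, subset_univ, true_and, mem_biUnion, mem_blocks]
    constructor
    · rintro ⟨hT, hST⟩
      obtain ⟨b, ⟨hb, hTb⟩, -⟩ := hB.2 T hT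
      exact ⟨b, ⟨hb, hST.trans hTb⟩, ⟨hTb, hT⟩, hST⟩
    · rintro ⟨b, -, ⟨-, hT⟩, hST⟩; exact ⟨hT, hST⟩
  rw [hcover, card_biUnion, sum_congr rfl (fun b hb => ?_), sum_const, smul_eq_mul]
  · obtain ⟨hb1, hb2⟩ := mem_filter.1 hb
    rw [card_supersets hb2 hS, card_of_mem hB (mem_blocks.1 hb1)]
  · intro b hb c hc hne
    refine Finset.disjoint_left.2 fun T hT hT' => hne ?_
    simp only [mem_filter, mem_powersetCard] at hT hT'
    simp only [coe_filter, Set.mem_ofPred_eq, mem_blocks] at hb hc
    exact eq_of_inter hB hb.1 hc.1 (hT.1.2 ▸ card_le_card (subset_inter hT.1.1 hT'.1.1))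

theorem card_blocks (hB : IsSteinerSystem t k B) :
    (blocks B).card * k.choose t = (Fintype.card α).choose t := by
  have := blocks_through hB (S := ∅) (by simp)
  simpa using this

theorem ncard_eq_card (p : Finset α → Prop) [DecidablePred p] :
    {b : Finset α | b ∈ B ∧ p b}.ncard = ((blocks B).filter p).card := by
  rw [← Set.ncard_coe_finset]
  congr 1; ext b; simp [mem_blocks]

/-- `∑ C(|b ∩ U|, i)` counts (block, `i`-subset of `U` in it) pairs. -/
theorem moment_eq (hB : IsSteinerSystem t k B) (U : Finset α) {i lam : ℕ} (hi : i ≤ t)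
    (hlam : ∀ S : Finset α, S.card = i → ((blocks B).filter fun b => S ⊆ b).card = lam) :
    ∑ b ∈ blocks B, (b ∩ U).card.choose i = U.card.choose i * lam := by
  have _ := hB
  have _ := hi
  simp only [← card_powersetCard]
  have : ∀ b : Finset α, ((b ∩ U).powersetCard i).card
      = ∑ S ∈ U.powersetCard i, if S ⊆ b then 1 else 0 := by
    intro b
    rw [← card_filter]
    congr 1
    ext S
    simp only [mem_powersetCard, mem_filter, subset_inter_iff]
    tauto
  simp only [this]
  rw [sum_comm, sum_congr rfl (fun S hS => ?_), sum_const, smul_eq_mul]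
  rw [← card_filter]
  exact hlam S (mem_powersetCard.1 hS).2

/-- Blocks through an `i`-set, numerically. -/
theorem lam_eq (hB : IsSteinerSystem t k B) {i lam : ℕ} (hi : i ≤ t)
    (hpos : 0 < (k - i).choose (t - i))
    (h : lam * (k - i).choose (t - i) = (Fintype.card α - i).choose (t - i)) :
    ∀ S : Finset α, S.card = i → ((blocks B).filter fun b => S ⊆ b).card = lam := by
  intro S hS
  have := blocks_through hB (S := S) (hS ▸ hi)
  rw [hS, ← h] at this
  exact Nat.eq_of_mul_eq_mul_right hpos this

/-- Moment with explicit constants. -/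
theorem moment (hB : IsSteinerSystem t k B) (U : Finset α) (i lam : ℕ) (hi : i ≤ t)
    (hpos : 0 < (k - i).choose (t - i))
    (h : lam * (k - i).choose (t - i) = (Fintype.card α - i).choose (t - i)) :
    ∑ b ∈ blocks B, (b ∩ U).card.choose i = U.card.choose i * lam :=
  moment_eq hB U hi (lam_eq hB hi hpos h)

/-- Regroup blocks by intersection size. -/
theorem sum_by_size (U : Finset α) (F : Finset (Finset α)) (f : ℕ → ℕ) (n : ℕ)
    (hn : ∀ b ∈ F, (b ∩ U).card < n) :
    ∑ b ∈ F, f (b ∩ U).card
      = ∑ j ∈ range n, (F.filter fun b => (b ∩ U).card = j).card * f j := by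
  rw [← sum_fiberwise_of_maps_to (g := fun b => (b ∩ U).card) (t := range n)
    (fun b hb => mem_range.2 (hn b hb))]
  refine sum_congr rfl fun j _ => ?_
  rw [sum_congr rfl (fun b hb => by rw [(mem_filter.1 hb).2]), sum_const, smul_eq_mul]

/-- Blocks meeting `b` exactly in `S`. -/
noncomputable def exactly (B : Set (Finset α)) (b S : Finset α) : ℕ :=
  ((blocks B).filter fun c => b ∩ c = S).card

/-- Triangle recursion for the blocks meeting a block exactly in a given subset. -/
theorem exactly_rec (hB : IsSteinerSystem t k B) {b : Finset α} (hb : b ∈ B) (f : ℕ → ℕ) (i : ℕ)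
    (hi : i ≤ t) (lam : ℕ) (hpos : 0 < (k - i).choose (t - i))
    (h : lam * (k - i).choose (t - i) = (Fintype.card α - i).choose (t - i))
    (hf : ∀ R ⊆ b, i < R.card → exactly B b R = f R.card) {S : Finset α} (hS : S ⊆ b)
    (hSi : S.card = i) :
    lam = exactly B b S + ∑ j ∈ Ioc i k, (k - i).choose (j - i) * f j := by
  classical
  rw [← lam_eq hB hi hpos h S hSi,
    card_eq_sum_card_fiberwise (f := fun c => b ∩ c) (t := b.powerset.filter fun R => S ⊆ R)
      (fun c hc => by
        simp only [coe_filter, Set.mem_ofPred_eq] at hc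
        simp only [coe_filter, Set.mem_ofPred_eq, mem_powerset]
        exact ⟨inter_subset_left, subset_inter hS hc.2⟩)]
  have hfib : ∀ R ∈ b.powerset.filter (fun R => S ⊆ R),
      (((blocks B).filter fun c => S ⊆ c).filter fun c => b ∩ c = R).card = exactly B b R := by
    intro R hR
    congr 1
    ext c
    simp only [mem_filter, mem_powerset] at hR ⊢
    exact ⟨fun h => ⟨h.1.1, h.2⟩, fun h => ⟨⟨h.1, (hR.2.trans h.2.symm.subset).trans inter_subset_right⟩, h.2⟩⟩
  rw [sum_congr rfl hfib]
  have hSm : S ∈ b.powerset.filter (fun R => S ⊆ R) := by simp [hS]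
  rw [← add_sum_erase _ _ hSm]
  congr 1
  rw [← sum_fiberwise_of_maps_to (g := fun R => R.card) (t := Ioc i k) (fun R hR => by
    simp only [mem_erase, mem_filter, mem_powerset] at hR
    have h1 := card_le_card hR.2.1
    rw [card_of_mem hB hb] at h1
    have h2 : S ⊂ R := Finset.ssubset_iff_subset_ne.2 ⟨hR.2.2, Ne.symm hR.1⟩
    have h3 := card_lt_card h2
    exact mem_Ioc.2 ⟨hSi ▸ h3, h1⟩)]
  refine sum_congr rfl fun j hj => ?_
  rw [mem_Ioc] at hj
  have hset : ((b.powerset.filter fun R => S ⊆ R).erase S).filter (fun R => R.card = j)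
      = (b.powersetCard j).filter fun R => S ⊆ R := by
    ext R
    simp only [mem_filter, mem_erase, mem_powerset, mem_powersetCard]
    refine ⟨fun h => ⟨⟨h.1.2.1, h.2⟩, h.1.2.2⟩, fun h => ⟨⟨?_, h.1.1, h.2⟩, h.1.2⟩⟩
    intro e; subst e; omega
  rw [sum_congr rfl (fun R hR => by
      obtain ⟨h1, h2⟩ := mem_filter.1 hR
      rw [hf R (mem_powerset.1 (mem_filter.1 (mem_erase.1 h1).2).1) (by omega), h2]),
    sum_const, smul_eq_mul, hset, card_supersets hS (by omega), card_of_mem hB hb, hSi]

/-- Blocks meeting a block in `t` or more points: only itself. -/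
theorem exactly_large (hB : IsSteinerSystem t k B) {b : Finset α} (hb : b ∈ B) {R : Finset α}
    (hR : R ⊆ b) (ht : t ≤ R.card) : exactly B b R = if R.card = k then 1 else 0 := by
  classical
  split_ifs with h
  · have hRb : R = b := eq_of_subset_of_card_le hR (by rw [card_of_mem hB hb, h])
    rw [exactly, card_eq_one]
    refine ⟨b, ?_⟩
    ext c
    simp only [mem_filter, mem_blocks, mem_singleton]
    constructor
    · rintro ⟨hc, he⟩
      exact (eq_of_inter hB hb hc (by rw [he]; exact ht)).symm
    · rintro rfl; exact ⟨hb, by rw [inter_self, hRb]⟩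
  · rw [exactly, card_eq_zero, filter_eq_empty_iff]
    intro c hc he
    have := eq_of_inter hB hb (mem_blocks.1 hc) (by rw [he]; exact ht)
    subst this
    rw [inter_self] at he
    exact h (by rw [← he, card_of_mem hB hb])

theorem exactly_ne_zero {b c : Finset α} (hc : c ∈ B) : exactly B b (b ∩ c) ≠ 0 := by
  rw [exactly, Ne, card_eq_zero]
  exact ne_empty_of_mem (mem_filter.2 ⟨mem_blocks.2 hc, rfl⟩)

theorem inter_card_le (hB : IsSteinerSystem t k B) {b c : Finset α} (hb : b ∈ B) (hc : c ∈ B)
    (hne : b ≠ c) : (b ∩ c).card < t := by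
  by_contra h
  exact hne (eq_of_inter hB hb hc (by omega))

end Cfsg.Agent.Steiner
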