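import Mathlib.LinearAlgebra.Quotient.Card
import Cfsg.Agent.Lib.Steiner.Basic

/-!
The weight-eight words of a [24,12,8] binary code form an S(5,8,24).
-/

namespace Cfsg.Agent.Steiner

open Cfsg Finset

variable {α : Type*} [Fintype α] [DecidableEq α]

/-- The word of a set. -/
def word (s : Finset α) : α → ZMod 2 := fun a => if a ∈ s then 1 else 0

theorem support_word (s : Finset α) : support₂ (word s) = s := by
  ext a
  refine ⟨fun h => ?_, fun h => mem_filter.2 ⟨mem_univ _, by simp [word, h]⟩⟩
  by_contra e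
  exact (mem_filter.1 h).2 (by simp [word, e])

theorem word_support (w : α → ZMod 2) : word (support₂ w) = w := by
  funext a
  rcases (by decide : ∀ x : ZMod 2, x = 0 ∨ x = 1) (w a) with h | h <;> simp [word, support₂, h]

theorem word_symmDiff (s t : Finset α) : word (symmDiff s t) = word s - word t := by
  funext a
  simp only [word, Pi.sub_apply, mem_symmDiff]
  by_cases h1 : a ∈ s <;> by_cases h2 : a ∈ t <;> simp [h1, h2]

theorem card_support (w : α → ZMod 2) : (support₂ w).card = hammingNorm w := rfl

theorem word_union {t u : Finset α} (h : Disjoint t u) : symmDiff t u = t ∪ u := by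
  rw [symmDiff_eq_sup_sdiff_inf, inf_eq_inter, disjoint_iff_inter_eq_empty.1 h, sdiff_empty,
    sup_eq_union]

theorem card_symm (s t : Finset α) :
    (symmDiff s t).card + 2 * (s ∩ t).card = s.card + t.card := by
  rw [symmDiff_def, sup_eq_union, card_union_of_disjoint disjoint_sdiff_sdiff]
  have h1 := card_sdiff_add_card_inter s t
  have h2 := card_sdiff_add_card_inter t s
  rw [inter_comm t s] at h2
  omega

theorem steiner_of_code (hα : Fintype.card α = 24) (C : Submodule (ZMod 2) (α → ZMod 2))
    (hcard : Nat.card C = 4096) (hmin : ∀ w ∈ C, w ≠ 0 → 8 ≤ hammingNorm w) :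
    IsSteinerSystem 5 8 {s : Finset α | s.card = 8 ∧ word s ∈ C} := by
  classical
  have hsd : ∀ {a b : Finset α}, word (symmDiff a b) ∈ C → a ≠ b → 8 ≤ (symmDiff a b).card := by
    intro a b h hne
    have h0 : word (symmDiff a b) ≠ 0 := fun e => hne (symmDiff_eq_bot.1 (by
      rw [← support_word (symmDiff a b), e]; simp [support₂]))
    have := hmin _ h h0
    rwa [← card_support, support_word] at this
  refine ⟨fun b hb => hb.1, fun s hs => ?_⟩
  have huniq : ∀ b c : Finset α, b.card = 8 → word b ∈ C → c.card = 8 → word c ∈ C → s ⊆ b → s ⊆ c →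
      b = c := by
    intro b c hb hbC hc hcC hsb hsc
    by_contra hne
    have h1 := hsd (by rw [word_symmDiff]; exact sub_mem hbC hcC) hne
    have h2 := card_symm b c
    have h3 := card_le_card (subset_inter hsb hsc)
    omega
  let φ : Finset α → (α → ZMod 2) ⧸ C := fun a => Submodule.Quotient.mk (word a)
  have hφ : ∀ a b, φ a = φ b ↔ word (symmDiff a b) ∈ C := fun a b => by
    rw [word_symmDiff]; exact Submodule.Quotient.eq C
  have hQ : Nat.card ((α → ZMod 2) ⧸ C) = 4096 := by
    have h := C.card_eq_card_quotient_mul_card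
    rw [hcard, Nat.card_fun, Nat.card_zmod, Nat.card_eq_fintype_card (α := α), hα] at h
    omega
  have : Fintype ((α → ZMod 2) ⧸ C) := Fintype.ofFinite _
  set S := (range 4).biUnion fun k => (univ : Finset α).powersetCard k with hS
  set T := (univ : Finset α).powersetCard 4 with hT
  have hScard : ∀ a ∈ S, a.card ≤ 3 := fun a ha => by
    obtain ⟨k, hk, h⟩ := mem_biUnion.1 ha
    have := mem_range.1 hk
    rw [(mem_powersetCard.1 h).2]; omega
  have hS2325 : S.card = 2325 := by
    rw [hS, card_biUnion]
    · simp only [card_powersetCard, card_univ, hα, sum_range_succ, sum_range_zero]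
      decide
    · intro a _ b _ hab
      refine Finset.disjoint_left.2 fun z h1 h2 => hab ?_
      rw [← (mem_powersetCard.1 h1).2, (mem_powersetCard.1 h2).2]
  have hinj : Set.InjOn φ S := by
    intro a ha b hb h
    by_contra hne
    have := hsd ((hφ a b).1 h) hne
    have := card_symm a b
    have := hScard a ha
    have := hScard b hb
    omega
  have hdisj : Disjoint (S.image φ) (T.image φ) := by
    refine Finset.disjoint_left.2 fun z h1 h2 => ?_
    obtain ⟨a, ha, rfl⟩ := mem_image.1 h1
    obtain ⟨b, hb, hab⟩ := mem_image.1 h2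
    have h4 := (mem_powersetCard.1 hb).2
    have h3 := hScard a ha
    have := hsd ((hφ b a).1 hab) (fun e => by rw [e] at h4; omega)
    have := card_symm b a
    omega
  have hk : (T.image φ).card ≤ 1771 := by
    have h := card_le_univ (S.image φ ∪ T.image φ)
    rw [card_union_of_disjoint hdisj, card_image_of_injOn hinj, hS2325,
      ← Nat.card_eq_fintype_card, hQ] at h
    omega
  have hfd : ∀ z, ((T.filter fun a => φ a = z) : Set (Finset α)).PairwiseDisjoint id := by
    intro z a ha b hb hne
    simp only [coe_filter, Set.mem_ofPred_eq] at ha hb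
    have h1 := hsd ((hφ a b).1 (ha.2.trans hb.2.symm)) hne
    have h2 := card_symm a b
    have := (mem_powersetCard.1 ha.1).2
    have := (mem_powersetCard.1 hb.1).2
    exact disjoint_iff_inter_eq_empty.2 (card_eq_zero.1 (show (a ∩ b).card = 0 by omega))
  have hfu : ∀ z, ((T.filter fun a => φ a = z).biUnion id).card
      = 4 * (T.filter fun a => φ a = z).card := fun z => by
    rw [card_biUnion (hfd z)]
    simp only [id]
    rw [sum_congr rfl (g := fun _ => 4)
      (fun a ha => (mem_powersetCard.1 (mem_filter.1 ha).1).2), sum_const, smul_eq_mul, mul_comm]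
  have hle6 : ∀ z ∈ T.image φ, (T.filter fun a => φ a = z).card ≤ 6 := fun z _ => by
    have h := card_le_univ ((T.filter fun a => φ a = z).biUnion id)
    rw [hfu, hα] at h
    omega
  have hsum := card_eq_sum_card_image φ T
  rw [hT, card_powersetCard, card_univ, hα, show (24 : ℕ).choose 4 = 10626 by decide, ← hT] at hsum
  obtain ⟨x, hx⟩ := card_pos.1 (show 0 < s.card by omega)
  set t := s.erase x with ht
  have ht4 : t.card = 4 := by rw [ht, card_erase_of_mem hx, hs]
  have htT : t ∈ T := mem_powersetCard.2 ⟨subset_univ _, ht4⟩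
  have h6 : (T.filter fun a => φ a = φ t).card = 6 := by
    by_contra hne
    have h5 := hle6 _ (mem_image_of_mem φ htT)
    have hlt : ∑ z ∈ T.image φ, (T.filter fun a => φ a = z).card < ∑ _z ∈ T.image φ, 6 :=
      sum_lt_sum hle6 ⟨φ t, mem_image_of_mem φ htT, by omega⟩
    rw [sum_const, smul_eq_mul, ← hsum] at hlt
    omega
  have hall : (T.filter fun a => φ a = φ t).biUnion id = univ :=
    eq_univ_of_card _ (by rw [hfu, h6, hα])
  obtain ⟨u, hu, hxu⟩ := mem_biUnion.1 (hall ▸ mem_univ x : x ∈ _)
  have hxu : x ∈ u := hxu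
  obtain ⟨huT, huφ⟩ := mem_filter.1 hu
  have hne : t ≠ u := fun e => notMem_erase x s (show x ∈ t from e ▸ hxu)
  have hdis : Disjoint t u :=
    hfd (φ t) (mem_coe.2 (mem_filter.2 ⟨htT, rfl⟩)) (mem_coe.2 (mem_filter.2 ⟨huT, huφ⟩)) hne
  have hwu : word (t ∪ u) ∈ C := by rw [← word_union hdis]; exact (hφ t u).1 huφ.symm
  have h8 : (t ∪ u).card = 8 := by
    rw [card_union_of_disjoint hdis, ht4, (mem_powersetCard.1 huT).2]
  have hsub : s ⊆ t ∪ u := fun p hp => by
    by_cases e : p = x
    · exact mem_union_right _ (e ▸ hxu)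
    · exact mem_union_left _ (mem_erase.2 ⟨e, hp⟩)
  exact ⟨t ∪ u, ⟨⟨h8, hwu⟩, hsub⟩, fun c hc => huniq c _ hc.1.1 hc.1.2 h8 hwu hc.2 hsub⟩

end Cfsg.Agent.Steiner
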