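import Mathlib.Algebra.Order.Group.End
import Mathlib.Combinatorics.SimpleGraph.Maps
import Mathlib.GroupTheory.GroupAction.Quotient
import Mathlib.Data.Set.Card
import Mathlib.Tactic
import Cfsg.Prelude.Def_Sporadic_a

/-!
Automorphisms of point-block graphs.
-/

namespace Cfsg.Agent.PointBlock

open Cfsg
open scoped Pointwise

variable {α : Type*} [DecidableEq α] {B : Set (Finset α)}

omit [DecidableEq α] in
theorem adj_none {v : Option (α ⊕ B)} :
    (pointBlockGraph B).Adj none v ↔ ∃ a, v = some (Sum.inl a) := by
  rcases v with _ | a | b <;> simp [pointBlockGraph, pointBlockRel]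

omit [DecidableEq α] in
theorem adj_point_block {a : α} {b : B} :
    (pointBlockGraph B).Adj (some (Sum.inl a)) (some (Sum.inr b)) ↔ a ∈ (b : Finset α) := by
  simp [pointBlockGraph, pointBlockRel]

omit [DecidableEq α] in
theorem adj_point_point {a a' : α} :
    ¬ (pointBlockGraph B).Adj (some (Sum.inl a)) (some (Sum.inl a')) := by
  simp [pointBlockGraph, pointBlockRel]

omit [DecidableEq α] in
theorem adj_block_block {b c : B} :
    (pointBlockGraph B).Adj (some (Sum.inr b)) (some (Sum.inr c)) ↔
      b ≠ c ∧ Disjoint (b : Finset α) (c : Finset α) := by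
  simp only [pointBlockGraph, SimpleGraph.fromRel_adj, ne_eq, Option.some_inj, Sum.inr.injEq,
    pointBlockRel]
  exact and_congr_right fun _ => ⟨fun h => h.elim id (fun h => h.symm), Or.inl⟩

theorem smul_mem {π : Equiv.Perm α} (hπ : π ∈ setSystemAut B) {b : Finset α} (hb : b ∈ B) :
    π • b ∈ B := by
  rw [← MulAction.mem_stabilizer_iff.1 hπ]
  exact Set.smul_mem_smul_set hb

/-- The action of an automorphism of the system on the blocks. -/
def blockPerm (π : setSystemAut B) : B ≃ B where
  toFun b := ⟨(π : Equiv.Perm α) • (b : Finset α), smul_mem π.2 b.2⟩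
  invFun b := ⟨(π : Equiv.Perm α)⁻¹ • (b : Finset α), smul_mem (inv_mem π.2) b.2⟩
  left_inv b := Subtype.ext (inv_smul_smul _ _)
  right_inv b := Subtype.ext (smul_inv_smul _ _)

/-- The extension of an automorphism of the system to the graph. -/
def extend (π : setSystemAut B) : pointBlockGraph B ≃g pointBlockGraph B where
  toEquiv := Equiv.optionCongr (Equiv.sumCongr (π : Equiv.Perm α) (blockPerm π))
  map_rel_iff' := by
    intro v w
    rcases v with _ | a | b <;> rcases w with _ | a' | b'
    · simp [pointBlockGraph]
    · simp [pointBlockGraph, pointBlockRel]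
    · simp [pointBlockGraph, pointBlockRel]
    · simp [pointBlockGraph, pointBlockRel]
    · exact iff_of_false adj_point_point adj_point_point
    · refine (adj_point_block (a := (π : Equiv.Perm α) a) (b := blockPerm π b')).trans
        (Iff.trans ?_ adj_point_block.symm)
      exact Finset.smul_mem_smul_finset_iff (π : Equiv.Perm α)
    · simp [pointBlockGraph, pointBlockRel]
    · refine (SimpleGraph.adj_comm _ _ _).trans (Iff.trans ?_ (SimpleGraph.adj_comm _ _ _))
      refine (adj_point_block (a := (π : Equiv.Perm α) a') (b := blockPerm π b)).trans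
        (Iff.trans ?_ adj_point_block.symm)
      exact Finset.smul_mem_smul_finset_iff (π : Equiv.Perm α)
    · refine (adj_block_block (b := blockPerm π b) (c := blockPerm π b')).trans
        (Iff.trans ?_ adj_block_block.symm)
      refine and_congr (blockPerm π).injective.ne_iff ?_
      show Disjoint ((π : Equiv.Perm α) • (b : Finset α)) ((π : Equiv.Perm α) • (b' : Finset α)) ↔ _
      rw [Finset.disjoint_left, Finset.disjoint_left]
      constructor
      · intro h x hx hx'
        exact h (Finset.smul_mem_smul_finset hx) (Finset.smul_mem_smul_finset hx')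
      · intro h x hx hx'
        rw [← Finset.inv_smul_mem_iff] at hx hx'
        exact h hx hx'

/-- The underlying permutation of an automorphism. -/
def toPerm {V : Type*} (G : SimpleGraph V) : (G ≃g G) →* Equiv.Perm V where
  toFun g := g.toEquiv
  map_one' := rfl
  map_mul' _ _ := rfl

theorem toPerm_injective {V : Type*} (G : SimpleGraph V) : Function.Injective (toPerm G) :=
  fun _ _ h => RelIso.toEquiv_injective h

theorem exists_aut {g : pointBlockGraph B ≃g pointBlockGraph B} [Finite α] (hB : ∀ b ∈ B, b.Nonempty)
    (hsep : Function.Injective fun b : B => (b : Finset α)) (h0 : g none = none) :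
    ∃ π : setSystemAut B, extend π = g := by
  classical
  have hpt : ∀ a, ∃ a', g (some (Sum.inl a)) = some (Sum.inl a') := fun a => by
    have h : (pointBlockGraph B).Adj (g none) (g (some (Sum.inl a))) :=
      g.map_rel_iff.2 (adj_none.2 ⟨a, rfl⟩)
    rw [h0] at h
    exact adj_none.1 h
  choose f hf using hpt
  have hfinj : Function.Injective f := fun a a' e => by
    have := g.injective ((hf a).trans ((congrArg (fun z => some (Sum.inl z)) e).trans (hf a').symm))
    simpa using this
  let π : Equiv.Perm α := Equiv.ofBijective f ⟨hfinj, (Finite.injective_iff_surjective).1 hfinj⟩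
  have hblk : ∀ b : B, ∃ c : B, g (some (Sum.inr b)) = some (Sum.inr c) ∧ π • (b : Finset α) = c := by
    intro b
    rcases hc : g (some (Sum.inr b)) with _ | a | c
    · exact absurd (g.injective (hc.trans h0.symm)) (by simp)
    · exfalso
      obtain ⟨a', rfl⟩ := (Finite.injective_iff_surjective).1 hfinj a
      exact absurd (g.injective (hc.trans (hf a').symm)) (by simp)
    · refine ⟨c, rfl, Finset.ext fun x => ?_⟩
      obtain ⟨a, rfl⟩ := π.surjective x
      rw [show π a = π • a from rfl, Finset.smul_mem_smul_finset_iff, ← adj_point_block (b := b),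
        ← g.map_rel_iff, hc, hf]
      exact adj_point_block
  have hπ : π ∈ setSystemAut B := by
    refine MulAction.mem_stabilizer_iff.2 (Set.eq_of_subset_of_ncard_le ?_ ?_ (Set.toFinite B))
    · rintro _ ⟨b, hb, rfl⟩
      obtain ⟨c, -, e⟩ := hblk ⟨b, hb⟩
      show π • b ∈ B
      rw [show π • b = (c : Finset α) from e]
      exact c.2
    · rw [← Set.image_smul, Set.ncard_image_of_injective _ (MulAction.injective π)]
  refine ⟨⟨π, hπ⟩, RelIso.ext fun v => ?_⟩
  rcases v with _ | a | b
  · exact h0.symm
  · exact (hf a).symm
  · obtain ⟨c, hc, e⟩ := hblk b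
    rw [hc]
    show some (Sum.inr (blockPerm ⟨π, hπ⟩ b)) = _
    rw [show blockPerm ⟨π, hπ⟩ b = c from Subtype.ext e]

/-- The order of the automorphism group of a vertex transitive point-block graph. -/
theorem card_aut [Finite α] (hB : ∀ b ∈ B, b.Nonempty)
    (htr : ∀ v : Option (α ⊕ B), ∃ g : pointBlockGraph B ≃g pointBlockGraph B, g none = v) :
    Nat.card (pointBlockGraph B ≃g pointBlockGraph B)
      = Nat.card (Option (α ⊕ B)) * Nat.card (setSystemAut B) := by
  let : MulAction (pointBlockGraph B ≃g pointBlockGraph B) (Option (α ⊕ B)) :=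
    MulAction.compHom _ (toPerm (pointBlockGraph B))
  have ho : MulAction.orbit (pointBlockGraph B ≃g pointBlockGraph B) (none : Option (α ⊕ B)) = Set.univ :=
    Set.eq_univ_of_forall fun v => htr v
  rw [← (MulAction.stabilizer (pointBlockGraph B ≃g pointBlockGraph B) (none : Option (α ⊕ B))).card_mul_index,
    MulAction.index_stabilizer, ho, Set.ncard_univ, mul_comm]
  congr 1
  refine (Nat.card_congr (Equiv.ofBijective
    (fun π : setSystemAut B => (⟨extend π, rfl⟩ : MulAction.stabilizer
      (pointBlockGraph B ≃g pointBlockGraph B) (none : Option (α ⊕ B)))) ⟨?_, ?_⟩)).symm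
  · intro p q h
    refine Subtype.ext (Equiv.ext fun a => ?_)
    have h' := congrArg (fun z : pointBlockGraph B ≃g pointBlockGraph B => z (some (Sum.inl a)))
      (congrArg Subtype.val h)
    exact Sum.inl_injective (Option.some_injective _ h')
  · rintro ⟨g, hg⟩
    obtain ⟨π, hπ⟩ := exists_aut (g := g) hB Subtype.coe_injective hg
    exact ⟨π, Subtype.ext hπ⟩

/-- Isomorphic systems have isomorphic graphs. -/
noncomputable def graphCongr {β : Type*} [DecidableEq β] {B' : Set (Finset β)} (e : α ≃ β)
    (he : (fun b => b.image e) '' B = B') : pointBlockGraph B ≃g pointBlockGraph B' where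
  toEquiv := Equiv.optionCongr (Equiv.sumCongr e
    (Equiv.ofBijective (fun b : B => (⟨(b : Finset α).image e, he ▸ Set.mem_image_of_mem _ b.2⟩ : B'))
      ⟨fun b c h => Subtype.ext (Finset.image_injective e.injective (congrArg Subtype.val h)),
        fun c => by
          have hc : (c : Finset β) ∈ (fun b => b.image e) '' B := by rw [he]; exact c.2
          obtain ⟨b, hb, hbc⟩ := hc
          exact ⟨⟨b, hb⟩, Subtype.ext hbc⟩⟩))
  map_rel_iff' := by
    intro v w
    rcases v with _ | a | b <;> rcases w with _ | a' | b'
    · simp [pointBlockGraph]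
    · simp [pointBlockGraph, pointBlockRel]
    · simp [pointBlockGraph, pointBlockRel]
    · simp [pointBlockGraph, pointBlockRel]
    · exact iff_of_false adj_point_point adj_point_point
    · refine (adj_point_block (B := B') (a := e a)).trans (Iff.trans ?_ adj_point_block.symm)
      exact e.injective.mem_finset_image
    · simp [pointBlockGraph, pointBlockRel]
    · refine (SimpleGraph.adj_comm _ _ _).trans (Iff.trans ?_ (SimpleGraph.adj_comm _ _ _))
      refine (adj_point_block (B := B') (a := e a')).trans (Iff.trans ?_ adj_point_block.symm)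
      exact e.injective.mem_finset_image
    · refine (adj_block_block (B := B')).trans (Iff.trans ?_ adj_block_block.symm)
      refine and_congr (Iff.not ⟨fun h => Subtype.ext (Finset.image_injective e.injective
        (congrArg Subtype.val h)), fun h => congrArg _ h⟩) ?_
      exact Finset.disjoint_image e.injective

/-- Automorphism groups of isomorphic graphs. -/
def autCongr {V W : Type*} {G : SimpleGraph V} {H : SimpleGraph W} (φ : G ≃g H) :
    (G ≃g G) ≃* (H ≃g H) where
  toFun g := φ.symm.trans (g.trans φ)
  invFun h := φ.trans (h.trans φ.symm)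
  left_inv g := RelIso.ext fun v => by simp
  right_inv h := RelIso.ext fun v => by simp
  map_mul' g g' := RelIso.ext fun v => by
    show φ (g (g' (φ.symm v))) = φ (g (φ.symm (φ (g' (φ.symm v)))))
    rw [RelIso.symm_apply_apply]

end Cfsg.Agent.PointBlock
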