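import Mathlib.GroupTheory.GroupAction.MultipleTransitivity
import Cfsg.Prelude.Def_Sporadic_a

/-!
Transport of automorphism groups of set systems along a bijection.
-/

namespace Cfsg.Agent.Steiner

open Cfsg
open scoped Pointwise

variable {α β : Type*} [DecidableEq α] [DecidableEq β] {B : Set (Finset α)} {B' : Set (Finset β)}

theorem permCongr_smul (e : α ≃ β) (σ : Equiv.Perm α) (b : Finset α) :
    e.permCongr σ • b.image e = (σ • b).image e := by
  simp only [Finset.smul_finset_def, Finset.image_image]
  exact Finset.image_congr fun p _ => by simp [Equiv.permCongr_apply]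

theorem mem_aut_congr (e : α ≃ β) (he : (fun b => b.image e) '' B = B') (σ : Equiv.Perm α) :
    e.permCongr σ ∈ setSystemAut B' ↔ σ ∈ setSystemAut B := by
  simp only [MulAction.mem_stabilizer_iff, ← he]
  rw [show e.permCongr σ • ((fun b => b.image e) '' B) = (fun b => b.image e) '' (σ • B) by
    rw [← Set.image_smul, ← Set.image_smul, Set.image_image, Set.image_image]
    exact Set.image_congr' fun b => permCongr_smul e σ b]
  exact (Set.image_injective.2 (Finset.image_injective e.injective)).eq_iff

/-- Isomorphic set systems have isomorphic groups. -/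
noncomputable def autEquiv (e : α ≃ β) (he : (fun b => b.image e) '' B = B') :
    ↥(setSystemAut B) ≃* ↥(setSystemAut B') :=
  (e.permCongrHom.subgroupMap (setSystemAut B)).trans
    (MulEquiv.subgroupCongr (by
      ext σ
      constructor
      · rintro ⟨τ, hτ, rfl⟩; exact (mem_aut_congr e he τ).2 hτ
      · intro hσ
        obtain ⟨τ, rfl⟩ := e.permCongr.surjective σ
        exact ⟨τ, (mem_aut_congr e he τ).1 hσ, rfl⟩))

theorem autEquiv_coe (e : α ≃ β) (he : (fun b => b.image e) '' B = B') (σ : setSystemAut B) :
    ((autEquiv e he σ : setSystemAut B') : Equiv.Perm β) = e.permCongr σ := rfl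

theorem pretransitive_congr (e : α ≃ β) (he : (fun b => b.image e) '' B = B') {n : ℕ}
    (h : MulAction.IsMultiplyPretransitive (setSystemAut B) α n) :
    MulAction.IsMultiplyPretransitive (setSystemAut B') β n := by
  constructor
  intro x y
  obtain ⟨σ, hσ⟩ := h.exists_smul_eq (x.trans e.symm.toEmbedding) (y.trans e.symm.toEmbedding)
  refine ⟨autEquiv e he σ, Function.Embedding.ext fun i => ?_⟩
  have hi : (σ : Equiv.Perm α) (e.symm (x i)) = e.symm (y i) :=
    congrArg (fun f : Fin n ↪ α => f i) hσ
  show ((autEquiv e he σ : setSystemAut B') : Equiv.Perm β) (x i) = y i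
  rw [autEquiv_coe, Equiv.permCongr_apply, hi, e.apply_symm_apply]

theorem stabilizer_congr (e : α ≃ β) (he : (fun b => b.image e) '' B = B') {n : ℕ}
    (h : ∀ x : Fin n ↪ α, MulAction.stabilizer (setSystemAut B) x = ⊥) (x : Fin n ↪ β) :
    MulAction.stabilizer (setSystemAut B') x = ⊥ := by
  rw [eq_bot_iff]
  intro τ hτ
  obtain ⟨σ, rfl⟩ := (autEquiv e he).surjective τ
  have hmem : σ ∈ MulAction.stabilizer (setSystemAut B) (x.trans e.symm.toEmbedding) := by
    refine MulAction.mem_stabilizer_iff.2 (Function.Embedding.ext fun i => e.injective ?_)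
    have := congrArg (fun f : Fin n ↪ β => f i) (MulAction.mem_stabilizer_iff.1 hτ)
    show e ((σ : Equiv.Perm α) (e.symm (x i))) = e (e.symm (x i))
    rw [e.apply_symm_apply, ← Equiv.permCongr_apply, ← autEquiv_coe e he]
    exact this
  rw [h] at hmem
  rw [Subgroup.mem_bot] at hmem ⊢
  rw [hmem, map_one]

theorem iso_trans {γ : Type*} [DecidableEq γ] {C : Set (Finset γ)} (h : SetSystemIso B B')
    (h' : SetSystemIso B' C) : SetSystemIso B C := by
  obtain ⟨e, he⟩ := h
  obtain ⟨f, hf⟩ := h'
  refine ⟨e.trans f, ?_⟩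
  rw [← hf, ← he, Set.image_image]
  exact Set.image_congr' fun b => by rw [Finset.image_image]; rfl

theorem iso_symm (h : SetSystemIso B B') : SetSystemIso B' B := by
  obtain ⟨e, he⟩ := h
  refine ⟨e.symm, ?_⟩
  rw [← he, Set.image_image]
  conv_rhs => rw [← Set.image_id B]
  exact Set.image_congr' fun b => by simp [Finset.image_image]

end Cfsg.Agent.Steiner
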