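import Mathlib.Data.Finset.SymmDiff
import Cfsg.Agent.Lib.Steiner.Triangles

/-!
The symmetric-difference closure of the blocks of an S(5,8,24).
-/

namespace Cfsg.Agent.Steiner

open Cfsg Finset

variable {α : Type*} [Fintype α] [DecidableEq α] {B : Set (Finset α)}

/-- Symmetric differences of finitely many blocks. -/
inductive InCl (B : Set (Finset α)) : Finset α → Prop
  | empty : InCl B ∅
  | step {b s : Finset α} : b ∈ B → InCl B s → InCl B (symmDiff b s)

theorem InCl.of_mem {b : Finset α} (hb : b ∈ B) : InCl B b := by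
  have h := InCl.step hb InCl.empty
  rwa [← Finset.bot_eq_empty, symmDiff_bot] at h

theorem InCl.symm {s t : Finset α} (hs : InCl B s) (ht : InCl B t) : InCl B (symmDiff s t) := by
  induction hs with
  | empty => rwa [← Finset.bot_eq_empty, bot_symmDiff]
  | step hb _ ih => rw [symmDiff_assoc]; exact InCl.step hb ih

theorem card_symmDiff_add (s t : Finset α) :
    (symmDiff s t).card + 2 * (s ∩ t).card = s.card + t.card := by
  rw [symmDiff_def, sup_eq_union, card_union_of_disjoint disjoint_sdiff_sdiff]
  have h1 := card_sdiff_add_card_inter s t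
  have h2 := card_sdiff_add_card_inter t s
  rw [inter_comm t s] at h2
  omega

theorem inter_symmDiff (d s t : Finset α) : d ∩ symmDiff s t = symmDiff (d ∩ s) (d ∩ t) := by
  ext x; simp only [mem_inter, mem_symmDiff]; tauto

theorem even_symmDiff {s t : Finset α} (hs : Even s.card) (ht : Even t.card) :
    Even (symmDiff s t).card := by
  have := card_symmDiff_add s t
  obtain ⟨a, ha⟩ := hs
  obtain ⟨b, hb⟩ := ht
  rw [Nat.even_iff]; omega

theorem even_inter_blocks (hα : Fintype.card α = 24) (hB : IsSteinerSystem 5 8 B) {b d : Finset α}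
    (hb : b ∈ B) (hd : d ∈ B) : Even (d ∩ b).card := by
  rcases eq_or_ne d b with rfl | hne
  · rw [inter_self, card_of_mem hB hd]; decide
  · rcases inter24 hα hB hd hb hne with h | h | h <;> rw [h] <;> decide

theorem InCl.even (hα : Fintype.card α = 24) (hB : IsSteinerSystem 5 8 B) {s t : Finset α}
    (hs : InCl B s) (ht : InCl B t) : Even (t ∩ s).card := by
  induction hs with
  | empty => simp
  | @step b s hb _ ih =>
    rw [inter_symmDiff]
    refine even_symmDiff ?_ ih
    clear ih
    induction ht with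
    | empty => simp
    | @step c u hc _ ih2 =>
      rw [inter_comm, inter_symmDiff]
      exact even_symmDiff (even_inter_blocks hα hB hc hb) (by rwa [inter_comm] at ih2)

theorem InCl.four (hα : Fintype.card α = 24) (hB : IsSteinerSystem 5 8 B) {s : Finset α}
    (hs : InCl B s) : 4 ∣ s.card := by
  induction hs with
  | empty => simp
  | @step b s hb hs ih =>
    obtain ⟨a, ha⟩ := InCl.even hα hB hs (InCl.of_mem hb)
    have := card_symmDiff_add b s
    have := card_of_mem hB hb
    omega

theorem InCl.mem_of_card (hα : Fintype.card α = 24) (hB : IsSteinerSystem 5 8 B) {s : Finset α}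
    (hs : InCl B s) (h : s.card = 8) : s ∈ B :=
  mem_of_even hα hB h fun _ hd => InCl.even hα hB hs (InCl.of_mem hd)

theorem InCl.ne_four (hα : Fintype.card α = 24) (hB : IsSteinerSystem 5 8 B) {t : Finset α}
    (ht : InCl B t) : t.card ≠ 4 := by
  intro h4
  obtain ⟨z, hz⟩ : ∃ z, z ∉ t := by
    by_contra h
    push_neg at h
    have := card_le_card (fun a _ => h a : (univ : Finset α) ⊆ t)
    rw [card_univ, hα] at this; omega
  obtain ⟨b, ⟨hb, htb⟩, -⟩ := hB.2 (insert z t) (by rw [card_insert_of_notMem hz, h4])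
  obtain ⟨x, hx⟩ := card_pos.1 (show 0 < t.card by omega)
  have hxz : x ≠ z := fun e => hz (e ▸ hx)
  have hsub : ({x, z} : Finset α) ⊆ b := insert_subset_iff.2
    ⟨htb (mem_insert_of_mem hx), singleton_subset_iff.2 (htb (mem_insert_self _ _))⟩
  have h16 := exactly24 hα hB hb _ hsub
  rw [card_pair hxz] at h16
  obtain ⟨d, hd⟩ : ((blocks B).filter fun c => b ∩ c = {x, z}).Nonempty :=
    card_pos.1 (by rw [← exactly, h16]; decide)
  obtain ⟨hd, hbd⟩ := mem_filter.1 hd
  have e : d ∩ t = {x} := by
    ext p
    simp only [mem_inter, mem_singleton]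
    constructor
    · rintro ⟨hp, hpt⟩
      have : p ∈ b ∩ d := mem_inter.2 ⟨htb (mem_insert_of_mem hpt), hp⟩
      rw [hbd, mem_insert, mem_singleton] at this
      exact this.resolve_right fun e => hz (e ▸ hpt)
    · rintro rfl
      have : p ∈ b ∩ d := by rw [hbd]; exact mem_insert_self _ _
      exact ⟨(mem_inter.1 this).2, hx⟩
  have := InCl.even hα hB ht (InCl.of_mem (mem_blocks.1 hd))
  rw [e, card_singleton] at this
  exact absurd this (by decide)

theorem compl_union_mem (hα : Fintype.card α = 24) (hB : IsSteinerSystem 5 8 B) {o o' : Finset α}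
    (ho : o ∈ B) (ho' : o' ∈ B) (hd : Disjoint o o') : (o ∪ o')ᶜ ∈ B := by
  refine mem_of_even hα hB ?_ fun d hdm => ?_
  · rw [card_compl, card_union_of_disjoint hd, card_of_mem hB ho, card_of_mem hB ho', hα]
  · obtain ⟨p, hp⟩ := even_inter_blocks hα hB ho hdm
    obtain ⟨q, hq⟩ := even_inter_blocks hα hB ho' hdm
    have h1 := card_sdiff_add_card_inter d (o ∪ o')
    rw [inter_union_distrib_left, card_union_of_disjoint
      (hd.mono inter_subset_right inter_subset_right), card_of_mem hB hdm] at h1
    rw [← sdiff_eq_inter_compl, Nat.even_iff]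
    omega

theorem InCl.compl_block (hα : Fintype.card α = 24) (hB : IsSteinerSystem 5 8 B) {o : Finset α}
    (ho : o ∈ B) : InCl B oᶜ := by
  obtain ⟨d, hd⟩ : ((blocks B).filter fun c => o ∩ c = ∅).Nonempty :=
    card_pos.1 (by rw [← exactly, exactly24 hα hB ho ∅ (empty_subset _), card_empty]; decide)
  obtain ⟨hd, hod⟩ := mem_filter.1 hd
  have hdis : Disjoint o d := disjoint_iff_inter_eq_empty.2 hod
  have h := InCl.step (mem_blocks.1 hd) (InCl.of_mem (compl_union_mem hα hB ho (mem_blocks.1 hd) hdis))
  have e : symmDiff d (o ∪ d)ᶜ = oᶜ := by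
    ext p
    simp only [mem_symmDiff, mem_compl, mem_union]
    have : p ∈ o → p ∉ d := fun a => Finset.disjoint_left.1 hdis a
    tauto
  rwa [e] at h

end Cfsg.Agent.Steiner
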