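import Mathlib.Logic.Equiv.Option
import Cfsg.Agent.Lib.Steiner.Closure

/-!
The extension of an S(4,7,23) to an S(5,8,24).
-/

namespace Cfsg.Agent.Steiner

open Cfsg Finset

variable {α : Type*} [Fintype α] [DecidableEq α] {B : Set (Finset α)}

/-- A set with the new point added. -/
def hat (b : Finset α) : Finset (Option α) := insert none (b.map Function.Embedding.some)

theorem some_mem_hat {b : Finset α} {p : α} : some p ∈ hat b ↔ p ∈ b := by simp [hat]

theorem none_mem_hat (b : Finset α) : none ∈ hat b := mem_insert_self _ _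

theorem card_hat (b : Finset α) : (hat b).card = b.card + 1 := by
  rw [hat, card_insert_of_notMem (by simp), card_map]

theorem hat_injective : Function.Injective (hat : Finset α → Finset (Option α)) := fun b c h => by
  ext p; rw [← some_mem_hat, h, some_mem_hat]

theorem hat_inter (b c : Finset α) : hat b ∩ hat c = hat (b ∩ c) := by
  ext (_ | p) <;> simp [none_mem_hat, some_mem_hat, mem_inter]

/-- The blocks with the new point. -/
def hatBlocks (B : Set (Finset α)) : Set (Finset (Option α)) := hat '' B

/-- The extension: the eight-sets in the closure of the extended blocks. -/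
def ext23 (B : Set (Finset α)) : Set (Finset (Option α)) :=
  {s | s.card = 8 ∧ InCl (hatBlocks B) s}

theorem even_hat (hα : Fintype.card α = 23) (hB : IsSteinerSystem 4 7 B) {b c : Finset (Option α)}
    (hb : b ∈ hatBlocks B) (hc : c ∈ hatBlocks B) : Even (c ∩ b).card := by
  obtain ⟨b, hb, rfl⟩ := hb
  obtain ⟨c, hc, rfl⟩ := hc
  rw [hat_inter, card_hat]
  rcases eq_or_ne c b with rfl | hne
  · rw [inter_self, card_of_mem hB hc]; decide
  · rcases inter23 hα hB hc hb hne with h | h <;> rw [h] <;> decide

theorem InCl.even_hat (hα : Fintype.card α = 23) (hB : IsSteinerSystem 4 7 B) {s : Finset (Option α)}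
    (hs : InCl (hatBlocks B) s) {d : Finset (Option α)} (hd : d ∈ hatBlocks B) :
    Even (d ∩ s).card := by
  induction hs with
  | empty => simp
  | step hb _ ih =>
    rw [inter_symmDiff]
    exact even_symmDiff (Steiner.even_hat hα hB hb hd) ih

theorem InCl.four_hat (hα : Fintype.card α = 23) (hB : IsSteinerSystem 4 7 B) {s : Finset (Option α)}
    (hs : InCl (hatBlocks B) s) : 4 ∣ s.card := by
  induction hs with
  | empty => simp
  | @step b s hb hs ih =>
    obtain ⟨a, ha⟩ := InCl.even_hat hα hB hs hb
    have := card_symmDiff_add b s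
    obtain ⟨c, hc, rfl⟩ := hb
    rw [card_hat, card_of_mem hB hc] at *
    omega

theorem InCl.ne_four_hat (hα : Fintype.card α = 23) (hB : IsSteinerSystem 4 7 B)
    {t : Finset (Option α)} (ht : InCl (hatBlocks B) t) : t.card ≠ 4 := by
  intro h4
  have single : ∀ (b : Finset α), b ∈ B → ∀ w ∈ b, ∃ d ∈ B, b ∩ d = {w} := fun b hb w hw => by
    have h := exactly23 hα hB hb {w} (singleton_subset_iff.2 hw)
    rw [card_singleton] at h
    obtain ⟨d, hd⟩ : ((blocks B).filter fun c => b ∩ c = {w}).Nonempty :=
      card_pos.1 (by rw [← exactly, h]; decide)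
    exact ⟨d, mem_blocks.1 (mem_filter.1 hd).1, (mem_filter.1 hd).2⟩
  set a : Finset α := univ.filter fun p => some p ∈ t with ha
  have hmem : ∀ p, p ∈ a ↔ some p ∈ t := fun p => by simp [ha]
  have hat' : ∀ d : Finset α, ∀ p, some p ∈ hat d ∩ t ↔ p ∈ d ∩ a := fun d p => by
    simp [some_mem_hat, hmem]
  by_cases hn : none ∈ t
  · have ha3 : a.card = 3 := by
      have : t = hat a := by ext (_ | p) <;> simp [none_mem_hat, some_mem_hat, hmem, hn]
      rw [this, card_hat] at h4; omega
    obtain ⟨z, hz⟩ : ∃ z, z ∉ a := by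
      by_contra h
      push Not at h
      have := card_le_card (fun x _ => h x : (univ : Finset α) ⊆ a)
      rw [card_univ, hα] at this; omega
    obtain ⟨b, ⟨hb, hsub⟩, -⟩ := hB.2 (insert z a) (by rw [card_insert_of_notMem hz, ha3])
    obtain ⟨w, hw, hwa⟩ := exists_mem_notMem_of_card_lt_card (s := a) (t := b)
      (by rw [ha3, card_of_mem hB hb]; norm_num)
    obtain ⟨d, hd, hbd⟩ := single b hb w hw
    have e : hat d ∩ t = {none} := by
      ext (_ | p)
      · simp [none_mem_hat, hn]
      · rw [hat', mem_inter, mem_singleton]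
        refine iff_of_false (fun h => ?_) (by simp)
        have : p ∈ b ∩ d := mem_inter.2 ⟨hsub (mem_insert_of_mem h.2), h.1⟩
        rw [hbd, mem_singleton] at this
        exact hwa (this ▸ h.2)
    have := InCl.even_hat hα hB ht ⟨d, hd, rfl⟩
    rw [e, card_singleton] at this
    exact absurd this (by decide)
  · have ha4 : a.card = 4 := by
      have : t = a.map Function.Embedding.some := by ext (_ | p) <;> simp [hmem, hn]
      rw [this, card_map] at h4; omega
    obtain ⟨b, ⟨hb, hsub⟩, -⟩ := hB.2 a ha4
    obtain ⟨x, hx⟩ := card_pos.1 (show 0 < a.card by omega)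
    obtain ⟨d, hd, hbd⟩ := single b hb x (hsub hx)
    have e : hat d ∩ t = {some x} := by
      ext (_ | p)
      · simp [hn]
      · rw [hat', mem_inter, mem_singleton, Option.some_inj]
        constructor
        · intro h
          have : p ∈ b ∩ d := mem_inter.2 ⟨hsub h.2, h.1⟩
          rwa [hbd, mem_singleton] at this
        · rintro rfl
          exact ⟨(mem_inter.1 (hbd ▸ mem_singleton_self p)).2, hx⟩
    have := InCl.even_hat hα hB ht ⟨d, hd, rfl⟩
    rw [e, card_singleton] at this
    exact absurd this (by decide)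

theorem ext23_unique (hα : Fintype.card α = 23) (hB : IsSteinerSystem 4 7 B)
    {s c : Finset (Option α)} (hs : s ∈ ext23 B) (hc : c ∈ ext23 B) (h5 : 5 ≤ (s ∩ c).card) :
    s = c := by
  by_contra hne
  have hd := InCl.symm hs.2 hc.2
  obtain ⟨k, hk⟩ := InCl.four_hat hα hB hd
  have h4 := InCl.ne_four_hat hα hB hd
  have h1 := card_symmDiff_add s c
  have h2 := hs.1
  have h3 := hc.1
  have h0 : (symmDiff s c).card = 0 := by omega
  exact hne (symmDiff_eq_bot.1 (card_eq_zero.1 h0))

theorem hat_mem_ext23 (hB : IsSteinerSystem 4 7 B) {b : Finset α} (hb : b ∈ B) : hat b ∈ ext23 B :=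
  ⟨by rw [card_hat, card_of_mem hB hb], InCl.of_mem ⟨b, hb, rfl⟩⟩

theorem isSteiner_ext23 (hα : Fintype.card α = 23) (hB : IsSteinerSystem 4 7 B) :
    IsSteinerSystem 5 8 (ext23 B) := by
  refine ⟨fun b hb => hb.1, fun s hs => ?_⟩
  obtain ⟨b, hb, hsb⟩ : ∃ b ∈ ext23 B, s ⊆ b := by
    set a : Finset α := univ.filter fun p => some p ∈ s with ha
    have hmem : ∀ p, p ∈ a ↔ some p ∈ s := fun p => by simp [ha]
    by_cases hn : none ∈ s
    · have e : s = hat a := by ext (_ | p) <;> simp [none_mem_hat, some_mem_hat, hmem, hn]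
      obtain ⟨b, ⟨hb, hsub⟩, -⟩ := hB.2 a (by rw [e, card_hat] at hs; omega)
      refine ⟨hat b, hat_mem_ext23 hB hb, ?_⟩
      intro q hq
      cases q with
      | none => exact none_mem_hat _
      | some p => exact some_mem_hat.2 (hsub ((hmem p).2 hq))
    · have e : s = a.map Function.Embedding.some := by ext (_ | p) <;> simp [hmem, hn]
      have ha5 : a.card = 5 := by rw [e, card_map] at hs; exact hs
      obtain ⟨x, hx⟩ := card_pos.1 (show 0 < a.card by omega)
      have ht4 : (a.erase x).card = 4 := by rw [card_erase_of_mem hx, ha5]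
      obtain ⟨b, ⟨hb, hsub⟩, -⟩ := hB.2 (a.erase x) ht4
      by_cases hxb : x ∈ b
      · refine ⟨hat b, hat_mem_ext23 hB hb, ?_⟩
        intro q hq
        cases q with
        | none => exact none_mem_hat _
        | some p =>
          refine some_mem_hat.2 ?_
          rcases eq_or_ne p x with rfl | hne
          · exact hxb
          · exact hsub (mem_erase.2 ⟨hne, (hmem p).2 hq⟩)
      · set u := b \ a.erase x with hu
        have hu3 : u.card = 3 := by rw [hu, card_sdiff_of_subset hsub, card_of_mem hB hb, ht4]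
        have hxu : x ∉ u := fun h => hxb (mem_sdiff.1 h).1
        obtain ⟨c, ⟨hc, hcsub⟩, -⟩ := hB.2 (insert x u) (by rw [card_insert_of_notMem hxu, hu3])
        have hne : b ≠ c := fun e => hxb (e ▸ hcsub (mem_insert_self _ _))
        have hbc : b ∩ c = u := by
          have hle : u ⊆ b ∩ c :=
            subset_inter sdiff_subset ((subset_insert _ _).trans hcsub)
          have := inter_card_le hB hb hc hne
          exact (eq_of_subset_of_card_le hle (by omega)).symm
        refine ⟨symmDiff (hat b) (hat c), ⟨?_, InCl.symm (InCl.of_mem ⟨b, hb, rfl⟩)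
          (InCl.of_mem ⟨c, hc, rfl⟩)⟩, ?_⟩
        · have h := card_symmDiff_add (hat b) (hat c)
          rw [hat_inter, card_hat, card_hat, card_hat, card_of_mem hB hb, card_of_mem hB hc, hbc, hu3] at h
          omega
        · intro q hq
          cases q with
          | none => exact absurd hq hn
          | some p =>
            have hp := (hmem p).2 hq
            rw [mem_symmDiff, some_mem_hat, some_mem_hat]
            rcases eq_or_ne p x with rfl | hne
            · exact Or.inr ⟨hcsub (mem_insert_self _ _), hxb⟩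
            · refine Or.inl ⟨hsub (mem_erase.2 ⟨hne, hp⟩), fun h => ?_⟩
              have : p ∈ u := hbc ▸ mem_inter.2 ⟨hsub (mem_erase.2 ⟨hne, hp⟩), h⟩
              exact (mem_sdiff.1 this).2 (mem_erase.2 ⟨hne, hp⟩)
  exact ⟨b, ⟨hb, hsb⟩, fun c hc =>
    ext23_unique hα hB hc.1 hb (hs ▸ card_le_card (subset_inter hc.2 hsb))⟩

theorem mem_ext23_none (hα : Fintype.card α = 23) (hB : IsSteinerSystem 4 7 B)
    {s : Finset (Option α)} (hs : s ∈ ext23 B) (hn : none ∈ s) : ∃ b ∈ B, hat b = s := by
  obtain ⟨T, hT, hT4⟩ := exists_subset_card_eq (s := s.erase none) (n := 4)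
    (by rw [card_erase_of_mem hn, hs.1]; norm_num)
  set a : Finset α := univ.filter fun p => some p ∈ T with ha
  have hmem : ∀ p, p ∈ a ↔ some p ∈ T := fun p => by simp [ha]
  have hTn : none ∉ T := fun h => (mem_erase.1 (hT h)).1 rfl
  have e : T = a.map Function.Embedding.some := by ext (_ | p) <;> simp [hmem, hTn]
  obtain ⟨b, ⟨hb, hsub⟩, -⟩ := hB.2 a (by rw [e, card_map] at hT4; exact hT4)
  refine ⟨b, hb, (ext23_unique hα hB hs (hat_mem_ext23 hB hb) ?_).symm⟩
  refine le_trans (b := (insert none T).card) (by rw [card_insert_of_notMem hTn, hT4])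
    (card_le_card ?_)
  refine insert_subset (mem_inter.2 ⟨hn, none_mem_hat _⟩) fun q hq => ?_
  refine mem_inter.2 ⟨(mem_erase.1 (hT hq)).2, ?_⟩
  cases q with
  | none => exact none_mem_hat _
  | some p => exact some_mem_hat.2 (hsub ((hmem p).2 hq))

end Cfsg.Agent.Steiner
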