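import Mathlib.GroupTheory.Perm.Option
import Cfsg.Agent.Lib.Steiner.Ext23
import Cfsg.Agent.Lib.Steiner.Uniq24
import Cfsg.Agent.Lib.Steiner.AutTransfer
import Cfsg.Agent.Lib.Golay.Mathieu
import Cfsg.Agent.S0369

/-!
Uniqueness of S(4,7,23) and its automorphism group.
-/

namespace Cfsg.Agent.Steiner

open Cfsg Finset Cfsg.Agent.Golay
open scoped Pointwise

/-- The standard S(4,7,23): octads through the last point, without it. -/
def std23 : Set (Finset (ZMod 23)) := {s | hat s ∈ octads}

theorem isSteiner_std23 : IsSteinerSystem 4 7 std23 := by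
  refine ⟨fun b hb => ?_, fun s hs => ?_⟩
  · have h := card_octad (s := hat b) hb
    rw [card_hat] at h
    omega
  · obtain ⟨o, ⟨ho, hsub⟩, huniq⟩ := isSteinerSystem_octads.2 (hat s) (by rw [card_hat, hs])
    set b : Finset (ZMod 23) := univ.filter fun p => some p ∈ o with hb
    have e : hat b = o := by
      ext (_ | p)
      · exact iff_of_true (none_mem_hat _) (hsub (none_mem_hat _))
      · simp [some_mem_hat, hb]
    refine ⟨b, ⟨show hat b ∈ octads from e.symm ▸ ho,
      fun p hp => mem_filter.2 ⟨mem_univ _, hsub (some_mem_hat.2 hp)⟩⟩, fun c hc => hat_injective ?_⟩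
    rw [e]
    refine huniq _ ⟨hc.1, fun q hq => ?_⟩
    cases q with
    | none => exact none_mem_hat _
    | some p => exact some_mem_hat.2 (hc.2 (some_mem_hat.1 hq))

variable {α : Type*} [Fintype α] [DecidableEq α] {B : Set (Finset α)}

theorem exists_iso23 (hα : Fintype.card α = 23) (hB : IsSteinerSystem 4 7 B) :
    ∃ e : ZMod 23 ≃ α, (fun b => b.image e) '' std23 = B := by
  classical
  have hα24 : Fintype.card (Option α) = 24 := by rw [Fintype.card_option, hα]
  obtain ⟨f, hf⟩ := exists_iso_octads hα24 (isSteiner_ext23 hα hB)
  obtain ⟨g, hg, hgn⟩ := exists_M24_map' (k := 1) (x := fun _ => (none : GolayPt))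
    (y := fun _ => f.symm none) (by norm_num) (Function.injective_of_subsingleton _)
    (Function.injective_of_subsingleton _)
  let F : GolayPt ≃ Option α := (g : Equiv.Perm GolayPt).trans f
  have hFn : F none = none := by
    show f (g none) = none
    rw [hgn 0, f.apply_symm_apply]
  have hF : (fun b => b.image F) '' octads = ext23 B := by
    rw [← hf]
    ext s
    constructor
    · rintro ⟨b, hb, rfl⟩
      exact ⟨g • b, smul_mem_octads hg hb, by
        simp only [Finset.smul_finset_def, image_image]; rfl⟩
    · rintro ⟨b, hb, rfl⟩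
      refine ⟨g⁻¹ • b, smul_mem_octads (inv_mem hg) hb, ?_⟩
      simp only [Finset.smul_finset_def, image_image]
      exact image_congr fun p _ => by simp [F, Equiv.Perm.smul_def]
  refine ⟨Equiv.removeNone F, ?_⟩
  have hsome : ∀ p, some (Equiv.removeNone F p) = F (some p) := fun p =>
    Equiv.removeNone_some F (by
      rcases h : F (some p) with _ | w
      · exact absurd (F.injective (h.trans hFn.symm)) (by simp)
      · exact ⟨w, rfl⟩)
  have hhat : ∀ s : Finset (ZMod 23), (hat s).image F = hat (s.image (Equiv.removeNone F)) := fun s => by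
    rw [hat, hat, image_insert, hFn, Finset.map_eq_image, Finset.map_eq_image, image_image, image_image]
    congr 1
    exact image_congr fun p _ => (hsome p).symm
  ext b
  constructor
  · rintro ⟨s, hs, rfl⟩
    have h : hat (s.image (Equiv.removeNone F)) ∈ ext23 B := hhat s ▸ hF ▸ ⟨hat s, hs, rfl⟩
    obtain ⟨c, hc, he⟩ := mem_ext23_none hα hB h (none_mem_hat _)
    show s.image (Equiv.removeNone F) ∈ B
    rw [← hat_injective he]; exact hc
  · intro hb
    obtain ⟨o, ho, he⟩ := hF.symm ▸ hat_mem_ext23 hB hb
    have e : (b.image (Equiv.removeNone F).symm).image (Equiv.removeNone F) = b := by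
      rw [image_image]
      conv_rhs => rw [← image_id (s := b)]
      exact image_congr fun p _ => (Equiv.removeNone F).apply_symm_apply p
    refine ⟨b.image (Equiv.removeNone F).symm, ?_, e⟩
    show hat _ ∈ octads
    convert ho
    refine image_injective F.injective ?_
    rw [hhat, e]
    exact he.symm

/-- The stabiliser of the last point as automorphisms of the standard S(4,7,23). -/
theorem aut_std23_iff (σ : Equiv.Perm (ZMod 23)) :
    σ ∈ setSystemAut std23 ↔ Equiv.optionCongr σ ∈ M24 := by
  classical
  have hmap : ∀ s : Finset (ZMod 23), Equiv.optionCongr σ • hat s = hat (σ • s) := fun s => by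
    simp only [Finset.smul_finset_def, hat, image_insert, Finset.map_eq_image, image_image]
    congr 1
  rw [MulAction.mem_stabilizer_iff]
  constructor
  · intro h
    have hb : ∀ b ∈ hatBlocks std23, Equiv.optionCongr σ • b ∈ hatBlocks std23 := by
      rintro _ ⟨s, hs, rfl⟩
      exact ⟨σ • s, h ▸ Set.smul_mem_smul_set hs, (hmap s).symm⟩
    have hcl : ∀ s, InCl (hatBlocks std23) s → InCl octads (Equiv.optionCongr σ • s) := by
      intro s hs
      induction hs with
      | empty => rw [Finset.smul_finset_empty]; exact InCl.empty
      | @step b t hbm _ ih =>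
        rw [show Equiv.optionCongr σ • symmDiff b t
          = symmDiff (Equiv.optionCongr σ • b) (Equiv.optionCongr σ • t) from
          image_symmDiff _ _ (Equiv.injective _)]
        obtain ⟨c, hc, hce⟩ := hb b hbm
        exact InCl.step (hce ▸ hc) ih
    have hext : ext23 std23 = octads := by
      refine Set.eq_of_subset_of_ncard_le (fun s hs => ?_) ?_ (Set.toFinite _)
      · refine InCl.mem_of_card (by simp [GolayPt]) isSteinerSystem_octads ?_ hs.1
        have := hs.2
        clear hs
        induction this with
        | empty => exact InCl.empty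
        | step hb _ ih => obtain ⟨c, hc, rfl⟩ := hb; exact InCl.step hc ih
      · rw [ncard_octads]
        have hc := card_blocks (isSteiner_ext23 (by simp) isSteiner_std23)
        rw [Fintype.card_option, ZMod.card, show (23 + 1 : ℕ).choose 5 = 759 * 56 by decide,
          show (8 : ℕ).choose 5 = 56 by decide] at hc
        rw [Set.ncard_eq_toFinset_card]
        exact le_of_eq (Nat.eq_of_mul_eq_mul_right (by norm_num) hc).symm
    rw [Cfsg.Agent.S0369.result, MulAction.mem_stabilizer_iff]
    refine Set.eq_of_subset_of_ncard_le ?_
      (Set.ncard_image_of_injective _ (MulAction.injective _)).ge (Set.toFinite _)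
    rintro _ ⟨o, ho, rfl⟩
    refine InCl.mem_of_card (by simp [GolayPt]) isSteinerSystem_octads ?_
      (by rw [card_smul_finset, card_octad ho])
    rw [← hext] at ho
    exact hcl o ho.2
  · intro h
    ext s
    rw [Set.mem_smul_set_iff_inv_smul_mem]
    show hat (σ⁻¹ • s) ∈ octads ↔ hat s ∈ octads
    rw [← smul_mem_octads_iff' h, hmap, smul_inv_smul]
where
  smul_mem_octads_iff' {g : Equiv.Perm GolayPt} (hg : g ∈ M24) {o : Finset GolayPt} :
      g • o ∈ octads ↔ o ∈ octads :=
    ⟨fun h => by simpa using smul_mem_octads (inv_mem hg) h, smul_mem_octads hg⟩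

/-- The automorphisms of the standard S(4,7,23) form the point stabiliser. -/
noncomputable def autStd23Equiv : ↥(setSystemAut std23) ≃* ↥(stabSets [{(none : GolayPt)}]) :=
  MulEquiv.ofBijective
    ({ toFun := fun σ => ⟨Equiv.optionCongr σ.1, mem_stabSets.2 ⟨(aut_std23_iff σ.1).1 σ.2, fun s hs => by
          rw [List.mem_singleton.1 hs, smul_singleton_eq_iff]; rfl⟩⟩
       map_one' := Subtype.ext (Equiv.optionCongr_refl)
       map_mul' := fun a b => Subtype.ext (by ext (_ | p) <;> rfl) } :
      ↥(setSystemAut std23) →* ↥(stabSets [{(none : GolayPt)}]))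
    (by
      constructor
      · intro a b h
        exact Subtype.ext (Equiv.optionCongr_injective (congrArg Subtype.val h))
      · rintro ⟨g, hg⟩
        have hn : g none = none := by
          have := hg.2 _ List.mem_cons_self
          rwa [smul_singleton_eq_iff] at this
        have e : Equiv.optionCongr (Equiv.removeNone g) = g := by
          ext1 x
          cases x with
          | none => simp [hn]
          | some p =>
            simp only [Equiv.optionCongr_apply, Option.map_some]
            refine Equiv.removeNone_some g ?_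
            rcases h : g (some p) with _ | w
            · exact absurd (g.injective (h.trans hn.symm)) (by simp)
            · exact ⟨w, rfl⟩
        exact ⟨⟨Equiv.removeNone g, (aut_std23_iff _).2 (e.symm ▸ hg.1)⟩, Subtype.ext e⟩)

theorem pretransitive_std23 : MulAction.IsMultiplyPretransitive (setSystemAut std23) (ZMod 23) 4 := by
  constructor
  intro x y
  obtain ⟨g, hg, h⟩ := exists_M24_map (x := Fin.cons none (fun i => some (x i)))
    (y := Fin.cons none (fun i => some (y i)))
    (Fin.cons_injective_iff.2 ⟨by simp, (Option.some_injective _).comp x.injective⟩)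
    (Fin.cons_injective_iff.2 ⟨by simp, (Option.some_injective _).comp y.injective⟩)
  obtain ⟨σ, hσ⟩ := autStd23Equiv.surjective ⟨g, mem_stabSets.2 ⟨hg, fun s hs => by
    rw [List.mem_singleton.1 hs, smul_singleton_eq_iff]; exact h 0⟩⟩
  refine ⟨σ, Function.Embedding.ext fun i => Option.some_injective _ ?_⟩
  have e : Equiv.optionCongr σ.1 = g := congrArg Subtype.val hσ
  have h' := h i.succ
  simp only [Fin.cons_succ, ← e, Equiv.optionCongr_apply, Option.map_some] at h'
  exact h'

end Cfsg.Agent.Steiner
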