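import Cfsg.Agent.Lib.Steiner.Ext22
import Cfsg.Agent.Lib.Steiner.Std23
import Cfsg.Agent.Lib.Golay.SmallSets
import Cfsg.Agent.S0358

/-!
Uniqueness of S(3,6,22) and its automorphism group.
-/

namespace Cfsg.Agent.Steiner

open Cfsg Finset Cfsg.Agent.Golay
open scoped Pointwise

/-- The points other than the last two. -/
abbrev Pt22 : Type := {x : ZMod 23 // x ≠ 0}

/-- The 24 points as an extension of the other 22. -/
def ext22Equiv : Option (Option Pt22) ≃ GolayPt :=
  Equiv.optionCongr (Equiv.optionSubtypeNe (0 : ZMod 23))

theorem ext22Equiv_vals : ext22Equiv none = none ∧ ext22Equiv (some none) = some 0 ∧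
    ∀ p : Pt22, ext22Equiv (some (some p)) = some (p : ZMod 23) := ⟨rfl, rfl, fun _ => rfl⟩

/-- The standard S(3,6,22). -/
def std22 : Set (Finset Pt22) := {s | (hat (hat s)).image ext22Equiv ∈ octads}

theorem isSteiner_std22 : IsSteinerSystem 3 6 std22 := by
  refine ⟨fun b hb => ?_, fun s hs => ?_⟩
  · have h := card_octad (s := (hat (hat b)).image ext22Equiv) hb
    rw [card_image_of_injective _ ext22Equiv.injective, card_hat, card_hat] at h
    omega
  · obtain ⟨o, ⟨ho, hsub⟩, huniq⟩ := isSteinerSystem_octads.2 ((hat (hat s)).image ext22Equiv)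
      (by rw [card_image_of_injective _ ext22Equiv.injective, card_hat, card_hat, hs])
    set b : Finset Pt22 := univ.filter fun p => ext22Equiv (some (some p)) ∈ o with hb
    have e : (hat (hat b)).image ext22Equiv = o := by
      ext q
      obtain ⟨r, rfl⟩ := ext22Equiv.surjective q
      simp only [mem_image, ext22Equiv.injective.eq_iff, exists_eq_right]
      rcases r with _ | _ | p
      · exact iff_of_true (none_mem_hat _) (hsub (mem_image_of_mem _ (none_mem_hat _)))
      · exact iff_of_true (some_mem_hat.2 (none_mem_hat _))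
          (hsub (mem_image_of_mem _ (some_mem_hat.2 (none_mem_hat _))))
      · simp [some_mem_hat, hb]
    refine ⟨b, ⟨show _ ∈ octads from e.symm ▸ ho, fun p hp => mem_filter.2 ⟨mem_univ _,
      hsub (mem_image_of_mem _ (some_mem_hat.2 (some_mem_hat.2 hp)))⟩⟩,
      fun c hc => hat_injective (hat_injective (image_injective ext22Equiv.injective ?_))⟩
    show (hat (hat c)).image ext22Equiv = (hat (hat b)).image ext22Equiv
    rw [e]
    refine huniq _ ⟨hc.1, image_subset_image ?_⟩
    rintro (_ | _ | p) hp
    · exact none_mem_hat _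
    · exact some_mem_hat.2 (none_mem_hat _)
    · exact some_mem_hat.2 (some_mem_hat.2 (hc.2 (some_mem_hat.1 (some_mem_hat.1 hp))))

theorem removeNone_fix {X Y : Type*} (F : Option X ≃ Option Y) (h : F none = none) (x : X) :
    some (Equiv.removeNone F x) = F (some x) :=
  Equiv.removeNone_some F (by
    rcases e : F (some x) with _ | w
    · exact absurd (F.injective (e.trans h.symm)) (by simp)
    · exact ⟨w, rfl⟩)

variable {α : Type*} [Fintype α] [DecidableEq α] {B : Set (Finset α)}

theorem exists_iso22 (hα : Fintype.card α = 22) (hB : IsSteinerSystem 3 6 B) :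
    ∃ e : Pt22 ≃ α, (fun b => b.image e) '' std22 = B := by
  classical
  obtain ⟨v, hv, hodd⟩ := exists_odd_seven hα hB
  obtain ⟨f, hf⟩ := exists_iso_octads
    (by rw [Fintype.card_option, Fintype.card_option, hα]) (isSteiner_ext22 hα hB hv hodd)
  obtain ⟨g, hg, hgn⟩ := exists_M24_map' (k := 2) (x := ![(none : GolayPt), some 0])
    (y := ![f.symm none, f.symm (some none)]) (by norm_num) (by decide)
    (by intro i j h; fin_cases i <;> fin_cases j <;> simp_all)
  let F : Option (Option Pt22) ≃ Option (Option α) :=
    ext22Equiv.trans ((g : Equiv.Perm GolayPt).trans f)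
  have hFn : F none = none := by
    show f (g none) = none
    rw [show g none = f.symm none from hgn 0, f.apply_symm_apply]
  have hFq : F (some none) = some none := by
    show f (g (some 0)) = some none
    rw [show g (some 0) = f.symm (some none) from hgn 1, f.apply_symm_apply]
  let F1 := Equiv.removeNone F
  have h1 := removeNone_fix F hFn
  have hF1n : F1 none = none := Option.some_injective _ ((h1 none).trans hFq)
  have h2 := removeNone_fix F1 hF1n
  let e := Equiv.removeNone F1
  have hhat : ∀ s : Finset Pt22, (hat (hat s)).image F = hat (hat (s.image e)) := fun s => by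
    have k1 : ∀ t : Finset (Option Pt22), (hat t).image F = hat (t.image F1) := fun t => by
      rw [hat, hat, image_insert, hFn, Finset.map_eq_image, Finset.map_eq_image, image_image, image_image]
      congr 1
      exact image_congr fun p _ => (h1 p).symm
    have k2 : (hat s).image F1 = hat (s.image e) := by
      rw [hat, hat, image_insert, hF1n, Finset.map_eq_image, Finset.map_eq_image, image_image, image_image]
      congr 1
      exact image_congr fun p _ => (h2 p).symm
    rw [k1, k2]
  have himg : ∀ b : Finset (Option (Option Pt22)),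
      b.image F = ((g : Equiv.Perm GolayPt) • b.image ext22Equiv).image f := fun b => by
    simp only [Finset.smul_finset_def, image_image]
    exact image_congr fun p _ => rfl
  refine ⟨e, ?_⟩
  ext b
  constructor
  · rintro ⟨s, hs, rfl⟩
    have h : hat (hat (s.image e)) ∈ ext22 B v := by
      rw [← hhat, himg, ← hf]
      exact ⟨_, smul_mem_octads hg hs, rfl⟩
    obtain ⟨c, hc, he⟩ := mem_ext22_both hα hB hv hodd h (none_mem_hat _)
      (some_mem_hat.2 (none_mem_hat _))
    show s.image e ∈ B
    rw [← hat_injective (hat_injective he)]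
    exact hc
  · intro hb
    have e' : (b.image e.symm).image e = b := by
      rw [image_image]
      conv_rhs => rw [← image_id (s := b)]
      exact image_congr fun p _ => e.apply_symm_apply p
    obtain ⟨o, ho, he⟩ := hf.symm ▸ hat2_mem_ext22 hα hB hv hodd hb
    refine ⟨b.image e.symm, ?_, e'⟩
    show (hat (hat _)).image ext22Equiv ∈ octads
    have hgo : (g : Equiv.Perm GolayPt) • (hat (hat (b.image e.symm))).image ext22Equiv = o := by
      refine image_injective f.injective ?_
      rw [← himg, hhat, e']
      exact he.symm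
    have := smul_mem_octads (inv_mem hg) ho
    rwa [← hgo, inv_smul_smul] at this

/-- The setwise stabiliser of the last two points. -/
abbrev pairStab : Subgroup (Equiv.Perm GolayPt) := stabSets [{(none : GolayPt), some 0}]

theorem pairStab_mem_iff (g : pairStab) (p : GolayPt) :
    ((g : Equiv.Perm GolayPt) p ≠ none ∧ (g : Equiv.Perm GolayPt) p ≠ some 0) ↔
      (p ≠ none ∧ p ≠ some 0) := by
  have h := g.2.2 _ List.mem_cons_self
  have h' := apply_mem_smul_iff (g : Equiv.Perm GolayPt) p ({(none : GolayPt), some 0} : Finset GolayPt)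
  rw [h] at h'
  simp only [mem_insert, mem_singleton] at h'
  tauto

/-- The 22 points inside the 24. -/
def in22 : {p : GolayPt // p ≠ none ∧ p ≠ some 0} ≃ Pt22 where
  toFun p := ⟨(p : GolayPt).getD 0, by
    obtain ⟨(_ | x), h1, h2⟩ := p
    · exact absurd rfl h1
    · simpa using h2⟩
  invFun x := ⟨some x.1, by simp, by simpa using x.2⟩
  left_inv := by
    rintro ⟨(_ | x), h1, h2⟩
    · exact absurd rfl h1
    · rfl
  right_inv x := rfl

/-- Restriction to the 22 points. -/
def restrict22 : ↥pairStab →* Equiv.Perm Pt22 where
  toFun g := in22.permCongr ((g : Equiv.Perm GolayPt).subtypePerm (pairStab_mem_iff g))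
  map_one' := by ext x; rfl
  map_mul' a b := by
    ext x
    simp [Equiv.permCongr_apply]

theorem restrict22_apply (g : pairStab) (x : Pt22) :
    some ((restrict22 g x : Pt22) : ZMod 23) = (g : Equiv.Perm GolayPt) (some x.1) :=
  congrArg Subtype.val (in22.symm_apply_apply _)

theorem restrict22_mem (g : pairStab) : restrict22 g ∈ setSystemAut std22 := by
  refine MulAction.mem_stabilizer_iff.2 (Set.eq_of_subset_of_ncard_le ?_
    (Set.ncard_image_of_injective _ (MulAction.injective _)).ge (Set.toFinite _))
  rintro _ ⟨s, hs, rfl⟩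
  show (hat (hat (restrict22 g • s))).image ext22Equiv ∈ octads
  have e : (hat (hat (restrict22 g • s))).image ext22Equiv
      = (g : Equiv.Perm GolayPt) • (hat (hat s)).image ext22Equiv := by
    simp only [hat, Finset.map_eq_image, image_insert, Finset.smul_finset_def, image_image]
    simp only [Function.Embedding.some_apply, ext22Equiv_vals.1, ext22Equiv_vals.2.1]
    have hp := g.2.2 _ List.mem_cons_self
    simp only [Finset.smul_finset_def, image_insert, image_singleton, Equiv.Perm.smul_def] at hp
    simp only [Equiv.Perm.smul_def]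
    have eX : ∀ x : Pt22, (ext22Equiv (some (some (restrict22 g x))) : GolayPt)
        = (g : Equiv.Perm GolayPt) (ext22Equiv (some (some x))) := fun x => restrict22_apply g x
    rw [← insert_union_distrib_pair, ← insert_union_distrib_pair, hp]
    congr 1
    exact image_congr fun x _ => eX x
  rw [e]
  exact smul_mem_octads g.2.1 hs
where
  insert_union_distrib_pair {X : Type} [DecidableEq X] {a b : X} {t : Finset X} :
      ({a, b} : Finset X) ∪ t = insert a (insert b t) := by
    rw [insert_union, singleton_union]

theorem restrict22_injective : Function.Injective restrict22 := by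
  rw [injective_iff_map_eq_one]
  intro g hg
  have hfix : ∀ x : ZMod 23, x ≠ 0 → (g : Equiv.Perm GolayPt) (some x) = some x := fun x hx => by
    rw [← restrict22_apply g ⟨x, hx⟩, hg]; rfl
  have hnone : (g : Equiv.Perm GolayPt) none = none := by
    have h := apply_mem_smul_iff (g : Equiv.Perm GolayPt) none ({(none : GolayPt), some 0} : Finset GolayPt)
    rw [g.2.2 _ List.mem_cons_self] at h
    simp only [mem_insert, mem_singleton, true_or, iff_true] at h
    rcases h with h | h
    · exact h
    · exfalso
      obtain ⟨o, ⟨ho, hsub⟩, -⟩ := isSteinerSystem_octads.2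
        ({none, some 1, some 2, some 3, some 4} : Finset GolayPt) (by decide)
      by_cases h0 : (some 0 : GolayPt) ∈ o
      · obtain ⟨o', ⟨ho', hsub'⟩, -⟩ := isSteinerSystem_octads.2
          ({none, some 1, some 2, some 3, some 5} : Finset GolayPt) (by decide)
        by_cases h0' : (some 0 : GolayPt) ∈ o'
        · have hoo : o = o' := octad_unique ho ho' (le_trans (by decide)
            (card_le_card (show ({none, some 0, some 1, some 2, some 3} : Finset GolayPt) ⊆ o ∩ o' by
              simp only [insert_subset_iff, singleton_subset_iff] at hsub hsub'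
              simp only [insert_subset_iff, singleton_subset_iff, mem_inter]
              exact ⟨⟨hsub.1, hsub'.1⟩, ⟨h0, h0'⟩, ⟨hsub.2.1, hsub'.2.1⟩, ⟨hsub.2.2.1, hsub'.2.2.1⟩,
                hsub.2.2.2.1, hsub'.2.2.2.1⟩)))
          subst hoo
          obtain ⟨o3, ⟨ho3, hsub3⟩, -⟩ := isSteinerSystem_octads.2
            ({none, some 1, some 2, some 4, some 5} : Finset GolayPt) (by decide)
          have e3 : o = o3 := octad_unique ho ho3 (le_trans (by decide)
            (card_le_card (show ({none, some 1, some 2, some 4, some 5} : Finset GolayPt) ⊆ o ∩ o3 by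
              simp only [insert_subset_iff, singleton_subset_iff] at hsub hsub' hsub3
              simp only [insert_subset_iff, singleton_subset_iff, mem_inter]
              exact ⟨⟨hsub.1, hsub3.1⟩, ⟨hsub.2.1, hsub3.2.1⟩, ⟨hsub.2.2.1, hsub3.2.2.1⟩,
                ⟨hsub.2.2.2.2, hsub3.2.2.2.1⟩, hsub'.2.2.2.2, hsub3.2.2.2.2⟩)))
          have key : ∀ o ∈ octadList, ¬ (o.testBit 23 && o.testBit 0 && o.testBit 1 && o.testBit 2 &&
              o.testBit 3 && o.testBit 4 && o.testBit 5) = true := fun o ho => by
            have h := List.all_eq_true.1 (show octadList.all (fun o => !(o.testBit 23 && o.testBit 0 &&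
              o.testBit 1 && o.testBit 2 && o.testBit 3 && o.testBit 4 && o.testBit 5)) = true by
                decide +kernel) o ho
            intro hh
            rw [hh] at h
            simp at h
          obtain ⟨m, hm, rfl⟩ := mem_octads.1 ho
          simp only [insert_subset_iff, singleton_subset_iff, mem_maskSet] at hsub hsub' h0
          refine key m hm ?_
          simp only [Bool.and_eq_true]
          exact ⟨⟨⟨⟨⟨⟨hsub.1, h0⟩, hsub.2.1⟩, hsub.2.2.1⟩, hsub.2.2.2.1⟩, hsub.2.2.2.2⟩, hsub'.2.2.2.2⟩
        · exact key2 h hfix ho' (hsub' (mem_insert_self _ _)) h0'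
      · exact key2 h hfix ho (hsub (mem_insert_self _ _)) h0
  refine Subtype.ext (Equiv.ext fun p => ?_)
  rcases p with _ | x
  · exact hnone
  · rcases eq_or_ne x 0 with rfl | hx
    · have h := apply_mem_smul_iff (g : Equiv.Perm GolayPt) (some 0)
        ({(none : GolayPt), some 0} : Finset GolayPt)
      rw [g.2.2 _ List.mem_cons_self] at h
      simp only [mem_insert, mem_singleton, or_true, iff_true] at h
      rcases h with h | h
      · exact absurd ((g : Equiv.Perm GolayPt).injective (h.trans hnone.symm)) (by simp)
      · exact h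
    · exact hfix x hx
where
  key2 {g : pairStab} (h : (g : Equiv.Perm GolayPt) none = some 0)
      (hfix : ∀ x : ZMod 23, x ≠ 0 → (g : Equiv.Perm GolayPt) (some x) = some x)
      {o : Finset GolayPt} (ho : o ∈ octads) (hn : none ∈ o) (h0 : (some 0 : GolayPt) ∉ o) : False := by
    have hgo : (g : Equiv.Perm GolayPt) • o = o := by
      refine octad_unique (smul_mem_octads g.2.1 ho) ho ?_
      refine le_trans (b := (o.erase none).card) (by rw [card_erase_of_mem hn, card_octad ho]; norm_num)
        (card_le_card fun p hp => ?_)
      obtain ⟨hne, hpo⟩ := mem_erase.1 hp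
      refine mem_inter.2 ⟨?_, hpo⟩
      rcases p with _ | x
      · exact absurd rfl hne
      · have hx : x ≠ 0 := fun e => h0 (e ▸ hpo)
        rw [← hfix x hx]
        exact smul_mem_smul_finset hpo
    have := (apply_mem_smul_iff (g : Equiv.Perm GolayPt) none o).2 hn
    rw [h, hgo] at this
    exact h0 this

theorem restrict22_surjective {τ : Equiv.Perm Pt22} (hτ : τ ∈ setSystemAut std22) :
    ∃ g : pairStab, restrict22 g = τ := by
  classical
  have hodd0 : ∀ o ∈ octads, (none : GolayPt) ∈ o → (some 0 : GolayPt) ∉ o →
      ∀ h ∈ std22, (h ∩ univ.filter fun p : Pt22 => (some p.1 : GolayPt) ∈ o).card % 2 = 1 := by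
    intro o ho hn h0 h hh
    have hev : ((hat (hat h)).image ext22Equiv ∩ o).card % 2 = 0 :=
      Nat.even_iff.1 (even_inter_blocks (by simp [GolayPt]) isSteinerSystem_octads ho hh)
    have e : (hat (hat h)).image ext22Equiv ∩ o = insert none
        ((h ∩ univ.filter fun p : Pt22 => (some p.1 : GolayPt) ∈ o).image fun p => (some p.1 : GolayPt)) := by
      ext q
      obtain ⟨r, rfl⟩ := ext22Equiv.surjective q
      rw [mem_inter, ext22Equiv.injective.mem_finset_image]
      rcases r with _ | _ | p
      · simp [none_mem_hat, ext22Equiv_vals.1, hn]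
      · simp only [mem_insert, mem_image, ext22Equiv_vals.2.1]
        refine iff_of_false (fun hh' => h0 hh'.2) ?_
        rintro (h' | ⟨p, -, hp⟩)
        · simp at h'
        · exact p.2 (Option.some_injective _ hp)
      · simp [some_mem_hat, ext22Equiv_vals.2.2, Subtype.val_inj]
    rw [e, card_insert_of_notMem (by simp),
      card_image_of_injective _ (fun a b h => Subtype.ext (Option.some_injective _ h))] at hev
    omega
  obtain ⟨o, ho, hn, h0⟩ : ∃ o ∈ octads, (none : GolayPt) ∈ o ∧ (some 0 : GolayPt) ∉ o := by
    refine ⟨maskSet 8394986, mem_octads.2 ⟨_, memB_spec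
      (show memB 8394986 octadList = true by decide +kernel), rfl⟩, ?_, ?_⟩ <;>
      rw [mem_maskSet] <;> decide
  set v : Finset Pt22 := univ.filter fun p : Pt22 => (some p.1 : GolayPt) ∈ o with hvdef
  have hodd := hodd0 o ho hn h0
  have hvo : (hat (v.map Function.Embedding.some)).image ext22Equiv = o := by
    ext q
    obtain ⟨r, rfl⟩ := ext22Equiv.surjective q
    rw [ext22Equiv.injective.mem_finset_image]
    rcases r with _ | _ | p
    · simp [none_mem_hat, ext22Equiv_vals.1, hn]
    · simp [some_mem_hat, ext22Equiv_vals.2.1, h0]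
    · simp [some_mem_hat, ext22Equiv_vals.2.2, hvdef]
  have hv : v.card = 7 := by
    have h8 := card_octad ho
    rw [← hvo, card_image_of_injective _ ext22Equiv.injective, card_vhat] at h8
    omega
  obtain ⟨hrank, hself⟩ := finrank_perp22 (by simp) isSteiner_std22 hv hodd
  -- the transported code
  let L : (GolayPt → ZMod 2) ≃ₗ[ZMod 2] (Option (Option Pt22) → ZMod 2) :=
    LinearEquiv.funCongrLeft (ZMod 2) (ZMod 2) ext22Equiv
  have hLw : ∀ s : Finset (Option (Option Pt22)), L (word (s.image ext22Equiv)) = word s := fun s => by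
    funext i
    simp [L, LinearEquiv.funCongrLeft_apply, LinearMap.funLeft_apply, word]
  have hcode : code22 std22 v = golayCode.map L.toLinearMap := by
    refine Submodule.eq_of_le_of_finrank_eq (Submodule.span_le.2 ?_) ?_
    · rintro _ ⟨g, hg, rfl⟩
      have hoct : g.image ext22Equiv ∈ octads := by
        rcases hg with ⟨h, hh, rfl⟩ | rfl
        · exact hh
        · rw [hvo]; exact ho
      obtain ⟨w, hw, hws⟩ := hoct.1
      exact ⟨w, hw, by rw [← hLw g, ← hws, word_support]; rfl⟩
    · rw [LinearEquiv.finrank_map_eq L, Cfsg.Agent.S0358.result, hself, hrank]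
  have hgolay : ∀ s : Finset (Option (Option Pt22)), word s ∈ code22 std22 v ↔
      s.image ext22Equiv ∈ supports (golayCode : Set (GolayPt → ZMod 2)) := by
    intro s
    rw [hcode]
    constructor
    · rintro ⟨w, hw, hws⟩
      refine ⟨w, hw, ?_⟩
      rw [L.injective ((show L w = word s from hws).trans (hLw s).symm), support_word]
    · rintro ⟨w, hw, hws⟩
      exact ⟨w, hw, by rw [← hLw s, ← hws, word_support]; rfl⟩
  -- the two extensions
  let T0 : Equiv.Perm (Option (Option Pt22)) := Equiv.optionCongr (Equiv.optionCongr τ)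
  set w := (τ • v) with hw
  have hodd' : ∀ h ∈ std22, (h ∩ w).card % 2 = 1 := fun h hh => by
    have hh' : τ⁻¹ • h ∈ std22 := by
      have := Set.smul_mem_smul_set (a := τ⁻¹) hh
      rwa [MulAction.mem_stabilizer_iff.1 (inv_mem hτ)] at this
    have := hodd _ hh'
    rwa [← card_smul_finset τ, smul_finset_inter, smul_inv_smul, ← hw] at this
  let sw : Equiv.Perm (Option (Option Pt22)) :=
    if (v ∩ w).card % 2 = 1 then 1 else Equiv.swap none (some none)
  let T := sw * T0
  have hTfix : (T none = none ∧ T (some none) = some none) ∨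
      (T none = some none ∧ T (some none) = none) := by
    simp only [T, sw, T0]; split_ifs
    · left; simp
    · right; simp [Equiv.swap_apply_left, Equiv.swap_apply_right]
  have hTsome : ∀ p, T (some (some p)) = some (some (τ p)) := fun p => by
    simp only [T, sw, T0]; split_ifs <;> simp [Equiv.swap_apply_of_ne_of_ne]
  have hThat : ∀ h : Finset Pt22, (hat (hat h)).image T = hat (hat (τ • h)) := fun h => by
    ext r
    obtain ⟨u, rfl⟩ := T.surjective r
    rw [T.injective.mem_finset_image]
    rcases u with _ | _ | p
    · rcases hTfix with ⟨a, b⟩ | ⟨a, b⟩ <;> simp [a, none_mem_hat, some_mem_hat]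
    · rcases hTfix with ⟨a, b⟩ | ⟨a, b⟩ <;> simp [b, none_mem_hat, some_mem_hat]
    · rw [hTsome, some_mem_hat, some_mem_hat, some_mem_hat, some_mem_hat, apply_mem_smul τ p h]
  have hTv : word ((hat (v.map Function.Embedding.some)).image T) ∈ perp22 std22 v := by
    refine word_mem_perp22.2 fun g hg => ?_
    rcases hg with ⟨h, hh, rfl⟩ | rfl
    · have e : hat (hat h) ∩ (hat (v.map Function.Embedding.some)).image T
          = insert (T none) ((h ∩ w).image fun p => some (some p)) := by
        ext r
        obtain ⟨u, rfl⟩ := T.surjective r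
        rw [mem_inter, T.injective.mem_finset_image]
        rcases u with _ | _ | p
        · rcases hTfix with ⟨a, b⟩ | ⟨a, b⟩ <;> simp [a, none_mem_hat, some_mem_hat]
        · rcases hTfix with ⟨a, b⟩ | ⟨a, b⟩ <;> simp [a, b, none_mem_hat, some_mem_hat]
        · rcases hTfix with ⟨a, b⟩ | ⟨a, b⟩ <;>
            simp [a, hTsome, some_mem_hat, hw, apply_mem_smul τ p v]
      rw [e, card_insert_of_notMem (by rcases hTfix with ⟨a, b⟩ | ⟨a, b⟩ <;> simp [a]),
        card_image_of_injective _ (fun a b h => by simpa using h)]
      have := hodd' h hh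
      omega
    · have e : ∀ r : Option (Option Pt22), r ∈ hat (v.map Function.Embedding.some) ∩
          (hat (v.map Function.Embedding.some)).image T ↔
          r ∈ (if T none = none then {none} else ∅) ∪ (v ∩ w).image fun p => some (some p) := by
        intro r
        obtain ⟨u, rfl⟩ := T.surjective r
        rw [mem_inter, T.injective.mem_finset_image]
        rcases u with _ | _ | p
        · rcases hTfix with ⟨a, b⟩ | ⟨a, b⟩ <;> simp [a, none_mem_hat, some_mem_hat]
        · rcases hTfix with ⟨a, b⟩ | ⟨a, b⟩ <;> simp [a, b, none_mem_hat, some_mem_hat]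
        · rcases hTfix with ⟨a, b⟩ | ⟨a, b⟩ <;>
            simp [a, hTsome, some_mem_hat, hw, apply_mem_smul τ p v]
      rw [Finset.ext e, card_union_of_disjoint (by split_ifs <;> simp),
        card_image_of_injective _ (fun a b h => by simpa using h)]
      by_cases hc : (v ∩ w).card % 2 = 1
      · have : T none = none := by simp [T, sw, T0, hc]
        rw [if_pos this, card_singleton]; omega
      · have : T none ≠ none := by simp [T, sw, T0, hc]
        rw [if_neg this, card_empty]; omega
  -- preservation of the code
  let M : (Option (Option Pt22) → ZMod 2) →ₗ[ZMod 2] (Option (Option Pt22) → ZMod 2) :=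
    LinearMap.funLeft (ZMod 2) (ZMod 2) T.symm
  have hMw : ∀ s, M (word s) = word (s.image T) := fun s => by
    funext r
    obtain ⟨u, rfl⟩ := T.surjective r
    simp [M, LinearMap.funLeft_apply, word]
  have hpres : code22 std22 v ≤ (code22 std22 v).comap M := by
    refine Submodule.span_le.2 ?_
    rintro _ ⟨g, hg, rfl⟩
    show M (word g) ∈ code22 std22 v
    rw [hMw]
    rcases hg with ⟨h, hh, rfl⟩ | rfl
    · rw [hThat]
      refine Submodule.subset_span ⟨_, Or.inl ⟨τ • h, ?_, rfl⟩, rfl⟩
      have := Set.smul_mem_smul_set (a := τ) hh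
      rwa [MulAction.mem_stabilizer_iff.1 hτ] at this
    · rw [hself]; exact hTv
  let g : Equiv.Perm GolayPt := ext22Equiv.permCongr T
  have hgE : ∀ u, g (ext22Equiv u) = ext22Equiv (T u) := fun u => by simp [g, Equiv.permCongr_apply]
  have hg24 : g ∈ M24 := by
    refine mem_M24_iff.2 fun s hs => ?_
    obtain ⟨s', rfl⟩ : ∃ s', s'.image ext22Equiv = s := ⟨s.image ext22Equiv.symm, by
      rw [image_image]; conv_rhs => rw [← image_id (s := s)]
      exact image_congr fun p _ => ext22Equiv.apply_symm_apply p⟩
    have h1 : M (word s') ∈ code22 std22 v := hpres ((hgolay s').2 hs)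
    rw [hMw, hgolay] at h1
    convert h1 using 1
    simp only [Finset.smul_finset_def, image_image]
    exact image_congr fun u _ => hgE u
  have hgpair : g ∈ pairStab := mem_stabSets.2 ⟨hg24, fun s hs => by
    rw [List.mem_singleton.1 hs]
    simp only [Finset.smul_finset_def, image_insert, image_singleton, Equiv.Perm.smul_def]
    rw [← ext22Equiv_vals.1, ← ext22Equiv_vals.2.1, hgE, hgE]
    rcases hTfix with ⟨a, b⟩ | ⟨a, b⟩
    · rw [a, b]
    · rw [a, b, pair_comm]⟩
  refine ⟨⟨g, hgpair⟩, Equiv.ext fun x => Subtype.ext (Option.some_injective _ ?_)⟩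
  rw [restrict22_apply]
  show g (some x.1) = _
  rw [← ext22Equiv_vals.2.2 x, hgE, hTsome, ext22Equiv_vals.2.2]
where
  apply_mem_smul {X : Type} [DecidableEq X] (σ : Equiv.Perm X) (p : X) (s : Finset X) :
      σ p ∈ σ • s ↔ p ∈ s := Finset.smul_mem_smul_finset_iff σ

/-- The automorphism group of the standard S(3,6,22). -/
noncomputable def autStd22Equiv : ↥pairStab ≃* ↥(setSystemAut std22) :=
  MulEquiv.ofBijective (restrict22.codRestrict _ restrict22_mem)
    ⟨fun _ _ h => restrict22_injective (congrArg Subtype.val h),
      fun τ => (restrict22_surjective τ.2).imp fun _ h => Subtype.ext h⟩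

theorem autStd22Equiv_coe (g : pairStab) :
    ((autStd22Equiv g : setSystemAut std22) : Equiv.Perm Pt22) = restrict22 g := rfl

theorem pretransitive_std22 : MulAction.IsMultiplyPretransitive (setSystemAut std22) Pt22 3 := by
  constructor
  intro x y
  obtain ⟨g, hg, h⟩ := exists_M24_map
    (x := Fin.cons none (Fin.cons (some 0) fun i => some (x i).1))
    (y := Fin.cons none (Fin.cons (some 0) fun i => some (y i).1))
    (cons_inj x) (cons_inj y)
  have hpair : g ∈ pairStab := mem_stabSets.2 ⟨hg, fun s hs => by
    rw [List.mem_singleton.1 hs]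
    simp only [Finset.smul_finset_def, image_insert, image_singleton, Equiv.Perm.smul_def]
    have a := h 0
    have b := h 1
    simp only [Fin.cons_zero, show (1 : Fin 5) = Fin.succ 0 from rfl, Fin.cons_succ] at a b
    rw [a, b]⟩
  refine ⟨autStd22Equiv ⟨g, hpair⟩, Function.Embedding.ext fun i => Subtype.ext (Option.some_injective _ ?_)⟩
  show some ((restrict22 ⟨g, hpair⟩ (x i)) : ZMod 23) = some (y i).1
  rw [restrict22_apply]
  have := h i.succ.succ
  simpa only [Fin.cons_succ] using this
where
  cons_inj (x : Fin 3 ↪ Pt22) :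
      Function.Injective (Fin.cons (none : GolayPt) (Fin.cons (some 0) fun i => some (x i).1) : Fin 5 → GolayPt) := by
    refine Fin.cons_injective_iff.2 ⟨?_, Fin.cons_injective_iff.2 ⟨?_, fun a b h => ?_⟩⟩
    · rintro ⟨i, hi⟩; revert hi; refine Fin.cases ?_ ?_ i <;> simp
    · rintro ⟨i, hi⟩; exact (x i).2 (Option.some_injective _ hi)
    · exact x.injective (Subtype.ext (Option.some_injective _ h))

theorem card_pairStab : Nat.card pairStab = 887040 := by
  have horb := orbit_sets (k := 2) (by norm_num)
    (show ({(none : GolayPt), some 0} : Finset GolayPt).card = 2 by decide)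
  have h := Subgroup.card_mul_index (MulAction.stabilizer M24 ({(none : GolayPt), some 0} : Finset GolayPt))
  have hc := ncard_card_filter 2 (fun _ => True) (fun _ => true) (fun _ => by simp)
  simp only [and_true] at hc
  rw [MulAction.index_stabilizer, horb, hc, card_M24,
    show ((masksOfWeight 24 2).filter fun _ => true).length = 276 by decide +kernel] at h
  rw [← Nat.card_congr (equivStabSets (MulAction.stabilizer M24 ({(none : GolayPt), some 0} : Finset GolayPt))
    [{(none : GolayPt), some 0}] (fun g => by rw [mem_stab_set]; simp)).toEquiv]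
  exact Nat.eq_of_mul_eq_mul_right (m := 276) (by norm_num) (by rw [h])

end Cfsg.Agent.Steiner
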