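import Cfsg.Agent.Lib.Steiner.Std22
import Cfsg.Agent.Lib.Steiner.PointBlock
import Mathlib.Combinatorics.SimpleGraph.StronglyRegular

/-!
Uniqueness of the strongly regular graph on 100 vertices of valency 22.
-/

namespace Cfsg.Agent.SRG100

open Cfsg Finset

variable {V : Type*} [Fintype V] [DecidableEq V] {G : SimpleGraph V} [DecidableRel G.Adj]

theorem card_common (hG : G.IsSRGWith 100 22 0 6) (x y : V) (h : x ≠ y) :
    (univ.filter fun z => G.Adj x z ∧ G.Adj y z).card = if G.Adj x y then 0 else 6 := by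
  have e : (univ.filter fun z => G.Adj x z ∧ G.Adj y z).card = Fintype.card (G.commonNeighbors x y) := by
    rw [Fintype.card_subtype]
    rfl
  rw [e]
  split_ifs with ha
  · exact hG.of_adj x y ha
  · exact hG.of_not_adj h ha

theorem card_nbr (hG : G.IsSRGWith 100 22 0 6) (x : V) : (univ.filter fun z => G.Adj x z).card = 22 := by
  rw [← hG.regular.degree_eq x, ← G.card_neighborFinset_eq_degree, SimpleGraph.neighborFinset_eq_filter]

theorem no_triangle (hG : G.IsSRGWith 100 22 0 6) {x y z : V} (hxy : G.Adj x y) (hxz : G.Adj x z) :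
    ¬ G.Adj y z := fun hyz => by
  have h := card_common hG x y hxy.ne
  rw [if_pos hxy, card_eq_zero, filter_eq_empty_iff] at h
  exact h (mem_univ z) ⟨hxz, hyz⟩

/-- The far vertices. -/
def far (G : SimpleGraph V) [DecidableRel G.Adj] (v : V) : Finset V :=
  univ.filter fun b => b ≠ v ∧ ¬ G.Adj v b

theorem mem_far {v b : V} : b ∈ far G v ↔ b ≠ v ∧ ¬ G.Adj v b := by simp [far]

/-- The neighbours of a far vertex near `v`. -/
def near (G : SimpleGraph V) [DecidableRel G.Adj] (v b : V) : Finset V :=
  univ.filter fun z => G.Adj v z ∧ G.Adj b z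

theorem card_near (hG : G.IsSRGWith 100 22 0 6) {v b : V} (hb : b ∈ far G v) : (near G v b).card = 6 := by
  rw [near, card_common hG v b (mem_far.1 hb).1.symm, if_neg (mem_far.1 hb).2]

theorem card_far (hG : G.IsSRGWith 100 22 0 6) (v : V) : (far G v).card = 77 := by
  have h : far G v = ((univ.filter fun z => G.Adj v z) ∪ {v})ᶜ := by
    ext b; simp [mem_far, and_comm]
  rw [h, card_compl, card_union_of_disjoint (by simp), card_nbr hG, card_singleton, hG.card]

/-- Two blocks meet in two points or are joined and disjoint. -/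
theorem inter_near (hG : G.IsSRGWith 100 22 0 6) {v b c : V} (hb : b ∈ far G v) (hc : c ∈ far G v)
    (hne : b ≠ c) : (near G v b ∩ near G v c).card = if G.Adj b c then 0 else 2 := by
  classical
  set S := (far G v).erase b with hS
  set x : V → ℕ := fun c => (near G v b ∩ near G v c).card with hx
  have hb' := mem_far.1 hb
  have hA : ∀ c ∈ S, G.Adj b c → x c = 0 := fun c _ h => by
    rw [hx]
    refine card_eq_zero.2 (eq_empty_of_forall_notMem fun z hz => ?_)
    simp only [near, mem_inter, mem_filter, mem_univ, true_and] at hz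
    exact no_triangle hG h hz.1.2 hz.2.2
  have hnbr : ∀ p ∈ near G v b, ((S.filter fun c => p ∈ near G v c)).card = 20 := fun p hp => by
    simp only [near, mem_filter, mem_univ, true_and] at hp
    have e : S.filter (fun c => p ∈ near G v c) = ((univ.filter fun z => G.Adj p z).erase v).erase b := by
      ext c
      simp only [hS, mem_filter, mem_erase, mem_far, near, mem_univ, true_and]
      constructor
      · rintro ⟨⟨h1, h2, -⟩, -, h4⟩; exact ⟨h1, h2, h4.symm⟩
      · rintro ⟨h1, h2, h3⟩
        exact ⟨⟨h1, h2, fun h => no_triangle hG h hp.1 h3.symm⟩, hp.1, h3.symm⟩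
    rw [e, card_erase_of_mem, card_erase_of_mem, card_nbr hG]
    · simp [hp.1.symm]
    · simp [hb'.1, hp.2.symm]
  have hpair : ∀ p ∈ near G v b, ∀ q ∈ near G v b, p ≠ q →
      (S.filter fun c => p ∈ near G v c ∧ q ∈ near G v c).card = 4 := fun p hp q hq hpq => by
    simp only [near, mem_filter, mem_univ, true_and] at hp hq
    have e : S.filter (fun c => p ∈ near G v c ∧ q ∈ near G v c)
        = ((univ.filter fun z => G.Adj p z ∧ G.Adj q z).erase v).erase b := by
      ext c
      simp only [hS, mem_filter, mem_erase, mem_far, near, mem_univ, true_and]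
      constructor
      · rintro ⟨⟨h1, h2, -⟩, ⟨-, h4⟩, -, h5⟩; exact ⟨h1, h2, h4.symm, h5.symm⟩
      · rintro ⟨h1, h2, h3, h4⟩
        exact ⟨⟨h1, h2, fun h => no_triangle hG h hp.1 h3.symm⟩, ⟨hp.1, h3.symm⟩, hq.1, h4.symm⟩
    rw [e, card_erase_of_mem, card_erase_of_mem, card_common hG p q hpq, if_neg (no_triangle hG hp.1 hq.1)]
    · simp [hp.1.symm, hq.1.symm]
    · simp [hb'.1, hp.2.symm, hq.2.symm]
  have h1 : ∑ c ∈ S, x c = 120 := by
    rw [sum_congr rfl (fun c _ => show x c = ((near G v b).filter fun p => p ∈ near G v c).card by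
      rw [hx, filter_mem_eq_inter])]
    simp only [card_filter]
    rw [sum_comm, sum_congr rfl (fun p hp => show _ = 20 by rw [← card_filter]; exact hnbr p hp), sum_const,
      card_near hG hb]
    rfl
  have h2 : ∑ c ∈ S, x c * x c = 240 := by
    rw [sum_congr rfl (fun c _ => show x c * x c
        = (((near G v b) ×ˢ (near G v b)).filter fun q => q.1 ∈ near G v c ∧ q.2 ∈ near G v c).card by
      rw [hx, ← card_product]
      congr 1
      ext q
      simp only [mem_product, mem_inter, mem_filter]
      tauto)]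
    simp only [card_filter]
    rw [sum_comm, sum_congr rfl (fun (q : V × V) hq => show _ = (4 : ℕ) + if q.1 = q.2 then 16 else 0 by
      rw [mem_product] at hq
      rw [← card_filter]
      split_ifs with h
      · rw [← h]; simp only [and_self]; rw [hnbr _ hq.1]
      · rw [hpair _ hq.1 _ hq.2 h]), sum_add_distrib, sum_const, card_product, card_near hG hb,
      sum_product]
    rw [sum_congr rfl (fun p hp => show _ = 16 by rw [sum_ite_eq]; exact if_pos hp), sum_const,
      card_near hG hb]
    rfl
  have hcount : (S.filter fun c => G.Adj b c).card = 16 := by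
    have e : S.filter (fun c => G.Adj b c) = (univ.filter fun z => G.Adj b z) \ near G v b := by
      ext c
      simp only [hS, mem_filter, mem_erase, mem_far, mem_sdiff, near, mem_univ, true_and, not_and]
      constructor
      · rintro ⟨⟨-, -, h⟩, h'⟩; exact ⟨h', fun a => absurd a h⟩
      · rintro ⟨h, h'⟩
        exact ⟨⟨h.ne.symm, fun e => hb'.2 (e ▸ h).symm, fun a => h' a h⟩, h⟩
    rw [e, card_sdiff_of_subset, card_nbr hG, card_near hG hb]
    intro z hz
    simp only [near, mem_filter, mem_univ, true_and] at hz ⊢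
    exact hz.2
  have hScard : S.card = 76 := by rw [hS, card_erase_of_mem hb, card_far hG]
  set T := S.filter fun c => ¬ G.Adj b c with hT
  have hTcard : T.card = 60 := by
    have := card_filter_add_card_filter_not (s := S) (fun c => G.Adj b c)
    simp only [hT]
    omega
  have hsq : ∑ c ∈ T, ((x c : ℤ) - 2) ^ 2 = 0 := by
    have hs : ∀ f : V → ℕ, (∀ c ∈ S, G.Adj b c → f c = 0) → ∑ c ∈ T, f c = ∑ c ∈ S, f c := fun f hf => by
      rw [hT, sum_filter]
      exact sum_congr rfl fun c hc => by
        by_cases h : G.Adj b c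
        · rw [if_neg (not_not.2 h), hf c hc h]
        · rw [if_pos h]
    have t1 : ∑ c ∈ T, (x c : ℤ) = 120 := by
      rw [← Nat.cast_sum, hs x hA, h1]; rfl
    have t2 : ∑ c ∈ T, ((x c : ℤ) * x c) = 240 := by
      simp only [← Nat.cast_mul]
      rw [← Nat.cast_sum, hs _ (fun c hc h => by rw [hA c hc h]), h2]; rfl
    rw [sum_congr rfl (fun c _ => show ((x c : ℤ) - 2) ^ 2 = (x c : ℤ) * x c - 4 * x c + 4 by ring),
      sum_add_distrib, sum_sub_distrib, ← mul_sum, t1, t2, sum_const, hTcard]
    norm_num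
  have hcS : c ∈ S := mem_erase.2 ⟨hne.symm, hc⟩
  split_ifs with h
  · exact hA c hcS h
  · have := (sum_eq_zero_iff_of_nonneg fun c _ => sq_nonneg _).1 hsq c (mem_filter.2 ⟨hcS, h⟩)
    rw [sq_eq_zero_iff] at this
    show x c = 2
    omega

/-- The block of a far vertex. -/
def blk (G : SimpleGraph V) [DecidableRel G.Adj] (v b : V) : Finset {z // G.Adj v z} :=
  univ.filter fun p => G.Adj b p

theorem map_blk (v b : V) : (blk G v b).map (Function.Embedding.subtype _) = near G v b := by
  ext z
  simp [blk, near, and_comm]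

theorem card_blk (hG : G.IsSRGWith 100 22 0 6) {v b : V} (hb : b ∈ far G v) : (blk G v b).card = 6 := by
  rw [← card_map (Function.Embedding.subtype _), map_blk, card_near hG hb]

theorem inter_blk (hG : G.IsSRGWith 100 22 0 6) {v b c : V} (hb : b ∈ far G v) (hc : c ∈ far G v)
    (hne : b ≠ c) : (blk G v b ∩ blk G v c).card = if G.Adj b c then 0 else 2 := by
  rw [← card_map (Function.Embedding.subtype _), map_inter, map_blk, map_blk, inter_near hG hb hc hne]

theorem blk_injOn (hG : G.IsSRGWith 100 22 0 6) (v : V) : Set.InjOn (blk G v) (far G v) := by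
  intro b hb c hc e
  by_contra h
  have := inter_blk hG hb hc h
  rw [← e, inter_self, card_blk hG hb] at this
  split_ifs at this
  all_goals omega

/-- The system near a vertex. -/
def sys (G : SimpleGraph V) [DecidableRel G.Adj] (v : V) : Set (Finset {z // G.Adj v z}) :=
  blk G v '' (far G v : Set V)

theorem isSteiner_sys (hG : G.IsSRGWith 100 22 0 6) (v : V) : IsSteinerSystem 3 6 (sys G v) := by
  classical
  refine ⟨?_, fun s hs => ?_⟩
  · rintro _ ⟨b, hb, rfl⟩; exact card_blk hG hb
  have huniq : ∀ b ∈ far G v, ∀ c ∈ far G v, s ⊆ blk G v b → s ⊆ blk G v c → b = c := by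
    intro b hb c hc h1 h2
    by_contra hne
    have h3 := card_le_card (subset_inter h1 h2)
    rw [inter_blk hG hb hc hne, hs] at h3
    split_ifs at h3 <;> omega
  have hpd : (far G v : Set V).PairwiseDisjoint fun b => (blk G v b).powersetCard 3 := by
    intro b hb c hc hne
    refine disjoint_left.2 fun t h1 h2 => ?_
    rw [mem_powersetCard] at h1 h2
    have h3 := card_le_card (subset_inter h1.1 h2.1)
    rw [inter_blk hG hb hc hne, h1.2] at h3
    split_ifs at h3 <;> omega
  have hall : (far G v).biUnion (fun b => (blk G v b).powersetCard 3) = univ.powersetCard 3 := by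
    refine eq_of_subset_of_card_le (fun t ht => ?_) (le_of_eq ?_)
    · obtain ⟨b, -, hb⟩ := mem_biUnion.1 ht
      exact mem_powersetCard.2 ⟨subset_univ _, (mem_powersetCard.1 hb).2⟩
    · rw [card_biUnion hpd, card_powersetCard, card_univ, Fintype.card_subtype, card_nbr hG,
        sum_congr rfl (fun b hb => show _ = 20 by rw [card_powersetCard, card_blk hG hb]; rfl), sum_const,
        card_far hG]
      rfl
  have hsm : s ∈ (univ : Finset {z // G.Adj v z}).powersetCard 3 := mem_powersetCard.2 ⟨subset_univ _, hs⟩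
  rw [← hall, mem_biUnion] at hsm
  obtain ⟨b, hb, hsb⟩ := hsm
  refine ⟨blk G v b, ⟨⟨b, hb, rfl⟩, (mem_powersetCard.1 hsb).1⟩, ?_⟩
  rintro _ ⟨⟨c, hc, rfl⟩, hsc⟩
  rw [huniq c hc b hb hsc (mem_powersetCard.1 hsb).1]

theorem sys_iso (hG : G.IsSRGWith 100 22 0 6) (v : V) : Nonempty (pointBlockGraph (sys G v) ≃g G) := by
  classical
  have hpre : ∀ B : sys G v, ∃ b ∈ far G v, blk G v b = B := fun B => B.2
  choose r hr hrB using hpre
  let f : Option ({z // G.Adj v z} ⊕ sys G v) → V := fun o => match o with
    | none => v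
    | some (Sum.inl p) => p
    | some (Sum.inr B) => r B
  have hri : ∀ B C, r B = r C → B = C := fun B C h => Subtype.ext (by rw [← hrB B, ← hrB C, h])
  have hr1 : ∀ B, r B ≠ v ∧ ¬ G.Adj v (r B) := fun B => mem_far.1 (hr B)
  have hinj : Function.Injective f := by
    intro o o' h
    rcases o with _ | p | B <;> rcases o' with _ | q | C
    · rfl
    · exact absurd (h : v = q) q.2.ne
    · exact absurd (h : v = r C).symm (hr1 C).1
    · exact absurd (h : (p : V) = v).symm p.2.ne
    · rw [Subtype.ext (h : (p : V) = q)]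
    · exact absurd (Eq.subst (motive := fun z => G.Adj v z) (h : (p : V) = r C) p.2) (hr1 C).2
    · exact absurd (h : r B = v) (hr1 B).1
    · exact absurd (Eq.subst (motive := fun z => G.Adj v z) (h : r B = q).symm q.2) (hr1 B).2
    · rw [hri B C h]
  have hsurj : Function.Surjective f := fun z => by
    rcases eq_or_ne z v with rfl | h
    · exact ⟨none, rfl⟩
    · by_cases ha : G.Adj v z
      · exact ⟨some (Sum.inl ⟨z, ha⟩), rfl⟩
      · refine ⟨some (Sum.inr ⟨blk G v z, z, mem_far.2 ⟨h, ha⟩, rfl⟩), ?_⟩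
        exact blk_injOn hG v (hr _) (mem_far.2 ⟨h, ha⟩) (hrB _)
  have hpb : ∀ (p : {z // G.Adj v z}) (B : sys G v), G.Adj (p : V) (r B) ↔ p ∈ (B : Finset {z // G.Adj v z}) := fun p B => by
    rw [← hrB B]; simp [blk, G.adj_comm]
  refine ⟨⟨Equiv.ofBijective f ⟨hinj, hsurj⟩, ?_⟩⟩
  intro o o'
  show G.Adj (f o) (f o') ↔ _
  rcases o with _ | p | B <;> rcases o' with _ | q | C
  · simp [f, pointBlockGraph]
  · exact iff_of_true q.2 (PointBlock.adj_none.2 ⟨q, rfl⟩)
  · exact iff_of_false (hr1 C).2 (fun h => by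
      obtain ⟨a, ha⟩ := PointBlock.adj_none.1 h; simp at ha)
  · exact iff_of_true p.2.symm (PointBlock.adj_none.2 ⟨p, rfl⟩).symm
  · exact iff_of_false (no_triangle hG p.2 q.2) PointBlock.adj_point_point
  · exact (hpb p C).trans PointBlock.adj_point_block.symm
  · exact iff_of_false (fun h => (hr1 B).2 (G.adj_symm h)) (fun h => by
      obtain ⟨a, ha⟩ := PointBlock.adj_none.1 h.symm; simp at ha)
  · exact (G.adj_comm _ _).trans ((hpb q B).trans
      (PointBlock.adj_point_block.symm.trans (SimpleGraph.adj_comm _ _ _)))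
  · rw [PointBlock.adj_block_block]
    show G.Adj (r B) (r C) ↔ _
    rcases eq_or_ne B C with rfl | hne
    · exact iff_of_false G.irrefl (fun h => h.1 rfl)
    · have := inter_blk hG (hr B) (hr C) (fun h => hne (hri B C h))
      rw [hrB, hrB] at this
      rw [disjoint_iff_inter_eq_empty, ← card_eq_zero, this]
      split_ifs with h <;> simp [h, hne]

theorem iso100 {W : Type*} [Fintype W] [DecidableEq W] {H : SimpleGraph W} [DecidableRel H.Adj]
    (hG : G.IsSRGWith 100 22 0 6) (hH : H.IsSRGWith 100 22 0 6) : Nonempty (G ≃g H) := by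
  classical
  obtain ⟨v⟩ : Nonempty V := Fintype.card_pos_iff.1 (by rw [hG.card]; norm_num)
  obtain ⟨w⟩ : Nonempty W := Fintype.card_pos_iff.1 (by rw [hH.card]; norm_num)
  obtain ⟨φ⟩ := sys_iso hG v
  obtain ⟨ψ⟩ := sys_iso hH w
  obtain ⟨e, he⟩ := Steiner.exists_iso22 (α := {z // G.Adj v z})
    (by rw [Fintype.card_subtype, card_nbr hG]) (isSteiner_sys hG v)
  obtain ⟨e', he'⟩ := Steiner.exists_iso22 (α := {z // H.Adj w z})
    (by rw [Fintype.card_subtype, card_nbr hH]) (isSteiner_sys hH w)
  exact ⟨φ.symm.trans ((PointBlock.graphCongr e he).symm.trans ((PointBlock.graphCongr e' he').trans ψ))⟩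

end Cfsg.Agent.SRG100
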