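import Mathlib.LinearAlgebra.Dual.Lemmas
import Mathlib.LinearAlgebra.Matrix.Dual
import Mathlib.LinearAlgebra.Dimension.Finite
import Cfsg.Agent.Lib.Steiner.CodeSystem
import Cfsg.Agent.Lib.Steiner.Closure

/-!
Sets meeting every block of an S(3,6,22) oddly, resp. evenly.
-/

namespace Cfsg.Agent.Steiner

open Cfsg Finset

variable {α : Type*} [Fintype α] [DecidableEq α] {B : Set (Finset α)}

/-- The sets of size at most seven meeting all blocks evenly are empty or blocks; none of size at
most six meets all oddly; those of size seven meeting all oddly are all there are at minimal size. -/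
theorem moments22 (hα : Fintype.card α = 22) (hB : IsSteinerSystem 3 6 B) (U : Finset α)
    (h4 : ∀ h ∈ B, (h ∩ U).card < 4) :
    (∑ j ∈ range 4, ((blocks B).filter fun b => (b ∩ U).card = j).card) = 77 ∧
    ((blocks B).filter fun b => (b ∩ U).card = 1).card
      + 2 * ((blocks B).filter fun b => (b ∩ U).card = 2).card
      + 3 * ((blocks B).filter fun b => (b ∩ U).card = 3).card = U.card * 21 ∧
    ((blocks B).filter fun b => (b ∩ U).card = 2).card
      + 3 * ((blocks B).filter fun b => (b ∩ U).card = 3).card = U.card.choose 2 * 5 ∧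
    ((blocks B).filter fun b => (b ∩ U).card = 3).card = U.card.choose 3 := by
  have hlt : ∀ b ∈ blocks B, (b ∩ U).card < 4 := fun b hb => h4 b (mem_blocks.1 hb)
  have m0 := moment hB U 0 77 (by norm_num) (by decide) (by rw [hα]; decide)
  have m1 := moment hB U 1 21 (by norm_num) (by decide) (by rw [hα]; decide)
  have m2 := moment hB U 2 5 (by norm_num) (by decide) (by rw [hα]; decide)
  have m3 := moment hB U 3 1 (by norm_num) (by decide) (by rw [hα]; decide)
  rw [sum_by_size U _ (fun j => j.choose 0) 4 hlt] at m0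
  rw [sum_by_size U _ (fun j => j.choose 1) 4 hlt] at m1
  rw [sum_by_size U _ (fun j => j.choose 2) 4 hlt] at m2
  rw [sum_by_size U _ (fun j => j.choose 3) 4 hlt] at m3
  simp only [sum_range_succ, sum_range_zero, Nat.choose_zero_right, Nat.choose_one_right] at m0 m1 m2 m3 ⊢
  norm_num [Nat.choose, -Finset.card_eq_zero] at m0 m1 m2 m3 ⊢
  omega

theorem odd_min (hα : Fintype.card α = 22) (hB : IsSteinerSystem 3 6 B) :
    ∀ n, ∀ a : Finset α, a.card = n → (∀ h ∈ B, (h ∩ a).card % 2 = 1) →
      7 ≤ n ∧ ((∀ c : Finset α, (∀ h ∈ B, (h ∩ c).card % 2 = 1) → n ≤ c.card) → n = 7) := by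
  intro n
  induction n using Nat.strong_induction_on with
  | _ n ih =>
    intro a ha hodd
    by_cases h5 : ∃ h ∈ B, 4 ≤ (h ∩ a).card
    · obtain ⟨h, hh, h5⟩ := h5
      have hnew : ∀ k ∈ B, (k ∩ symmDiff h a).card % 2 = 1 := fun k hk => by
        rw [inter_symmDiff]
        have h1 := card_symmDiff_add (k ∩ h) (k ∩ a)
        have h2 := hodd k hk
        have h3 : (k ∩ h).card % 2 = 0 := by
          rcases eq_or_ne k h with rfl | hne
          · rw [inter_self, card_of_mem hB hk]
          · rcases inter22 hα hB hk hh hne with e | e <;> omega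
        omega
      have h1 := card_symmDiff_add h a
      rw [card_of_mem hB hh, ha] at h1
      have h2 := hodd h hh
      obtain ⟨h7, -⟩ := ih _ (by omega : (symmDiff h a).card < n) _ rfl hnew
      refine ⟨by omega, fun hmin => absurd (hmin _ hnew) (by omega)⟩
    · push Not at h5
      obtain ⟨m0, m1, m2, m3⟩ := moments22 hα hB a h5
      have z : ∀ j, j % 2 = 0 → ((blocks B).filter fun b => (b ∩ a).card = j).card = 0 := fun j hj => by
        rw [Finset.card_eq_zero, filter_eq_empty_iff]
        intro b hb e
        have := hodd b (mem_blocks.1 hb)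
        omega
      simp only [sum_range_succ, sum_range_zero, z 0 rfl, z 2 rfl] at m0 m1 m2
      have hn : n ≤ 22 := ha ▸ hα ▸ card_le_univ a
      rw [ha] at m1 m2 m3
      have : n = 7 := by
        interval_cases n <;> norm_num [Nat.choose, -Finset.card_eq_zero] at m2 m3 <;> omega
      exact ⟨by omega, fun _ => this⟩

theorem even_small (hα : Fintype.card α = 22) (hB : IsSteinerSystem 3 6 B) :
    ∀ n, ∀ a : Finset α, a.card = n → n ≤ 7 → (∀ h ∈ B, (h ∩ a).card % 2 = 0) →
      a = ∅ ∨ a ∈ B := by
  intro n
  induction n using Nat.strong_induction_on with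
  | _ n ih =>
    intro a ha hn heven
    by_cases h4 : ∃ h ∈ B, 4 ≤ (h ∩ a).card
    · obtain ⟨h, hh, h4⟩ := h4
      have hnew : ∀ k ∈ B, (k ∩ symmDiff h a).card % 2 = 0 := fun k hk => by
        rw [inter_symmDiff]
        have h1 := card_symmDiff_add (k ∩ h) (k ∩ a)
        have h2 := heven k hk
        have h3 : (k ∩ h).card % 2 = 0 := by
          rcases eq_or_ne k h with rfl | hne
          · rw [inter_self, card_of_mem hB hk]
          · rcases inter22 hα hB hk hh hne with e | e <;> omega
        omega
      have h1 := card_symmDiff_add h a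
      rw [card_of_mem hB hh, ha] at h1
      rcases ih _ (by omega : (symmDiff h a).card < n) _ rfl (by omega) hnew with e | e
      · exact Or.inr ((symmDiff_eq_bot.1 e : h = a) ▸ hh)
      · have := card_of_mem hB e; omega
    · push Not at h4
      obtain ⟨m0, m1, m2, m3⟩ := moments22 hα hB a h4
      have z : ∀ j, j % 2 = 1 → ((blocks B).filter fun b => (b ∩ a).card = j).card = 0 := fun j hj => by
        rw [Finset.card_eq_zero, filter_eq_empty_iff]
        intro b hb e
        have := heven b (mem_blocks.1 hb)
        omega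
      simp only [z 1 rfl, z 3 rfl] at m1 m2 m3
      rw [ha] at m1 m2 m3
      left
      rw [← Finset.card_eq_zero, ha]
      interval_cases n <;> (try norm_num [Nat.choose, -Finset.card_eq_zero] at m2 m3 ⊢) <;> omega

/-- Dot product of indicator words. -/
theorem dot_word (s t : Finset α) : ∑ i, word s i * word t i = ((s ∩ t).card : ZMod 2) := by
  rw [card_eq_sum_ones, Nat.cast_sum, ← sum_subset (subset_univ (s ∩ t)) (fun i _ hi => by
    simp only [word]
    split_ifs with h1 h2 <;> simp
    exact hi (mem_inter.2 ⟨h1, h2⟩))]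
  exact sum_congr rfl fun i hi => by simp [word, (mem_inter.1 hi).1, (mem_inter.1 hi).2]

theorem natCast_eq_zero_iff (n : ℕ) : (n : ZMod 2) = 0 ↔ n % 2 = 0 := by
  rw [ZMod.natCast_eq_zero_iff_even, Nat.even_iff]

theorem natCast_eq_one_iff (n : ℕ) : (n : ZMod 2) = 1 ↔ n % 2 = 1 := by
  rw [ZMod.natCast_eq_one_iff_odd, Nat.odd_iff]

theorem exists_odd_seven (hα : Fintype.card α = 22) (hB : IsSteinerSystem 3 6 B) :
    ∃ v : Finset α, v.card = 7 ∧ ∀ h ∈ B, (h ∩ v).card % 2 = 1 := by
  classical
  suffices h : ∃ v : Finset α, ∀ h ∈ B, (h ∩ v).card % 2 = 1 by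
    obtain ⟨v, hv⟩ := h
    have hex : ∃ n, ∃ c : Finset α, c.card = n ∧ ∀ h ∈ B, (h ∩ c).card % 2 = 1 := ⟨_, v, rfl, hv⟩
    obtain ⟨c, hc, hcodd⟩ := Nat.find_spec hex
    refine ⟨c, ?_, hcodd⟩
    rw [hc]
    exact (odd_min hα hB _ c hc hcodd).2 fun d hd => Nat.find_le ⟨d, rfl, hd⟩
  let W : Submodule (ZMod 2) ((α → ZMod 2) × ZMod 2) := Submodule.span _ ((fun h => (word h, (1 : ZMod 2))) '' B)
  have hinv : ∀ x ∈ W, (∀ k ∈ B, (k ∩ support₂ x.1).card % 2 = 0) ∧
      (support₂ x.1).card % 4 = 2 * x.2.val := by
    intro x hx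
    induction hx using Submodule.span_induction with
    | mem x hx =>
      obtain ⟨h, hh, rfl⟩ := hx
      simp only [support_word]
      refine ⟨fun k hk => ?_, by rw [card_of_mem hB hh]; decide⟩
      rcases eq_or_ne k h with rfl | hne
      · rw [inter_self, card_of_mem hB hk]
      · rcases inter22 hα hB hk hh hne with e | e <;> omega
    | zero => simp [support₂]
    | add x y hx _ ih1 ih2 =>
      have he : support₂ (x + y).1 = symmDiff (support₂ x.1) (support₂ y.1) := by
        ext i
        simp only [support₂, mem_filter, mem_univ, true_and, mem_symmDiff, Prod.fst_add, Pi.add_apply]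
        generalize x.1 i = u
        generalize y.1 i = w
        revert u w; decide
      have hxy : ((support₂ x.1) ∩ (support₂ y.1)).card % 2 = 0 := by
        rw [← natCast_eq_zero_iff, ← dot_word, word_support, word_support]
        clear ih1 he
        induction hx using Submodule.span_induction with
        | mem z hz =>
          obtain ⟨h, hh, rfl⟩ := hz
          have := ih2.1 h hh
          rw [← natCast_eq_zero_iff, ← dot_word, word_support] at this
          exact this
        | zero => simp
        | add a b _ _ h1 h2 => simp [add_mul, sum_add_distrib, h1, h2]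
        | smul c a _ h => simp [mul_assoc, ← mul_sum, h]
      refine ⟨fun k hk => ?_, ?_⟩
      · rw [he, inter_symmDiff]
        have := card_symmDiff_add (k ∩ support₂ x.1) (k ∩ support₂ y.1)
        have := ih1.1 k hk
        have := ih2.1 k hk
        omega
      · rw [he]
        have := card_symmDiff_add (support₂ x.1) (support₂ y.1)
        have := ih1.2
        have := ih2.2
        simp only [Prod.snd_add]
        have hv : ∀ a b : ZMod 2, (a + b).val = (a.val + b.val) % 2 := by decide
        rw [hv]
        omega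
    | smul c x _ ih =>
      rcases (by decide : ∀ c : ZMod 2, c = 0 ∨ c = 1) c with rfl | rfl
      · simp [support₂]
      · simpa using ih
  have hnot : ((0, 1) : (α → ZMod 2) × ZMod 2) ∉ W := fun h => by
    have := (hinv _ h).2
    simp [support₂] at this

  obtain ⟨f, hf1, hfW⟩ := Submodule.exists_dual_map_eq_bot_of_notMem hnot inferInstance
  let g : Module.Dual (ZMod 2) (α → ZMod 2) := f.comp (LinearMap.inl _ _ _)
  obtain ⟨u, hu⟩ := (dotProductEquiv (ZMod 2) α).surjective g
  refine ⟨support₂ u, fun h hh => ?_⟩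
  have hmem : f (word h, 1) = 0 := by
    have : f (word h, 1) ∈ W.map f := ⟨_, Submodule.subset_span ⟨h, hh, rfl⟩, rfl⟩
    rwa [hfW, Submodule.mem_bot] at this
  have h01 : f ((0, 1) : (α → ZMod 2) × ZMod 2) = 1 := ((by decide : ∀ c : ZMod 2, c = 0 ∨ c = 1) _).resolve_left hf1
  have hgh : g (word h) = 1 := by
    have e : f (word h, 1) = g (word h) + f ((0, 1) : (α → ZMod 2) × ZMod 2) := by
      show _ = f (word h, 0) + _
      rw [← map_add]; simp
    rw [hmem, h01] at e
    exact (by decide : ∀ c : ZMod 2, 0 = c + 1 → c = 1) _ e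
  rw [← natCast_eq_one_iff, inter_comm, ← dot_word, word_support, ← hgh, ← hu]
  rfl

end Cfsg.Agent.Steiner
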