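import Mathlib.LinearAlgebra.FiniteDimensional.Basic
import Cfsg.Agent.Lib.Steiner.Odd22
import Cfsg.Agent.Lib.Steiner.Ext23

/-!
The extension of an S(3,6,22) to an S(5,8,24) by a self-dual code.
-/

namespace Cfsg.Agent.Steiner

open Cfsg Finset

variable {α : Type*} [Fintype α] [DecidableEq α] {B : Set (Finset α)} {v : Finset α}

/-- The generating sets: blocks with both new points, and the odd set with the outer new point. -/
def genSets (B : Set (Finset α)) (v : Finset α) : Set (Finset (Option (Option α))) :=
  (fun h => hat (hat h)) '' B ∪ {hat (v.map Function.Embedding.some)}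

/-- The code spanned by the generating sets. -/
noncomputable def code22 (B : Set (Finset α)) (v : Finset α) :
    Submodule (ZMod 2) (Option (Option α) → ZMod 2) :=
  Submodule.span _ (word '' genSets B v)

/-- The words orthogonal to the code. -/
noncomputable def perp22 (B : Set (Finset α)) (v : Finset α) :
    Submodule (ZMod 2) (Option (Option α) → ZMod 2) :=
  (code22 B v).dualAnnihilator.comap (dotProductEquiv (ZMod 2) (Option (Option α))).toLinearMap

theorem mem_perp22 {w : Option (Option α) → ZMod 2} :
    w ∈ perp22 B v ↔ ∀ g ∈ genSets B v, (g ∩ support₂ w).card % 2 = 0 := by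
  have key : ∀ g, dotProductEquiv (ZMod 2) (Option (Option α)) w (word g) = 0 ↔
      (g ∩ support₂ w).card % 2 = 0 := fun g => by
    rw [← natCast_eq_zero_iff, inter_comm, ← dot_word, word_support]
    rfl
  simp only [perp22, Submodule.mem_comap, Submodule.mem_dualAnnihilator]
  constructor
  · exact fun h g hg => (key g).1 (h _ (Submodule.subset_span ⟨g, hg, rfl⟩))
  · intro h x hx
    have hle : code22 B v ≤ LinearMap.ker (dotProductEquiv (ZMod 2) (Option (Option α)) w) :=
      Submodule.span_le.2 (by rintro _ ⟨g, hg, rfl⟩; exact LinearMap.mem_ker.2 ((key g).2 (h g hg)))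
    exact hle hx

theorem word_mem_perp22 {s : Finset (Option (Option α))} :
    word s ∈ perp22 B v ↔ ∀ g ∈ genSets B v, (g ∩ s).card % 2 = 0 := by
  rw [mem_perp22, support_word]

theorem vhat_inter (h v : Finset α) :
    hat (hat h) ∩ hat (v.map Function.Embedding.some) = hat ((h ∩ v).map Function.Embedding.some) := by
  ext (_ | _ | p) <;> simp [hat]

theorem card_vhat (v : Finset α) : (hat (v.map Function.Embedding.some)).card = v.card + 1 := by
  rw [card_hat, card_map]

theorem code22_le (hα : Fintype.card α = 22) (hB : IsSteinerSystem 3 6 B) (hv : v.card = 7)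
    (hodd : ∀ h ∈ B, (h ∩ v).card % 2 = 1) : code22 B v ≤ perp22 B v := by
  refine Submodule.span_le.2 ?_
  rintro _ ⟨g, hg, rfl⟩
  refine word_mem_perp22.2 fun k hk => ?_
  rcases hg with ⟨h, hh, rfl⟩ | rfl <;> rcases hk with ⟨h', hh', rfl⟩ | rfl
  · rw [hat_inter, hat_inter, card_hat, card_hat]
    rcases eq_or_ne h' h with rfl | hne
    · rw [inter_self, card_of_mem hB hh']
    · rcases inter22 hα hB hh' hh hne with e | e <;> omega
  · rw [inter_comm, vhat_inter, card_vhat]
    have := hodd h hh
    omega
  · rw [vhat_inter, card_vhat]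
    have := hodd h' hh'
    omega
  · rw [inter_self, card_vhat, hv]

theorem perp22_min (hα : Fintype.card α = 22) (hB : IsSteinerSystem 3 6 B)
    (hodd : ∀ h ∈ B, (h ∩ v).card % 2 = 1) :
    ∀ w ∈ perp22 B v, w ≠ 0 → 8 ≤ hammingNorm w := by
  intro w hw h0
  rw [mem_perp22] at hw
  by_contra hlt
  rw [← card_support] at hlt
  set s := support₂ w with hs
  set a : Finset α := univ.filter fun p => some (some p) ∈ s with ha
  have hmem : ∀ p, p ∈ a ↔ some (some p) ∈ s := fun p => by simp [ha]
  let cn : ℕ := if none ∈ s then 1 else 0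
  let cq : ℕ := if some none ∈ s then 1 else 0
  have hsplit : ∀ g : Finset α,
      (hat (hat g) ∩ s).card = (g ∩ a).card + cn + cq ∧
      (hat (g.map Function.Embedding.some) ∩ s).card = (g ∩ a).card + cn := by
    intro g
    have e1 : ∀ t : Finset (Option (Option α)), t.card = (univ.filter fun p => some (some p) ∈ t).card
        + (if none ∈ t then 1 else 0) + (if some none ∈ t then 1 else 0) := by
      intro t
      rw [card_eq_sum_ones, card_eq_sum_ones, sum_filter]
      conv_lhs => rw [← filter_univ_mem t, sum_filter, Fintype.sum_option, Fintype.sum_option]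
      ring
    constructor
    · rw [e1]
      have : (univ.filter fun p => some (some p) ∈ hat (hat g) ∩ s) = g ∩ a := by
        ext p; simp [some_mem_hat, hmem]
      rw [this]
      simp [cn, cq, none_mem_hat, some_mem_hat]
    · rw [e1]
      have : (univ.filter fun p => some (some p) ∈ hat (g.map Function.Embedding.some) ∩ s) = g ∩ a := by
        ext p; simp [some_mem_hat, hmem]
      rw [this]
      simp [cn, none_mem_hat, some_mem_hat]
  have hscard : s.card = a.card + cn + cq := by
    have hu := (hsplit univ).1
    rw [univ_inter] at hu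
    rw [← hu]
    congr 1
    ext (_ | _ | p) <;> simp [none_mem_hat, some_mem_hat]
  have hblock : ∀ h ∈ B, ((h ∩ a).card + cn + cq) % 2 = 0 := fun h hh => by
    rw [← (hsplit h).1]; exact hw _ (Or.inl ⟨h, hh, rfl⟩)
  have hv' : ((v ∩ a).card + cn) % 2 = 0 := by rw [← (hsplit v).2]; exact hw _ (Or.inr rfl)
  have hcn : cn ≤ 1 := by simp only [cn]; split_ifs <;> omega
  have hcq : cq ≤ 1 := by simp only [cq]; split_ifs <;> omega
  by_cases hpar : cn + cq = 1
  · have h7 := (odd_min hα hB _ a rfl (fun h hh => by have := hblock h hh; omega)).1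
    omega
  · rcases even_small hα hB _ a rfl (by omega) (fun h hh => by have := hblock h hh; omega) with e | e
    · rw [e, inter_empty, card_empty] at hv'
      rw [e, card_empty] at hscard
      have : s.card = 0 := by omega
      exact h0 (by rw [← word_support w, ← hs, Finset.card_eq_zero.1 this]; funext i; simp [word])
    · have := hodd a e
      rw [inter_comm] at this
      have := card_of_mem hB e
      omega

theorem finrank_perp22 (hα : Fintype.card α = 22) (hB : IsSteinerSystem 3 6 B) (hv : v.card = 7)
    (hodd : ∀ h ∈ B, (h ∩ v).card % 2 = 1) :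
    Module.finrank (ZMod 2) (perp22 B v) = 12 ∧ code22 B v = perp22 B v := by
  classical
  have hcardX : Fintype.card (Option (Option α)) = 24 := by
    rw [Fintype.card_option, Fintype.card_option, hα]
  have heq : Module.finrank (ZMod 2) (perp22 B v)
      = Module.finrank (ZMod 2) (code22 B v).dualAnnihilator := by
    refine LinearEquiv.finrank_eq ((LinearEquiv.ofSubmodules
      (dotProductEquiv (ZMod 2) (Option (Option α))) _ _ ?_))
    exact Submodule.map_comap_eq_of_surjective (LinearEquiv.surjective _) _
  have hsum := Subspace.finrank_add_finrank_dualAnnihilator_eq (code22 B v)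
  rw [← heq, Module.finrank_fintype_fun_eq_card, hcardX] at hsum
  have hle := Submodule.finrank_mono (code22_le hα hB hv hodd)
  -- sphere packing
  set S := (range 4).biUnion fun k => (univ : Finset (Option (Option α))).powersetCard k with hS
  have hScard : ∀ a ∈ S, a.card ≤ 3 := fun a ha => by
    obtain ⟨k, hk, h⟩ := mem_biUnion.1 ha
    have := mem_range.1 hk
    rw [(mem_powersetCard.1 h).2]; omega
  have hS2325 : S.card = 2325 := by
    rw [hS, card_biUnion]
    · simp only [card_powersetCard, card_univ, hcardX, sum_range_succ, sum_range_zero]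
      decide
    · intro a _ b _ hab
      refine Finset.disjoint_left.2 fun z h1 h2 => hab ?_
      rw [← (mem_powersetCard.1 h1).2, (mem_powersetCard.1 h2).2]
  let Φ : perp22 B v × S → (Option (Option α) → ZMod 2) := fun x => x.1.1 + word x.2.1
  have hinj : Function.Injective Φ := by
    rintro ⟨⟨x, hx⟩, ⟨a, ha⟩⟩ ⟨⟨y, hy⟩, ⟨b, hb⟩⟩ h
    have h' : x + word a = y + word b := h
    have hd : word (symmDiff a b) ∈ perp22 B v := by
      have e : word a - word b = y - x := by
        rw [eq_sub_iff_add_eq, sub_add_eq_add_sub, sub_eq_iff_eq_add, add_comm, h']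
      rw [word_symmDiff, e]
      exact sub_mem hy hx
    have hab : a = b := by
      by_contra hne
      have h0 : word (symmDiff a b) ≠ 0 := fun e => hne (symmDiff_eq_bot.1 (by
        rw [← support_word (symmDiff a b), e]; simp [support₂]))
      have h8 := perp22_min hα hB hodd _ hd h0
      rw [← card_support, support_word] at h8
      have := card_symm a b
      have := hScard a ha
      have := hScard b hb
      omega
    subst hab
    rw [add_left_inj] at h'
    subst h'
    rfl
  have hpack := Nat.card_le_card_of_injective Φ hinj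
  rw [Nat.card_prod, Module.natCard_eq_pow_finrank (K := ZMod 2) (V := perp22 B v), Nat.card_zmod,
    Nat.card_eq_finsetCard, hS2325, Nat.card_fun, Nat.card_zmod,
    Nat.card_eq_fintype_card (α := Option (Option α)), hcardX] at hpack
  have h12 : Module.finrank (ZMod 2) (perp22 B v) ≤ 12 := by
    by_contra h
    have := Nat.pow_le_pow_right (show 0 < 2 by norm_num)
      (show 13 ≤ Module.finrank (ZMod 2) (perp22 B v) by omega)
    norm_num at this hpack
    omega
  exact ⟨by omega, Submodule.eq_of_le_of_finrank_eq (code22_le hα hB hv hodd) (by omega)⟩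

/-- The extension of an S(3,6,22). -/
def ext22 (B : Set (Finset α)) (v : Finset α) : Set (Finset (Option (Option α))) :=
  {s | s.card = 8 ∧ word s ∈ perp22 B v}

theorem isSteiner_ext22 (hα : Fintype.card α = 22) (hB : IsSteinerSystem 3 6 B) (hv : v.card = 7)
    (hodd : ∀ h ∈ B, (h ∩ v).card % 2 = 1) : IsSteinerSystem 5 8 (ext22 B v) := by
  refine steiner_of_code (by rw [Fintype.card_option, Fintype.card_option, hα]) _ ?_
    (perp22_min hα hB hodd)
  rw [Module.natCard_eq_pow_finrank (K := ZMod 2), (finrank_perp22 hα hB hv hodd).1, Nat.card_zmod]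
  norm_num

theorem hat2_mem_ext22 (hα : Fintype.card α = 22) (hB : IsSteinerSystem 3 6 B) (hv : v.card = 7)
    (hodd : ∀ h ∈ B, (h ∩ v).card % 2 = 1) {h : Finset α} (hh : h ∈ B) :
    hat (hat h) ∈ ext22 B v :=
  ⟨by rw [card_hat, card_hat, card_of_mem hB hh],
    code22_le hα hB hv hodd (Submodule.subset_span ⟨_, Or.inl ⟨h, hh, rfl⟩, rfl⟩)⟩

theorem mem_ext22_both (hα : Fintype.card α = 22) (hB : IsSteinerSystem 3 6 B) (hv : v.card = 7)
    (hodd : ∀ h ∈ B, (h ∩ v).card % 2 = 1) {s : Finset (Option (Option α))}
    (hs : s ∈ ext22 B v) (h1 : none ∈ s) (h2 : some none ∈ s) : ∃ h ∈ B, hat (hat h) = s := by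
  obtain ⟨T, hT, hT3⟩ := exists_subset_card_eq
    (s := univ.filter fun p => some (some p) ∈ s) (n := 3) (by
      have hle : s ⊆ insert none (insert (some none)
          ((univ.filter fun p => some (some p) ∈ s).map
            (Function.Embedding.some.trans Function.Embedding.some))) := by
        rintro (_ | _ | p) hp <;> simp [hp]
      have := card_le_card hle
      have a1 := card_insert_le none (insert (some none)
          ((univ.filter fun p => some (some p) ∈ s).map
            (Function.Embedding.some.trans Function.Embedding.some)))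
      have a2 := card_insert_le (some none)
          ((univ.filter fun p => some (some p) ∈ s).map
            (Function.Embedding.some.trans Function.Embedding.some))
      rw [card_map] at a2
      have := hs.1
      omega)
  obtain ⟨h, ⟨hh, hsub⟩, -⟩ := hB.2 T hT3
  refine ⟨h, hh, eq_of_inter (isSteiner_ext22 hα hB hv hodd) (hat2_mem_ext22 hα hB hv hodd hh) hs ?_⟩
  refine le_trans (b := (hat (hat T)).card) (by rw [card_hat, card_hat, hT3]) (card_le_card ?_)
  rintro (_ | _ | p) hp
  · exact mem_inter.2 ⟨none_mem_hat _, h1⟩
  · exact mem_inter.2 ⟨some_mem_hat.2 (none_mem_hat _), h2⟩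
  · rw [some_mem_hat, some_mem_hat] at hp
    exact mem_inter.2 ⟨some_mem_hat.2 (some_mem_hat.2 (hsub hp)), (mem_filter.1 (hT hp)).2⟩

end Cfsg.Agent.Steiner
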