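import Cfsg.Agent.Lib.Steiner.Triangles
import Cfsg.Agent.Lib.Steiner.AutTransfer
import Cfsg.Agent.Lib.Codes.Ternary

/-!
Uniqueness of the small Steiner system with blocks of six points.
-/

namespace Cfsg.Agent.Uniq12

open Cfsg Cfsg.Agent.Steiner Cfsg.Agent.Ternary Cfsg.Agent.Golay Finset

set_option maxRecDepth 10000

/-! ### The finite check -/

/-- Seventeen blocks determined by a block, a point and the two-point intersections. -/
def seeds : List ℕ :=
  [63, 969, 1489, 1761, 1861, 1923, 2529, 2755, 2897, 2949, 3269, 3395, 3465, 3657, 3729, 3873, 4032]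

/-- Sets of five points with a forced block. -/
def fives : List ℕ :=
  [1293, 1353, 1557, 1603, 1669, 1801, 2311, 2373, 2573, 2629, 2697, 2819, 3091, 3333, 3587]

/-- The blocks forced by these sets. -/
def forced : List ℕ :=
  [1295, 1385, 1589, 1619, 1677, 1817, 2343, 2381, 2589, 2661, 2729, 2827, 3099, 3349, 3591]

/-- Compatibility of a candidate with a block. -/
def compatB (k m : ℕ) : Bool := !(Nat.beq (popCount (k &&& m) 12) 1) && !(Nat.beq (popCount (k &&& m) 12) 5)

theorem forced_check :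
    (List.range 4096).all (fun m => !(Nat.beq (popCount m 12) 6 && seeds.all (fun k => compatB k m)) ||
      (List.zip fives forced).all (fun q => !(Nat.beq (q.1 &&& m) q.1) || Nat.beq m q.2)) = true ∧
    fives.all (fun f => Nat.beq (popCount f 12) 5) = true ∧
    (List.zip fives forced).map Prod.snd = forced := by
  decide +kernel

theorem final_check :
    (List.range 4096).all (fun m => !(Nat.beq (popCount m 12) 6 && seeds.all (fun k => compatB k m) &&
      forced.all (fun k => compatB k m)) || hexMasks.contains m) = true := by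
  decide +kernel

theorem mSet_and (a b : ℕ) : mSet (a &&& b) = mSet a ∩ mSet b := by
  ext p; simp [mem_mSet]

theorem eq_hexads {B : Set (Finset ArrayPt)} (hB : IsSteinerSystem 5 6 B) (hK : ∀ k ∈ seeds, mSet k ∈ B) :
    B = hexads := by
  have hα : Fintype.card ArrayPt = 12 := rfl
  have hcand : ∀ c ∈ B, ∀ k, mSet k ∈ B → compatB k (tMask c) = true := fun c hc k hk => by
    have h : (mSet k ∩ c).card ≠ 1 ∧ (mSet k ∩ c).card ≠ 5 := by
      rcases eq_or_ne (mSet k) c with e | e
      · rw [e, inter_self, card_of_mem hB hc]; exact ⟨by norm_num, by norm_num⟩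
      · rcases inter12 hα hB hk hc e with r | r | r | r <;> rw [r] <;> exact ⟨by norm_num, by norm_num⟩
    rw [← mSet_tMask c, ← mSet_and, card_mSet] at h
    simp only [compatB, Bool.and_eq_true, Bool.not_eq_true', ← Bool.not_eq_true, Nat.beq_eq]
    exact h
  have hc6 : ∀ c ∈ B, Nat.beq (popCount (tMask c) 12) 6 = true ∧ seeds.all (fun k => compatB k (tMask c)) = true :=
    fun c hc => ⟨by rw [← card_mSet, mSet_tMask, card_of_mem hB hc]; rfl,
      List.all_eq_true.2 fun k hk => hcand c hc k (hK k hk)⟩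
  have hforced : ∀ k ∈ forced, mSet k ∈ B := by
    intro k hk
    obtain ⟨q, hq, rfl⟩ : ∃ q ∈ List.zip fives forced, q.2 = k := by
      rw [← forced_check.2.2] at hk
      exact List.mem_map.1 hk
    have h5 : (mSet q.1).card = 5 := by
      rw [card_mSet]
      exact Nat.eq_of_beq_eq_true (List.all_eq_true.1 forced_check.2.1 q.1 (List.of_mem_zip hq).1)
    obtain ⟨c, ⟨hc, hsub⟩, -⟩ := hB.2 _ h5
    have e := List.all_eq_true.1 forced_check.1 (tMask c) (List.mem_range.2 (mkMask_lt _ _))
    rw [(hc6 c hc).1, (hc6 c hc).2] at e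
    simp only [Bool.and_true, Bool.not_true, Bool.false_or] at e
    have e' := List.all_eq_true.1 e q hq
    have hand : q.1 &&& tMask c = q.1 := by
      have hlt : q.1 < 2 ^ 12 := by
        have : ∀ f ∈ fives, f < 2 ^ 12 := by decide
        exact this _ (List.of_mem_zip hq).1
      refine mSet_inj (lt_of_le_of_lt Nat.and_le_left hlt) hlt ?_
      rw [mSet_and, mSet_tMask, inter_eq_left.2 hsub]
    rw [hand, show Nat.beq q.1 q.1 = true from Nat.beq_refl _] at e'
    simp only [Bool.not_true, Bool.false_or, Nat.beq_eq] at e'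
    rw [← e', mSet_tMask]
    exact hc
  have hsub : B ⊆ hexads := fun c hc => by
    have e := List.all_eq_true.1 final_check (tMask c) (List.mem_range.2 (mkMask_lt _ _))
    rw [(hc6 c hc).1, (hc6 c hc).2, List.all_eq_true.2 fun k hk => hcand c hc k (hforced k hk)] at e
    simp only [Bool.and_true, Bool.not_true, Bool.false_or, List.contains_eq_mem, decide_eq_true_eq] at e
    exact mem_hexads.2 ⟨_, e, mSet_tMask c⟩
  refine Set.Subset.antisymm hsub fun c hc => ?_
  obtain ⟨s, hs, hs5⟩ := exists_subset_card_eq (s := c) (n := 5) (by rw [isSteiner_hexads.1 c hc]; norm_num)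
  obtain ⟨d, ⟨hd, hsd⟩, -⟩ := hB.2 s hs5
  rwa [← (isSteiner_hexads.2 s hs5).unique ⟨hsub hd, hsd⟩ ⟨hc, hs⟩]

/-! ### Labelling -/

/-- The colours of the pairs in the standard system. -/
def colTab : List ℕ :=
  [9, 0, 1, 2, 3, 4, 0, 9, 4, 3, 1, 2, 1, 4, 9, 0, 2, 3, 2, 3, 0, 9, 4, 1, 3, 1, 2, 4, 9, 0, 4, 2, 3, 1, 0, 9]

/-- The colour of a pair. -/
def col (i j : Fin 6) : Fin 5 := Fin.ofNat 5 (colTab.getD (6 * (i : ℕ) + j) 0)

set_option synthInstance.maxSize 4000 in
set_option synthInstance.maxHeartbeats 400000 in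
theorem col_forced : ∀ c45 : Fin 5, c45 ∉ ([3, 4, 1] : List (Fin 5)) →
    ∀ c15 : Fin 5, c15 ∉ ([0, 4, 1, c45] : List (Fin 5)) →
    ∀ c12 : Fin 5, c12 ∉ ([0, 1, 0, 1, c15] : List (Fin 5)) →
    ∀ c13 : Fin 5, c13 ∉ ([0, 2, 0, 1, c15, c12] : List (Fin 5)) →
    ∀ c25 : Fin 5, c25 ∉ ([1, 4, 0, c45, c15, c12] : List (Fin 5)) →
    ∀ c24 : Fin 5, c24 ∉ ([1, 3, 0, 1, c45, c12, c25] : List (Fin 5)) →
    ∀ c35 : Fin 5, c35 ∉ ([2, 4, 0, c45, c15, c13, c25] : List (Fin 5)) →
    ∀ c34 : Fin 5, c34 ∉ ([2, 3, 0, 1, c45, c13, c24, c35] : List (Fin 5)) →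
    c45 = 0 ∧ c15 = 2 ∧ c12 = 4 ∧ c13 = 3 ∧ c25 = 3 ∧ c24 = 2 ∧ c35 = 1 ∧ c34 = 4 := by
  decide +kernel

theorem col_eq (C : Fin 6 → Fin 6 → Fin 5) (hs : ∀ i j, i ≠ j → C i j = C j i)
    (hp : ∀ i j k, i ≠ j → i ≠ k → j ≠ k → C i j ≠ C i k) (h0 : ∀ k : Fin 5, C 0 k.succ = k)
    (h23 : C 2 3 = 0) (h14 : C 1 4 = 1) : ∀ i j, i ≠ j → C i j = col i j := by
  have a01 : C 0 1 = 0 := h0 0
  have a02 : C 0 2 = 1 := h0 1
  have a03 : C 0 3 = 2 := h0 2
  have a04 : C 0 4 = 3 := h0 3
  have a05 : C 0 5 = 4 := h0 4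
  have a23 : C 2 3 = 0 := h23
  have a14 : C 1 4 = 1 := h14
  obtain ⟨r45, r15, r12, r13, r25, r24, r35, r34⟩ := col_forced
    (C 4 5) (by
      simp only [List.mem_cons, List.not_mem_nil, or_false, not_or]
      exact ⟨fun e => hp 4 5 0 (by decide) (by decide) (by decide) (rfl.trans (e.trans ((hs 4 0 (by decide)).trans a04).symm)),
        fun e => hp 5 4 0 (by decide) (by decide) (by decide) ((hs 5 4 (by decide)).trans (e.trans ((hs 5 0 (by decide)).trans a05).symm)),
        fun e => hp 4 5 1 (by decide) (by decide) (by decide) (rfl.trans (e.trans ((hs 4 1 (by decide)).trans a14).symm))⟩)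
    (C 1 5) (by
      simp only [List.mem_cons, List.not_mem_nil, or_false, not_or]
      exact ⟨fun e => hp 1 5 0 (by decide) (by decide) (by decide) (rfl.trans (e.trans ((hs 1 0 (by decide)).trans a01).symm)),
        fun e => hp 5 1 0 (by decide) (by decide) (by decide) ((hs 5 1 (by decide)).trans (e.trans ((hs 5 0 (by decide)).trans a05).symm)),
        fun e => hp 1 5 4 (by decide) (by decide) (by decide) (rfl.trans (e.trans a14.symm)),
        fun e => hp 5 1 4 (by decide) (by decide) (by decide) ((hs 5 1 (by decide)).trans (e.trans (hs 5 4 (by decide)).symm))⟩)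
    (C 1 2) (by
      simp only [List.mem_cons, List.not_mem_nil, or_false, not_or]
      exact ⟨fun e => hp 1 2 0 (by decide) (by decide) (by decide) (rfl.trans (e.trans ((hs 1 0 (by decide)).trans a01).symm)),
        fun e => hp 2 1 0 (by decide) (by decide) (by decide) ((hs 2 1 (by decide)).trans (e.trans ((hs 2 0 (by decide)).trans a02).symm)),
        fun e => hp 2 1 3 (by decide) (by decide) (by decide) ((hs 2 1 (by decide)).trans (e.trans a23.symm)),
        fun e => hp 1 2 4 (by decide) (by decide) (by decide) (rfl.trans (e.trans a14.symm)),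
        fun e => hp 1 2 5 (by decide) (by decide) (by decide) (rfl.trans (e.trans rfl.symm))⟩)
    (C 1 3) (by
      simp only [List.mem_cons, List.not_mem_nil, or_false, not_or]
      exact ⟨fun e => hp 1 3 0 (by decide) (by decide) (by decide) (rfl.trans (e.trans ((hs 1 0 (by decide)).trans a01).symm)),
        fun e => hp 3 1 0 (by decide) (by decide) (by decide) ((hs 3 1 (by decide)).trans (e.trans ((hs 3 0 (by decide)).trans a03).symm)),
        fun e => hp 3 1 2 (by decide) (by decide) (by decide) ((hs 3 1 (by decide)).trans (e.trans ((hs 3 2 (by decide)).trans a23).symm)),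
        fun e => hp 1 3 4 (by decide) (by decide) (by decide) (rfl.trans (e.trans a14.symm)),
        fun e => hp 1 3 5 (by decide) (by decide) (by decide) (rfl.trans (e.trans rfl.symm)),
        fun e => hp 1 3 2 (by decide) (by decide) (by decide) (rfl.trans (e.trans rfl.symm))⟩)
    (C 2 5) (by
      simp only [List.mem_cons, List.not_mem_nil, or_false, not_or]
      exact ⟨fun e => hp 2 5 0 (by decide) (by decide) (by decide) (rfl.trans (e.trans ((hs 2 0 (by decide)).trans a02).symm)),
        fun e => hp 5 2 0 (by decide) (by decide) (by decide) ((hs 5 2 (by decide)).trans (e.trans ((hs 5 0 (by decide)).trans a05).symm)),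
        fun e => hp 2 5 3 (by decide) (by decide) (by decide) (rfl.trans (e.trans a23.symm)),
        fun e => hp 5 2 4 (by decide) (by decide) (by decide) ((hs 5 2 (by decide)).trans (e.trans (hs 5 4 (by decide)).symm)),
        fun e => hp 5 2 1 (by decide) (by decide) (by decide) ((hs 5 2 (by decide)).trans (e.trans (hs 5 1 (by decide)).symm)),
        fun e => hp 2 5 1 (by decide) (by decide) (by decide) (rfl.trans (e.trans (hs 2 1 (by decide)).symm))⟩)
    (C 2 4) (by
      simp only [List.mem_cons, List.not_mem_nil, or_false, not_or]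
      exact ⟨fun e => hp 2 4 0 (by decide) (by decide) (by decide) (rfl.trans (e.trans ((hs 2 0 (by decide)).trans a02).symm)),
        fun e => hp 4 2 0 (by decide) (by decide) (by decide) ((hs 4 2 (by decide)).trans (e.trans ((hs 4 0 (by decide)).trans a04).symm)),
        fun e => hp 2 4 3 (by decide) (by decide) (by decide) (rfl.trans (e.trans a23.symm)),
        fun e => hp 4 2 1 (by decide) (by decide) (by decide) ((hs 4 2 (by decide)).trans (e.trans ((hs 4 1 (by decide)).trans a14).symm)),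
        fun e => hp 4 2 5 (by decide) (by decide) (by decide) ((hs 4 2 (by decide)).trans (e.trans rfl.symm)),
        fun e => hp 2 4 1 (by decide) (by decide) (by decide) (rfl.trans (e.trans (hs 2 1 (by decide)).symm)),
        fun e => hp 2 4 5 (by decide) (by decide) (by decide) (rfl.trans (e.trans rfl.symm))⟩)
    (C 3 5) (by
      simp only [List.mem_cons, List.not_mem_nil, or_false, not_or]
      exact ⟨fun e => hp 3 5 0 (by decide) (by decide) (by decide) (rfl.trans (e.trans ((hs 3 0 (by decide)).trans a03).symm)),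
        fun e => hp 5 3 0 (by decide) (by decide) (by decide) ((hs 5 3 (by decide)).trans (e.trans ((hs 5 0 (by decide)).trans a05).symm)),
        fun e => hp 3 5 2 (by decide) (by decide) (by decide) (rfl.trans (e.trans ((hs 3 2 (by decide)).trans a23).symm)),
        fun e => hp 5 3 4 (by decide) (by decide) (by decide) ((hs 5 3 (by decide)).trans (e.trans (hs 5 4 (by decide)).symm)),
        fun e => hp 5 3 1 (by decide) (by decide) (by decide) ((hs 5 3 (by decide)).trans (e.trans (hs 5 1 (by decide)).symm)),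
        fun e => hp 3 5 1 (by decide) (by decide) (by decide) (rfl.trans (e.trans (hs 3 1 (by decide)).symm)),
        fun e => hp 5 3 2 (by decide) (by decide) (by decide) ((hs 5 3 (by decide)).trans (e.trans (hs 5 2 (by decide)).symm))⟩)
    (C 3 4) (by
      simp only [List.mem_cons, List.not_mem_nil, or_false, not_or]
      exact ⟨fun e => hp 3 4 0 (by decide) (by decide) (by decide) (rfl.trans (e.trans ((hs 3 0 (by decide)).trans a03).symm)),
        fun e => hp 4 3 0 (by decide) (by decide) (by decide) ((hs 4 3 (by decide)).trans (e.trans ((hs 4 0 (by decide)).trans a04).symm)),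
        fun e => hp 3 4 2 (by decide) (by decide) (by decide) (rfl.trans (e.trans ((hs 3 2 (by decide)).trans a23).symm)),
        fun e => hp 4 3 1 (by decide) (by decide) (by decide) ((hs 4 3 (by decide)).trans (e.trans ((hs 4 1 (by decide)).trans a14).symm)),
        fun e => hp 4 3 5 (by decide) (by decide) (by decide) ((hs 4 3 (by decide)).trans (e.trans rfl.symm)),
        fun e => hp 3 4 1 (by decide) (by decide) (by decide) (rfl.trans (e.trans (hs 3 1 (by decide)).symm)),
        fun e => hp 4 3 2 (by decide) (by decide) (by decide) ((hs 4 3 (by decide)).trans (e.trans (hs 4 2 (by decide)).symm)),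
        fun e => hp 3 4 5 (by decide) (by decide) (by decide) (rfl.trans (e.trans rfl.symm))⟩)
  intro i j hij
  rcases lt_or_gt_of_ne hij with h | h
  swap
  rw [hs i j hij]
  all_goals fin_cases i <;> fin_cases j <;>
    first | (exfalso; exact absurd h (by decide)) | (exfalso; exact hij rfl) |
      (simp only [Fin.zero_eta, Fin.mk_one, Fin.reduceFinMk, a01, a02, a03, a04, a05, a23, a14, r45, r15, r12, r13, r25, r24, r35, r34]; decide)

/-- The position in the array of a point outside the standard block. -/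
def aPos (i : Fin 6) : ℕ := [6, 7, 8, 11, 10, 9].getD i 0

/-- The position of a point of the standard block. -/
def yPos (k : Fin 5) : ℕ := [5, 4, 1, 2, 3].getD k 0

theorem seed_table : ∀ k ∈ seeds, mSet k = mSet 63 ∨ mSet k = mSet 4032 ∨ ∃ i j : Fin 6, i ≠ j ∧
    mSet k = insert (tpt 0) (insert (tpt (yPos (col i j))) (mSet 4032 \ {tpt (aPos i), tpt (aPos j)})) := by
  decide +kernel

theorem base_table : mSet 4032 = univ.image (fun i => tpt (aPos i)) ∧
    mSet 63 = insert (tpt 0) (univ.image fun k => tpt (yPos k)) := by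
  decide +kernel

variable {α : Type*} [Fintype α] [DecidableEq α] {B : Set (Finset α)}

theorem compl_mem (hα : Fintype.card α = 12) (hB : IsSteinerSystem 5 6 B) {b : Finset α} (hb : b ∈ B) :
    bᶜ ∈ B := by
  obtain ⟨c, hc⟩ := card_eq_one.1 (exactly12 hα hB hb ∅ (empty_subset b))
  have hc' : c ∈ (blocks B).filter fun c => b ∩ c = ∅ := by
    have := mem_singleton_self c
    rwa [← hc] at this
  rw [mem_filter, mem_blocks] at hc'
  have hd : c ⊆ bᶜ := fun x hx => mem_compl.2 fun hxb => by
    have : x ∈ b ∩ c := mem_inter.2 ⟨hxb, hx⟩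
    rw [hc'.2] at this; simp at this
  have : c = bᶜ := eq_of_subset_of_card_le hd (by
    rw [card_compl, hα, card_of_mem hB hb, card_of_mem hB hc'.1])
  exact this ▸ hc'.1

theorem exists_colour (hα : Fintype.card α = 12) (hB : IsSteinerSystem 5 6 B) {b : Finset α} (hb : b ∈ B)
    {x : α} (hx : x ∈ b) {p : Finset α} (hp : p ⊆ bᶜ) (hp2 : p.card = 2) :
    ∃ y ∈ b.erase x, insert x (insert y (bᶜ \ p)) ∈ B := by
  have hL : (bᶜ \ p).card = 4 := by
    rw [card_sdiff_of_subset hp, card_compl, hα, card_of_mem hB hb, hp2]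
  have hxL : x ∉ bᶜ \ p := fun h => mem_compl.1 (mem_sdiff.1 h).1 hx
  obtain ⟨c, ⟨hc, hsub⟩, -⟩ := hB.2 (insert x (bᶜ \ p)) (by rw [card_insert_of_notMem hxL, hL])
  have hxc : x ∈ c := hsub (mem_insert_self _ _)
  have hLc : bᶜ \ p ⊆ c := (subset_insert _ _).trans hsub
  have h6 := card_of_mem hB hc
  have hsplit : (b ∩ c).card + (c \ b).card = 6 := by
    rw [inter_comm, add_comm, card_sdiff_add_card_inter, h6]
  have hge : 4 ≤ (c \ b).card := hL ▸ card_le_card fun z hz =>
    mem_sdiff.2 ⟨hLc hz, mem_compl.1 (mem_sdiff.1 hz).1⟩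
  have hne : b ≠ c := fun e => by
    rw [← e, sdiff_self] at hge; simp at hge
  have h1 : 1 ≤ (b ∩ c).card := card_pos.2 ⟨x, mem_inter.2 ⟨hx, hxc⟩⟩
  have h2 : (b ∩ c).card = 2 := by
    rcases inter12 hα hB hb hc hne with h | h | h | h <;> omega
  obtain ⟨y, hy, hyx⟩ := exists_mem_ne (show 1 < (b ∩ c).card by omega) x
  refine ⟨y, mem_erase.2 ⟨hyx, (mem_inter.1 hy).1⟩, ?_⟩
  have hyL : y ∉ bᶜ \ p := fun h => mem_compl.1 (mem_sdiff.1 h).1 (mem_inter.1 hy).1
  have e : insert x (insert y (bᶜ \ p)) = c := eq_of_subset_of_card_le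
    (insert_subset hxc (insert_subset (mem_inter.1 hy).2 hLc)) (by
      rw [card_insert_of_notMem, card_insert_of_notMem hyL, hL, h6]
      rw [mem_insert, not_or]; exact ⟨hyx.symm, hxL⟩)
  rwa [e]

theorem colour_proper (hB : IsSteinerSystem 5 6 B) {b : Finset α} {x y a a' a'' : α} (hx : x ∈ b) (hy : y ∈ b)
    (hxy : x ≠ y) (hα : Fintype.card α = 12) (hb : b ∈ B) (ha : a ∈ bᶜ) (ha' : a' ∈ bᶜ) (ha'' : a'' ∈ bᶜ)
    (h1 : a ≠ a') (h2 : a ≠ a'') (h : insert x (insert y (bᶜ \ {a, a'})) ∈ B)
    (h' : insert x (insert y (bᶜ \ {a, a''})) ∈ B) : a' = a'' := by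
  by_contra hne
  have hL : (bᶜ \ {a, a', a''}).card = 3 := by
    rw [card_sdiff_of_subset (by
      intro z hz; simp only [mem_insert, mem_singleton] at hz; rcases hz with rfl | rfl | rfl <;> assumption),
      card_compl, hα, card_of_mem hB hb, card_eq_three.2 ⟨a, a', a'', h1, h2, hne, rfl⟩]
  have hn : ∀ z ∈ b, z ∉ bᶜ \ {a, a', a''} := fun z hz h => mem_compl.1 (mem_sdiff.1 h).1 hz
  have e := eq_of_inter hB h h' (by
    refine le_trans ?_ (card_le_card (s := insert x (insert y (bᶜ \ {a, a', a''}))) ?_)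
    · rw [card_insert_of_notMem, card_insert_of_notMem (hn y hy), hL]
      rw [mem_insert, not_or]; exact ⟨hxy, hn x hx⟩
    · intro z hz
      simp only [mem_insert, mem_inter, mem_sdiff, mem_singleton] at hz ⊢
      tauto)
  have : a'' ∈ insert x (insert y (bᶜ \ {a, a'})) := by
    refine mem_insert_of_mem (mem_insert_of_mem (mem_sdiff.2 ⟨ha'', ?_⟩))
    simp [h2.symm, Ne.symm hne]
  rw [e] at this
  simp only [mem_insert, mem_sdiff, mem_singleton] at this
  rcases this with r | r | r
  · exact mem_compl.1 ha'' (r ▸ hx)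
  · exact mem_compl.1 ha'' (r ▸ hy)
  · exact r.2 (by simp)

/-- The labelling of the positions. -/
def lab (x : α) (y : Fin 5 → α) (a : Fin 6 → α) : Fin 12 → α :=
  ![x, y 2, y 3, y 4, y 1, y 0, a 0, a 1, a 2, a 5, a 4, a 3]

theorem exists_iso (hα : Fintype.card α = 12) (hB : IsSteinerSystem 5 6 B) : SetSystemIso B hexads := by
  obtain ⟨s, -, hs⟩ := exists_subset_card_eq (s := (univ : Finset α)) (n := 5) (by rw [card_univ, hα]; norm_num)
  obtain ⟨b, ⟨hb, -⟩, -⟩ := hB.2 s hs
  obtain ⟨x, hx⟩ := card_pos.1 (show 0 < b.card by rw [card_of_mem hB hb]; norm_num)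
  set L := bᶜ with hLdef
  have hL6 : L.card = 6 := by rw [hLdef, card_compl, hα, card_of_mem hB hb]
  let T := {y // y ∈ b.erase x}
  have hT : Fintype.card T = 5 := by
    rw [Fintype.card_coe, card_erase_of_mem hx, card_of_mem hB hb]
  have hcol : ∀ u v : α, ∃ y : T, u ∈ L → v ∈ L → u ≠ v → insert x (insert (y : α) (L \ {u, v})) ∈ B := by
    intro u v
    by_cases h : u ∈ L ∧ v ∈ L ∧ u ≠ v
    · obtain ⟨y, hy, hyB⟩ := exists_colour hα hB hb hx (p := {u, v})
        (insert_subset h.1 (singleton_subset_iff.2 h.2.1)) (card_pair h.2.2)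
      exact ⟨⟨y, hy⟩, fun _ _ _ => hyB⟩
    · obtain ⟨y⟩ : Nonempty T := Fintype.card_pos_iff.1 (by omega)
      exact ⟨y, fun a b c => absurd ⟨a, b, c⟩ h⟩
  choose C hC using hcol
  have hin : ∀ y : T, (y : α) ∈ b ∧ x ≠ y := fun y => ⟨mem_of_mem_erase y.2, (ne_of_mem_erase y.2).symm⟩
  have hprop : ∀ {u v w}, u ∈ L → v ∈ L → w ∈ L → u ≠ v → u ≠ w → C u v = C u w → v = w :=
    fun {u v w} hu hv hw h1 h2 e => colour_proper hB hx (hin (C u v)).1 (hin (C u v)).2 hα hb hu hv hw h1 h2
      (hC u v hu hv h1) (e.symm ▸ hC u w hu hw h2)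
  have hsym : ∀ {u v}, u ∈ L → v ∈ L → u ≠ v → C u v = C v u := fun {u v} hu hv h => by
    by_contra hne
    have hn : ∀ y : T, (y : α) ∉ L \ {u, v} := fun y h => mem_compl.1 (mem_sdiff.1 h).1 (hin y).1
    have h2 := hC v u hv hu h.symm
    rw [pair_comm] at h2
    have hxn : x ∉ L \ {u, v} := fun h => mem_compl.1 (mem_sdiff.1 h).1 hx
    have e := eq_of_inter hB (hC u v hu hv h) h2 (by
      refine le_trans ?_ (card_le_card (s := insert x (L \ {u, v})) ?_)
      · rw [card_insert_of_notMem hxn, card_sdiff_of_subset (insert_subset hu (singleton_subset_iff.2 hv)),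
          hL6, card_pair h]
      · intro z hz
        simp only [mem_insert, mem_inter] at hz ⊢
        tauto)
    have hm : (C u v : α) ∈ insert x (insert (C v u : α) (L \ {u, v})) :=
      e ▸ mem_insert_of_mem (mem_insert_self _ _)
    simp only [mem_insert] at hm
    rcases hm with r | r | r
    · exact (hin _).2 r.symm
    · exact hne (Subtype.ext r)
    · exact hn _ r
  have hpartner : ∀ {u}, u ∈ L → ∀ k : T, ∃ v ∈ L, u ≠ v ∧ C u v = k := by
    intro u hu k
    have hinj : Function.Injective fun v : {v // v ∈ L.erase u} => C u v := fun v w e =>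
      Subtype.ext (hprop hu (mem_of_mem_erase v.2) (mem_of_mem_erase w.2) (ne_of_mem_erase v.2).symm
        (ne_of_mem_erase w.2).symm e)
    obtain ⟨v, hv⟩ := ((Fintype.bijective_iff_injective_and_card _).2
      ⟨hinj, by rw [Fintype.card_coe, hT, card_erase_of_mem hu, hL6]⟩).2 k
    exact ⟨v, mem_of_mem_erase v.2, (ne_of_mem_erase v.2).symm, hv⟩
  have hmore : ∀ S : Finset α, S.card < 6 → ∃ v ∈ L, v ∉ S := fun S hS =>
    exists_mem_notMem_of_card_lt_card (by omega)
  obtain ⟨a0, h0, -⟩ := hmore ∅ (by simp)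
  obtain ⟨a1, h1, h01⟩ := hmore {a0} (by simp)
  rw [mem_singleton] at h01
  obtain ⟨a2, h2, h2'⟩ := hmore {a0, a1} (lt_of_le_of_lt card_le_two (by norm_num))
  simp only [mem_insert, mem_singleton, not_or] at h2'
  obtain ⟨h20, h21⟩ := h2'
  obtain ⟨a3, h3, h23, e23⟩ := hpartner h2 (C a0 a1)
  obtain ⟨a4, h4, h14, e14⟩ := hpartner h1 (C a0 a2)
  have h30 : a3 ≠ a0 := fun e => h21 (hprop h0 h2 h1 (Ne.symm h20) (Ne.symm h01)
    ((hsym h0 h2 (Ne.symm h20)).trans (e ▸ e23)))
  have h31 : a3 ≠ a1 := fun e => h20 (hprop h1 h2 h0 (Ne.symm h21) h01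
    ((hsym h1 h2 (Ne.symm h21)).trans ((e ▸ e23).trans (hsym h0 h1 (Ne.symm h01)))))
  have h40 : a4 ≠ a0 := fun e => h21 (hprop h0 h2 h1 (Ne.symm h20) (Ne.symm h01)
    ((e ▸ e14).symm.trans (hsym h1 h0 h01)))
  have h42 : a4 ≠ a2 := fun e => h01 (hprop h2 h0 h1 h20 h21
    ((hsym h2 h0 h20).trans ((e ▸ e14).symm.trans (hsym h1 h2 (Ne.symm h21))))).symm
  have h43 : a4 ≠ a3 := by
    intro e
    have hne : C a0 a1 ≠ C a0 a2 := fun q => h21 (hprop h0 h1 h2 (Ne.symm h01) (Ne.symm h20) q).symm
    set R := L \ {a0, a1, a2, a3} with hR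
    have hR2 : R.card = 2 := by
      rw [hR, card_sdiff_of_subset (by
        intro z hz; simp only [mem_insert, mem_singleton] at hz; rcases hz with rfl | rfl | rfl | rfl <;> assumption),
        hL6, card_insert_of_notMem (by simp [Ne.symm h01, Ne.symm h20, Ne.symm h30]),
        card_eq_three.2 ⟨a1, a2, a3, Ne.symm h21, Ne.symm h31, h23, rfl⟩]
    obtain ⟨u, v, huv, huvR⟩ := card_eq_two.1 hR2
    have hu : u ∈ R := by rw [huvR]; exact mem_insert_self _ _
    obtain ⟨hu, hu'⟩ := mem_sdiff.1 hu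
    simp only [mem_insert, mem_singleton, not_or] at hu'
    obtain ⟨u0, u1, u2, u3⟩ := hu'
    rw [e] at e14
    obtain ⟨v', hv', huv', ev'⟩ := hpartner hu (C a0 a1)
    obtain ⟨w', hw', huw', ew'⟩ := hpartner hu (C a0 a2)
    have key : ∀ {z w k}, z ∈ L → w ∈ L → w ≠ z → u ≠ z → C u z = k → C w z = k → u = w := fun {z w k} hz hw a b p q =>
      hprop hz hu hw b.symm a.symm (((hsym hz hu b.symm).trans p).trans ((hsym hz hw a.symm).trans q).symm)
    have hvv : v' = v := by
      have : v' ∈ R := mem_sdiff.2 ⟨hv', by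
        simp only [mem_insert, mem_singleton, not_or]
        exact ⟨fun r => u1 (key h0 h1 h01 u0 (r ▸ ev') (hsym h1 h0 h01)),
          fun r => u0 (key h1 h0 (Ne.symm h01) u1 (r ▸ ev') rfl),
          fun r => u3 (key h2 h3 h23.symm u2 (r ▸ ev') ((hsym h3 h2 h23.symm).trans e23)),
          fun r => u2 (key h3 h2 h23 u3 (r ▸ ev') e23)⟩⟩
      rw [huvR, mem_insert, mem_singleton] at this
      exact this.resolve_left huv'.symm
    have hwv : w' = v := by
      have : w' ∈ R := mem_sdiff.2 ⟨hw', by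
        simp only [mem_insert, mem_singleton, not_or]
        exact ⟨fun r => u2 (key h0 h2 h20 u0 (r ▸ ew') (hsym h2 h0 h20)),
          fun r => u3 (key h1 h3 h31 u1 (r ▸ ew') ((hsym h3 h1 h31).trans e14)),
          fun r => u0 (key h2 h0 (Ne.symm h20) u2 (r ▸ ew') rfl),
          fun r => u1 (key h3 h1 (Ne.symm h31) u3 (r ▸ ew') e14)⟩⟩
      rw [huvR, mem_insert, mem_singleton] at this
      exact this.resolve_left huw'.symm
    exact hne (ev'.symm.trans ((hvv.trans hwv.symm) ▸ ew'))
  obtain ⟨a5, h5, h5'⟩ := hmore {a0, a1, a2, a3, a4} (lt_of_le_of_lt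
    (List.toFinset_card_le [a0, a1, a2, a3, a4] |>.trans' (le_of_eq (by congr 1; simp))) (by norm_num))
  simp only [mem_insert, mem_singleton, not_or] at h5'
  obtain ⟨h50, h51, h52, h53, h54⟩ := h5'
  let a : Fin 6 → α := ![a0, a1, a2, a3, a4, a5]
  have haL : ∀ i, a i ∈ L := by intro i; fin_cases i <;> simp [a, h0, h1, h2, h3, h4, h5]
  have ha : Function.Injective a := by
    intro i j e
    fin_cases i <;> fin_cases j <;>
      simp [a, h01, Ne.symm h01, h20, Ne.symm h20, h21, Ne.symm h21, h30, Ne.symm h30, h31, Ne.symm h31, h23,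
        Ne.symm h23, h40, Ne.symm h40, h14, Ne.symm h14, h42, Ne.symm h42, h43, Ne.symm h43, h50, Ne.symm h50,
        h51, Ne.symm h51, h52, Ne.symm h52, h53, Ne.symm h53, h54, Ne.symm h54] at e ⊢
  let y : Fin 5 → T := fun k => C a0 (a k.succ)
  have hyinj : Function.Injective y := fun k l e => Fin.succ_injective _ (ha
    (hprop h0 (haL _) (haL _) (ha.ne (Fin.succ_ne_zero k).symm) (ha.ne (Fin.succ_ne_zero l).symm) e))
  have hyb : Function.Bijective y := (Fintype.bijective_iff_injective_and_card _).2 ⟨hyinj, by simp [hT]⟩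
  set Y := Equiv.ofBijective y hyb with hY
  have hcolC : ∀ i j, i ≠ j → Y.symm (C (a i) (a j)) = col i j := by
    refine col_eq (fun i j => Y.symm (C (a i) (a j)))
      (fun i j h => congrArg Y.symm (hsym (haL i) (haL j) (ha.ne h)))
      (fun i j k hij hik hjk e => hjk (ha (hprop (haL i) (haL j) (haL k) (ha.ne hij) (ha.ne hik) (Y.symm.injective e))))
      (fun k => Y.symm_apply_apply k) ?_ ?_
    · rw [Equiv.symm_apply_eq]; exact e23
    · rw [Equiv.symm_apply_eq]; exact e14
  have hblock : ∀ i j, i ≠ j → insert x (insert (y (col i j) : α) (L \ {a i, a j})) ∈ B := fun i j h => by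
    rw [← hcolC i j h, show y (Y.symm (C (a i) (a j))) = C (a i) (a j) from Y.apply_symm_apply _]
    exact hC _ _ (haL i) (haL j) (ha.ne h)
  let g : ArrayPt → α := fun p => lab x (fun k => (y k : α)) a ⟨tidx p, tidx_lt p⟩
  have hg0 : g (tpt 0) = x := rfl
  have hgy : ∀ k, g (tpt (yPos k)) = (y k : α) := by intro k; fin_cases k <;> rfl
  have hga : ∀ i, g (tpt (aPos i)) = a i := by intro i; fin_cases i <;> rfl
  have himgA : univ.image a = L := eq_of_subset_of_card_le (fun z hz => by
    obtain ⟨i, -, rfl⟩ := mem_image.1 hz; exact haL i) (by rw [card_image_of_injective _ ha, hL6]; rfl)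
  have himgY : insert x (univ.image fun k => (y k : α)) = b := by
    refine eq_of_subset_of_card_le (insert_subset hx fun z hz => ?_) ?_
    · obtain ⟨k, -, rfl⟩ := mem_image.1 hz; exact (hin _).1
    · rw [card_insert_of_notMem, card_image_of_injective (f := fun k => (y k : α)) _ (fun k l e => hyinj (Subtype.ext e)), card_of_mem hB hb]
      · rfl
      · intro h; obtain ⟨k, -, e⟩ := mem_image.1 h; exact (hin (y k)).2 e.symm
  have hA4 : (mSet 4032).image g = L := by
    rw [base_table.1, image_image, ← himgA]; exact image_congr fun i _ => hga i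
  have hB6 : (mSet 63).image g = b := by
    rw [base_table.2, image_insert, image_image, hg0, ← himgY]
    exact congrArg (insert x) (image_congr fun k _ => hgy k)
  have hsurj : Function.Surjective g := fun z => by
    by_cases hz : z ∈ b
    · rw [← hB6] at hz; obtain ⟨p, -, e⟩ := mem_image.1 hz; exact ⟨p, e⟩
    · have hz' : z ∈ L := mem_compl.2 hz
      rw [← hA4] at hz'; obtain ⟨p, -, e⟩ := mem_image.1 hz'; exact ⟨p, e⟩
  let e : ArrayPt ≃ α := Equiv.ofBijective g
    ((Fintype.bijective_iff_surjective_and_card _).2 ⟨hsurj, hα.symm⟩)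
  have heg : ∀ s : Finset ArrayPt, s.image g = s.image e := fun s => rfl
  refine ⟨e.symm, eq_hexads ⟨?_, fun s hs => ?_⟩ fun k hk => ?_⟩
  · rintro _ ⟨c, hc, rfl⟩
    rw [card_image_of_injective _ e.symm.injective, card_of_mem hB hc]
  · obtain ⟨c, ⟨hc, hsub⟩, huniq⟩ := hB.2 (s.image e) (by rw [card_image_of_injective _ e.injective, hs])
    refine ⟨c.image e.symm, ⟨⟨c, hc, rfl⟩, fun z hz => mem_image.2 ⟨e z, hsub (mem_image_of_mem e hz),
      e.symm_apply_apply z⟩⟩, ?_⟩
    rintro _ ⟨⟨d, hd, rfl⟩, hsd⟩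
    refine congrArg (Finset.image e.symm) (huniq d ⟨hd, fun z hz => ?_⟩)
    obtain ⟨w, hw, rfl⟩ := mem_image.1 hz
    obtain ⟨v, hv, e'⟩ := mem_image.1 (hsd hw)
    rw [← e', Equiv.apply_symm_apply]; exact hv
  · suffices h : (mSet k).image g ∈ B from
      ⟨_, h, by rw [heg]; simp only [image_image, Equiv.symm_comp_self, image_id]⟩
    rcases seed_table k hk with r | r | ⟨i, j, hij, r⟩
    · rw [r, hB6]; exact hb
    · rw [r, hA4]; exact compl_mem hα hB hb
    · rw [r, heg, image_insert, image_insert, image_sdiff _ _ e.injective, image_insert, image_singleton, ← heg]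
      show insert (g (tpt 0)) (insert (g (tpt (yPos (col i j))))
        ((mSet 4032).image g \ {g (tpt (aPos i)), g (tpt (aPos j))})) ∈ B
      rw [hg0, hgy, hga, hga, hA4]
      exact hblock i j hij

/-- Uniqueness of the system of hexads. -/
theorem iso12 {β : Type*} [Fintype β] [DecidableEq β] {B' : Set (Finset β)} (hα : Fintype.card α = 12)
    (hβ : Fintype.card β = 12) (hB : IsSteinerSystem 5 6 B) (hB' : IsSteinerSystem 5 6 B') :
    SetSystemIso B B' :=
  iso_trans (exists_iso hα hB) (iso_symm (exists_iso hβ hB'))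

end Cfsg.Agent.Uniq12
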